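import Cfsg.Agent.Lib.SmallOrder.Basic

/-!
# Elementary lemmas on Sylow subgroups and their centralizers
-/

set_option autoImplicit false
set_option linter.unusedSectionVars false
set_option linter.style.haveILetI false

namespace CfsgLib.SmallSimpleGraph

variable {G : Type*} [Group G] [Finite G] {p : ℕ} [hp : Fact p.Prime]

/-- The order of a Sylow subgroup, from a factorisation of the group order. -/
theorem card_sylow_group {a m : ℕ} (hn : Nat.card G = p ^ a * m) (hm : ¬ p ∣ m) (P : Sylow p G) :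
    Nat.card (P : Subgroup G) = p ^ a := by
  have hm0 : m ≠ 0 := fun h => hm (h ▸ dvd_zero p)
  rw [P.card_eq_multiplicity, hn, Nat.factorization_mul (pow_ne_zero _ hp.out.ne_zero) hm0, Finsupp.add_apply,
    Nat.Prime.factorization_pow hp.out, Finsupp.single_eq_same, Nat.factorization_eq_zero_of_not_dvd hm, add_zero]

/-- The number of Sylow subgroups divides the cofactor and is `1` modulo `p`. -/
theorem card_sylow_facts {a m : ℕ} (hn : Nat.card G = p ^ a * m) (hm : ¬ p ∣ m) :
    Nat.card (Sylow p G) ∣ m ∧ Nat.card (Sylow p G) % p = 1 := by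
  obtain ⟨P⟩ := (inferInstance : Nonempty (Sylow p G))
  have h1 := (P : Subgroup G).card_mul_index
  rw [card_sylow_group hn hm P, hn] at h1
  refine ⟨Nat.eq_of_mul_eq_mul_left (pow_pos hp.out.pos a) h1 ▸ Sylow.card_dvd_index P, ?_⟩
  have h2 : Nat.card (Sylow p G) % p = 1 % p := card_sylow_modEq_one p G
  rwa [Nat.mod_eq_of_lt hp.out.one_lt] at h2

/-- Sylow subgroups inside `N` inject into those of `N`. -/
theorem card_sylow_le_of_forall_le {N : Subgroup G} (h : ∀ P : Sylow p G, (P : Subgroup G) ≤ N) :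
    Nat.card (Sylow p G) ≤ Nat.card (Sylow p N) :=
  Nat.card_le_card_of_injective (fun P => P.subtype (h P)) fun _ _ e => Sylow.subtype_injective e

/-- A `p`-subgroup lies in a normal subgroup of index prime to `p`. -/
theorem le_of_normal_of_not_dvd_index {K : Subgroup G} [K.Normal] (hK : ¬ p ∣ K.index) {P : Subgroup G}
    (hP : IsPGroup p P) : P ≤ K := by
  intro x hx
  have h1 : IsPGroup p (P.map (QuotientGroup.mk' K)) := hP.map _
  obtain ⟨n, hn⟩ := IsPGroup.iff_card.mp h1
  have h2 := Subgroup.card_subgroup_dvd_card (P.map (QuotientGroup.mk' K))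
  rw [hn, ← Subgroup.index_eq_card] at h2
  have hn0 : n = 0 := by
    by_contra h0
    exact hK ((dvd_pow_self p h0).trans h2)
  have hbot : P.map (QuotientGroup.mk' K) = ⊥ := Subgroup.card_eq_one.mp (by rw [hn, hn0, pow_zero])
  have h3 : QuotientGroup.mk' K x ∈ P.map (QuotientGroup.mk' K) := Subgroup.mem_map_of_mem _ hx
  rw [hbot, Subgroup.mem_bot] at h3
  exact (QuotientGroup.eq_one_iff x).mp h3

/-- A Sylow subgroup of order `p ^ 2` is abelian. -/
theorem comm_of_card_sq (P : Subgroup G) (hP : Nat.card P = p ^ 2) {a b : G} (ha : a ∈ P) (hb : b ∈ P) :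
    a * b = b * a :=
  congrArg Subtype.val ((IsPGroup.commGroupOfCardEqPrimeSq hP).mul_comm (⟨a, ha⟩ : P) ⟨b, hb⟩)

/-- A subgroup of prime order is abelian. -/
theorem comm_of_card_prime (P : Subgroup G) (hP : Nat.card P = p) {a b : G} (ha : a ∈ P) (hb : b ∈ P) :
    a * b = b * a := by
  haveI : IsCyclic P := isCyclic_of_prime_card hP
  exact congrArg Subtype.val ((IsCyclic.commGroup (α := P)).mul_comm (⟨a, ha⟩ : P) ⟨b, hb⟩)

/-- A `p`-group normalising a subgroup of prime order `q` with `q - 1` prime to `p` centralises it. -/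
theorem le_centralizer_of_le_normalizer_prime {q : ℕ} [Fact q.Prime] {P R : Subgroup G} (hP : IsPGroup p P)
    (hR : Nat.card R = q) (hpq : ¬ p ∣ q - 1) (h : P ≤ Subgroup.normalizer (R : Set G)) :
    P ≤ Subgroup.centralizer (R : Set G) := by
  haveI : IsCyclic R := isCyclic_of_prime_card hR
  let f : P →* MulAut R := (R.normalizerMonoidHom).comp (Subgroup.inclusion h)
  have h1 : IsPGroup p f.range := hP.of_surjective f.rangeRestrict f.rangeRestrict_surjective
  obtain ⟨n, hn⟩ := IsPGroup.iff_card.mp h1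
  have h2 := Subgroup.card_subgroup_dvd_card f.range
  rw [hn, IsCyclic.card_mulAut, hR, Nat.totient_prime (Fact.out : q.Prime)] at h2
  have hn0 : n = 0 := by
    by_contra h0
    exact hpq ((dvd_pow_self p h0).trans h2)
  have hbot : f.range = ⊥ := Subgroup.card_eq_one.mp (by rw [hn, hn0, pow_zero])
  intro x hx
  have h3 : f ⟨x, hx⟩ = 1 := by
    have : f ⟨x, hx⟩ ∈ f.range := ⟨_, rfl⟩
    rwa [hbot, Subgroup.mem_bot] at this
  have h4 : Subgroup.inclusion h ⟨x, hx⟩ ∈ (R.normalizerMonoidHom).ker := h3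
  rw [Subgroup.normalizerMonoidHom_ker, Subgroup.mem_subgroupOf] at h4
  exact h4

/-- A group of order `150` has a single Sylow `5`-subgroup. -/
theorem card_sylow_five_of_card_150 [Fact (Nat.Prime 5)] (hn : Nat.card G = 150) :
    Nat.card (Sylow 5 G) = 1 := by
  haveI : Fact (Nat.Prime 2) := ⟨Nat.prime_two⟩
  obtain ⟨Q⟩ := (inferInstance : Nonempty (Sylow 2 G))
  have hQ := card_sylow_group (p := 2) (a := 1) (m := 75) (by rw [hn]; norm_num) (by norm_num) Q
  rw [pow_one] at hQ
  haveI : IsCyclic (Q : Subgroup G) := isCyclic_of_prime_card hQ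
  have hmin : (Nat.card G).minFac = 2 := (Nat.minFac_eq_two_iff _).mpr (by rw [hn]; norm_num)
  have hle := IsCyclic.normalizer_le_centralizer hmin (P := Q) inferInstance
  set K := (MonoidHom.transferSylow Q hle).ker
  have hidx : K.index = 2 :=
    ((MonoidHom.ker_transferSylow_isComplement' Q hle).symm.index_eq_card).trans hQ
  have hK : Nat.card K = 75 := by
    have := K.card_mul_index
    rw [hidx, hn] at this; omega
  have hall : ∀ P : Sylow 5 G, (P : Subgroup G) ≤ K := fun P =>
    le_of_normal_of_not_dvd_index (p := 5) (by rw [hidx]; norm_num) P.isPGroup'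
  obtain ⟨h1, h2⟩ := card_sylow_facts (p := 5) (G := K) (a := 2) (m := 3) (by rw [hK]; norm_num) (by norm_num)
  have h3 := card_sylow_le_of_forall_le hall
  have h4 := Nat.le_of_dvd (by norm_num) h1
  have h5 : 0 < Nat.card (Sylow 5 G) := Nat.card_pos
  omega

end CfsgLib.SmallSimpleGraph
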