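import Cfsg.Agent.Lib.SmallSimpleGraph.Basic
import Cfsg.Agent.Lib.SylowNumber.Coprime
import Cfsg.Agent.Lib.Char.ItoMichler
import Cfsg.Agent.Lib.PSolvable.Core
import Cfsg.Agent.Lib.Fitting.Basic
import Cfsg.Prelude.Def_DegreeGraph

/-!
# Coprime action of a subgroup of prime order, and solvable groups with a degree divisible by `p`
-/

set_option autoImplicit false
set_option linter.unusedSectionVars false
set_option linter.style.haveILetI false

namespace CfsgLib.SmallSimpleGraph

open Cfsg CfsgLib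

/-- The only prime power divisor of `m` that is `1` modulo `p` is `Q`. -/
def Good (m p Q : ℕ) : Prop :=
  ∀ r i : ℕ, r.Prime → 0 < i → r ^ i ∣ m → r ^ i % p = 1 → r ^ i = Q

/-- A decidable form of `Good`. -/
theorem good_of_decide {m p Q : ℕ} (hm : m ≠ 0)
    (h : ∀ d < m + 1, 2 ≤ d → m % d = 0 → d % p = 1 → d = Q ∨
      ∃ a < d, 1 < a ∧ d % a = 0 ∧ 1 < d / a ∧ Nat.gcd a (d / a) = 1) : Good m p Q := by
  intro r i hr hi hdvd hmod
  have hle := Nat.le_of_dvd (Nat.pos_of_ne_zero hm) hdvd
  have h2 : 2 ≤ r ^ i := le_trans hr.two_le (Nat.le_self_pow hi.ne' r)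
  rcases h _ (Nat.lt_succ_of_le hle) h2 (Nat.mod_eq_zero_of_dvd hdvd) hmod with h | ⟨a, -, ha1, had, hb1, hg⟩
  · exact h
  exfalso
  have had' : a ∣ r ^ i := Nat.dvd_of_mod_eq_zero had
  obtain ⟨j, -, hj⟩ := (Nat.dvd_prime_pow hr).mp had'
  obtain ⟨l, -, hl⟩ := (Nat.dvd_prime_pow hr).mp (Nat.div_dvd_of_dvd had')
  have hra : r ∣ a := by
    rw [hj]
    refine dvd_pow_self r fun e => ?_
    rw [hj, e, pow_zero] at ha1
    omega
  have hrb : r ∣ r ^ i / a := by
    rw [hl]
    refine dvd_pow_self r fun e => ?_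
    rw [hl, e, pow_zero] at hb1
    omega
  have := Nat.dvd_gcd hra hrb
  rw [hg, Nat.dvd_one] at this
  exact hr.one_lt.ne' this

variable {G : Type*} [Group G] [Finite G] {p : ℕ} [hp : Fact p.Prime]

/-- A group of order `p` acting coprimely on `N`: the index of the fixed points is `1` or `Q`. -/
theorem relIndex_centralizer_cases {P N : Subgroup G} (hP : IsPGroup p P)
    (hPN : P ≤ Subgroup.normalizer (N : Set G)) (hN : ¬ p ∣ Nat.card N) {m Q : ℕ} (hNm : Nat.card N ∣ m)
    (hQ : Good m p Q) :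
    Nat.card N = Nat.card (N ⊓ Subgroup.centralizer (P : Set G) : Subgroup G) ∨
      Nat.card N = Q * Nat.card (N ⊓ Subgroup.centralizer (P : Set G) : Subgroup G) := by
  set C : Subgroup G := N ⊓ Subgroup.centralizer (P : Set G) with hC
  obtain ⟨k, hk⟩ := Subgroup.card_dvd_of_le (inf_le_left : C ≤ N)
  rcases Nat.eq_or_lt_of_le (Nat.one_le_iff_ne_zero.mpr (fun h => by
    rw [h, mul_zero] at hk; exact Nat.card_pos.ne' hk : k ≠ 0)) with h1 | h1
  · left; rw [hk, ← h1, mul_one]
  right
  have hk0 : k ≠ 0 := by omega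
  have key : ∀ r : ℕ, r.Prime → r ∣ k → r ^ k.factorization r = Q := by
    intro r hr hrk
    haveI := Fact.mk hr
    have h := SylowNumber.rpart_index_centralizer_mod (r := r) hP hPN hN
    rw [← hC, hk, Nat.factorization_mul Nat.card_pos.ne' hk0, Finsupp.add_apply, Nat.add_sub_cancel_left] at h
    refine hQ r _ hr (hr.factorization_pos_of_dvd hk0 hrk) ?_ h
    exact (Nat.ordProj_dvd k r).trans ((Dvd.intro_left _ hk.symm).trans hNm)
  obtain ⟨r, hr, hrk⟩ := Nat.exists_prime_and_dvd h1.ne'
  have hr0 := key r hr hrk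
  have hkQ : k = Q := by
    rw [← hr0]
    refine Nat.eq_of_factorization_eq hk0 (pow_ne_zero _ hr.ne_zero) fun s => ?_
    rw [hr.factorization_pow, Finsupp.single_apply]
    split_ifs with hs
    · rw [hs]
    by_contra hne
    have hs' : s.Prime ∧ s ∣ k := by
      refine ⟨?_, ?_⟩
      · by_contra h'
        exact hne (Nat.factorization_eq_zero_of_not_prime k h')
      · exact Nat.dvd_of_factorization_pos hne
    have hpos := hr.factorization_pos_of_dvd hk0 hrk
    exact hs ((Nat.prime_dvd_prime_iff_eq hr hs'.1).mp (hr.dvd_of_dvd_pow (by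
      rw [key s hs'.1 hs'.2, ← hr0]; exact dvd_pow_self r hpos.ne')))
  rw [hk, hkQ, mul_comm]

/-- Fixed points of full order: the action is trivial. -/
theorem le_centralizer_of_card_eq {P N : Subgroup G}
    (h : Nat.card N = Nat.card (N ⊓ Subgroup.centralizer (P : Set G) : Subgroup G)) :
    P ≤ Subgroup.centralizer (N : Set G) := by
  have he : N ⊓ Subgroup.centralizer (P : Set G) = N := Subgroup.eq_of_le_of_card_ge inf_le_left h.le
  intro x hx
  refine Subgroup.mem_centralizer_iff.mpr fun y hy => ?_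
  exact (Subgroup.mem_centralizer_iff.mp (Subgroup.mem_inf.mp (he.symm ▸ hy :
    y ∈ N ⊓ Subgroup.centralizer (P : Set G))).2 x hx).symm

/-- A degree divisible by `p` forbids a normal Sylow `p`-subgroup of order `p`. -/
theorem not_normal_of_mem_degreePrimes {r : ℕ} (hr : r ∈ Cfsg.degreePrimes G) (K : Subgroup G) [K.Normal]
    (hab : ∀ a ∈ K, ∀ b ∈ K, a * b = b * a) : r ∣ K.index := by
  obtain ⟨-, d, ⟨χ, rfl⟩, hd⟩ := hr
  by_contra h
  exact Char.ItoMichler.not_dvd_of_normal_abelian K hab h χ hd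

/-- A normal subgroup of order `p s` with `s ≤ p` is impossible when `p` is a degree prime. -/
theorem false_of_small_normal {n : ℕ} (hn : Nat.card G = p * n) (hpn : ¬ p ∣ n) (hdeg : p ∈ Cfsg.degreePrimes G)
    (K : Subgroup G) [K.Normal] (hpK : p ∣ Nat.card K) {s : ℕ} (hs : s ≠ 0) (hsp : s ≤ p)
    (hK : Nat.card K ∣ p * s) : False := by
  obtain ⟨k, hk⟩ := hpK
  rw [hk] at hK
  have hks : k ∣ s := Nat.dvd_of_mul_dvd_mul_left hp.out.pos hK
  have hk' : ¬ p ∣ k := fun h => hpn (by
    have h1 : p * k ∣ p * n := hk ▸ hn ▸ Subgroup.card_subgroup_dvd_card K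
    exact h.trans (Nat.dvd_of_mul_dvd_mul_left hp.out.pos h1))
  obtain ⟨h1, h2⟩ := card_sylow_facts (p := p) (G := K) (a := 1) (m := k) (by rw [hk, pow_one]) hk'
  have hk0 : 0 < k := Nat.pos_of_dvd_of_pos hks (Nat.pos_of_ne_zero hs)
  have h3 : Nat.card (Sylow p K) ≤ p :=
    le_trans (Nat.le_of_dvd hk0 h1) (le_trans (Nat.le_of_dvd (Nat.pos_of_ne_zero hs) hks) hsp)
  have h4 : Nat.card (Sylow p K) = 1 := by
    rcases h3.lt_or_eq with h | h
    · rwa [Nat.mod_eq_of_lt h] at h2
    · rw [h, Nat.mod_self] at h2; omega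
  haveI := (Nat.card_eq_one_iff_unique.mp h4).1
  obtain ⟨S⟩ := (inferInstance : Nonempty (Sylow p K))
  haveI : (S : Subgroup K).Characteristic := S.characteristic_of_subsingleton
  have hSc := card_sylow_group (p := p) (a := 1) (m := k) (by rw [hk, pow_one]) hk' S
  rw [pow_one] at hSc
  set R : Subgroup G := (S : Subgroup K).map K.subtype with hR
  haveI : R.Normal := ConjAct.normal_of_characteristic_of_normal
  have hRc : Nat.card R = p := by rw [hR, Subgroup.card_map_of_injective K.subtype_injective, hSc]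
  have hidx := R.card_mul_index
  rw [hRc, hn] at hidx
  have := not_normal_of_mem_degreePrimes hdeg R (fun a ha b hb => comm_of_card_prime R hRc ha hb)
  rw [Nat.eq_of_mul_eq_mul_left hp.out.pos hidx] at this
  exact hpn this

/-- A solvable group whose order allows no coprime action of `p`, apart from a fixed point free one on a
normal Sylow `q`-subgroup, does not have both `p` and `q` as degree primes. -/
theorem false_of_solvable [Group.IsSolvable G] {m : ℕ} (hn : Nat.card G = p * m) (hpm : ¬ p ∣ m)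
    (hdeg : p ∈ Cfsg.degreePrimes G) {q a : ℕ} (hq : q.Prime) (hgood : Good m p (q ^ a))
    (hqa : a ≠ 0 → ¬ q ^ (a + 1) ∣ p * m) (hqdeg : a ≠ 0 → q ∈ Cfsg.degreePrimes G) : False := by
  haveI := Fitting.fittingSubgroup_normal (G := G)
  haveI := Fitting.fittingSubgroup_isNilpotent (G := G)
  set F := Cfsg.fittingSubgroup G with hF
  obtain ⟨P⟩ := (inferInstance : Nonempty (Sylow p G))
  have hPc : Nat.card (P : Subgroup G) = p := by
    rw [card_sylow_group (a := 1) (m := m) (by rw [hn, pow_one]) hpm P, pow_one]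
  have hsub : ∀ r : ℕ, r.Prime → ∃ R : Subgroup G, R.Normal ∧ R ≤ F ∧
      Nat.card R = r ^ (Nat.card F).factorization r := by
    intro r hr
    haveI := Fact.mk hr
    obtain ⟨S⟩ := (inferInstance : Nonempty (Sylow r F))
    haveI : (S : Subgroup F).Normal := inferInstance
    haveI : (S : Subgroup F).Characteristic := S.characteristic_of_normal inferInstance
    refine ⟨(S : Subgroup F).map F.subtype, ConjAct.normal_of_characteristic_of_normal, Subgroup.map_subtype_le _, ?_⟩
    rw [Subgroup.card_map_of_injective F.subtype_injective, S.card_eq_multiplicity]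
  have hFdvd : Nat.card F ∣ p * m := hn ▸ Subgroup.card_subgroup_dvd_card F
  have hpF : ¬ p ∣ Nat.card F := by
    intro h
    obtain ⟨R, hRn, -, hRc⟩ := hsub p hp.out
    haveI := hRn
    have hf : (Nat.card F).factorization p = 1 := by
      have h1 := hp.out.factorization_pos_of_dvd Nat.card_pos.ne' h
      by_contra hne
      have h2 : p ^ 2 ∣ p * m :=
        ((Nat.pow_dvd_pow p (show 2 ≤ (Nat.card F).factorization p by omega)).trans (Nat.ordProj_dvd _ _)).trans hFdvd
      rw [pow_two] at h2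
      exact hpm (Nat.dvd_of_mul_dvd_mul_left hp.out.pos h2)
    rw [hf, pow_one] at hRc
    exact false_of_small_normal hn hpm hdeg R (hRc ▸ dvd_rfl) one_ne_zero hp.out.one_lt.le
      (by rw [hRc, mul_one])
  have hFm : Nat.card F ∣ m :=
    ((hp.out.coprime_iff_not_dvd.mpr hpF).symm).dvd_of_dvd_mul_left hFdvd
  have hnorm : ∀ N : Subgroup G, N.Normal → (P : Subgroup G) ≤ Subgroup.normalizer (N : Set G) := fun N hN => by
    haveI := hN
    rw [Subgroup.normalizer_eq_top]; exact le_top
  have hmove : ¬ (P : Subgroup G) ≤ Subgroup.centralizer (F : Set G) := fun h => by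
    have := Subgroup.card_dvd_of_le (h.trans PSolvable.centralizer_fittingSubgroup_le)
    rw [hPc] at this
    exact hpF this
  rcases relIndex_centralizer_cases P.isPGroup' (hnorm F inferInstance) hpF hFm hgood with h | h
  · exact hmove (le_centralizer_of_card_eq h)
  -- the exceptional prime
  have ha : a ≠ 0 := fun ha => hmove (le_centralizer_of_card_eq (by rw [h, ha, pow_zero, one_mul]))
  haveI := Fact.mk hq
  obtain ⟨R, hRn, hRF, hRc⟩ := hsub q hq
  haveI := hRn
  have hfq : (Nat.card F).factorization q = a := by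
    refine le_antisymm ?_ ((hq.pow_dvd_iff_le_factorization Nat.card_pos.ne').mp (Dvd.intro _ h.symm))
    by_contra hlt
    exact hqa ha (((Nat.pow_dvd_pow q (show a + 1 ≤ (Nat.card F).factorization q by omega)).trans
      (Nat.ordProj_dvd _ _)).trans hFdvd)
  rw [hfq] at hRc
  have hfix : R ⊓ Subgroup.centralizer ((P : Subgroup G) : Set G) = ⊥ := by
    refine Subgroup.card_eq_one.mp ?_
    have h1 : Nat.card (R ⊓ Subgroup.centralizer ((P : Subgroup G) : Set G) : Subgroup G) ∣ q ^ a :=
      hRc ▸ Subgroup.card_dvd_of_le inf_le_left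
    have h2 : Nat.card (R ⊓ Subgroup.centralizer ((P : Subgroup G) : Set G) : Subgroup G) ∣
        Nat.card (F ⊓ Subgroup.centralizer ((P : Subgroup G) : Set G) : Subgroup G) :=
      Subgroup.card_dvd_of_le (inf_le_inf_right _ hRF)
    obtain ⟨j, -, hj⟩ := (Nat.dvd_prime_pow hq).mp h1
    rw [hj]
    rcases j with _ | j
    · rw [pow_zero]
    exfalso
    rw [hj] at h2
    have h3 : q ^ (a + 1) ∣ Nat.card F := by
      rw [h, pow_succ]
      exact mul_dvd_mul_left _ ((dvd_pow_self q (Nat.succ_ne_zero j)).trans h2)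
    have := (hq.pow_dvd_iff_le_factorization Nat.card_pos.ne').mp h3
    omega
  -- the centre of `R` is all of `R`
  set Z : Subgroup G := (Subgroup.center R).map R.subtype with hZ
  haveI : Z.Normal := ConjAct.normal_of_characteristic_of_normal
  have hZR : Z ≤ R := Subgroup.map_subtype_le _
  haveI : Nontrivial R := Finite.one_lt_card_iff_nontrivial.mp (hRc ▸ Nat.one_lt_pow ha hq.one_lt)
  haveI : Nontrivial (Subgroup.center R) := (IsPGroup.of_card hRc).center_nontrivial
  have hZ1 : Nat.card Z ≠ 1 := by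
    rw [hZ, Subgroup.card_map_of_injective R.subtype_injective]
    exact Finite.one_lt_card.ne'
  have hpZ : ¬ p ∣ Nat.card Z := fun h' => hpF (h'.trans (Subgroup.card_dvd_of_le (hZR.trans hRF)))
  have hZC : Nat.card (Z ⊓ Subgroup.centralizer ((P : Subgroup G) : Set G) : Subgroup G) = 1 := by
    have hbot : Z ⊓ Subgroup.centralizer ((P : Subgroup G) : Set G) = ⊥ :=
      eq_bot_iff.mpr ((inf_le_inf_right _ hZR).trans hfix.le)
    rw [hbot, Subgroup.card_bot]
  rcases relIndex_centralizer_cases P.isPGroup' (hnorm Z inferInstance) hpZ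
    ((Subgroup.card_dvd_of_le (hZR.trans hRF)).trans hFm) hgood with h' | h'
  · exact hZ1 (h'.trans hZC)
  rw [hZC, mul_one] at h'
  have hZR' : Z = R := Subgroup.eq_of_le_of_card_ge hZR (by rw [hRc, h'])
  have hidx := not_normal_of_mem_degreePrimes (hqdeg ha) R fun x hx y hy => by
    rw [← hZR'] at hy
    obtain ⟨z, hz, rfl⟩ := hy
    exact congrArg Subtype.val (Subgroup.mem_center_iff.mp hz ⟨x, hx⟩)
  refine hqa ha ?_
  rw [← hn, ← R.card_mul_index, hRc, pow_succ]
  exact mul_dvd_mul_left _ hidx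

end CfsgLib.SmallSimpleGraph
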