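import Cfsg.Agent.Lib.SmallSimpleGraph.Orders
import Cfsg.Agent.Lib.PerfectCompl.Nonsolvable
import Cfsg.Agent.Lib.Transfer.AbelianSylow
import Cfsg.Agent.S0144

/-!
# The perfect core of a non-solvable group of small order, and lemmas on perfect groups
-/

set_option autoImplicit false
set_option linter.unusedSectionVars false
set_option linter.style.haveILetI false

namespace CfsgLib.SmallSimpleGraph

open scoped commutatorElement

universe u

variable {G : Type u} [Group G] [Finite G]

/-- The orders of the non-abelian simple groups below 6000. -/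
def smallOrders : List ℕ := [60, 168, 360, 504, 660, 1092, 2448, 2520, 3420, 4080, 5616]

/-- A perfect normal subgroup `H` with largest proper normal subgroup `M`, `|H : M| = t`. -/
structure Core (G : Type u) [Group G] where
  H : Subgroup G
  M : Subgroup G
  t : ℕ
  hH : H.Normal
  hM : M.Normal
  hperf : commutator H = ⊤
  le : M ≤ H
  card_H : Nat.card H = t * Nat.card M
  t_mem : t ∈ smallOrders
  simple : IsSimpleGroup (H ⧸ M.subgroupOf H)
  noncomm : ¬ IsMulCommutative (H ⧸ M.subgroupOf H)
  max : ∀ K : Subgroup G, K.Normal → K ≤ H → K ≠ H → K ≤ M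

theorem key_product : ∀ n ∈ smallOrders, ∀ t ∈ smallOrders, ∀ t' ∈ smallOrders, ¬ t * t' ∣ n := by
  decide +kernel

/-- Proper subgroups of a perfect group have index at least five. -/
theorem eq_top_of_index_le_four (hperf : commutator G = ⊤) {H : Subgroup G} (hH : H.index ≤ 4) : H = ⊤ := by
  classical
  let f : G →* Equiv.Perm (G ⧸ H) := MulAction.toPermHom G (G ⧸ H)
  haveI hsolv : Group.IsSolvable f.range := by
    have hc : Nat.card (G ⧸ H) ≤ 4 := by rwa [← Subgroup.index_eq_card]
    have h24 : Nat.card f.range ∣ 2 ^ 3 * 3 := by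
      refine (Subgroup.card_subgroup_dvd_card f.range).trans ?_
      rw [Nat.card_perm]
      exact (Nat.factorial_dvd_factorial hc).trans (by norm_num [Nat.factorial])
    obtain ⟨x, y, hx, hy, hxy⟩ := Nat.dvd_mul.mp h24
    obtain ⟨i, -, rfl⟩ := (Nat.dvd_prime_pow Nat.prime_two).mp hx
    obtain ⟨j, -, rfl⟩ := (Nat.dvd_prime_pow Nat.prime_three).mp (show y ∣ 3 ^ 1 by rwa [pow_one])
    exact Cfsg.Agent.S0144.result 2 3 i j Nat.prime_two Nat.prime_three hxy.symm
  have hp : commutator f.range = ⊤ := by
    rw [eq_top_iff, ← Subgroup.map_top_of_surjective f.rangeRestrict f.rangeRestrict_surjective,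
      ← hperf, commutator_def, Subgroup.map_commutator]
    exact Subgroup.commutator_mono le_top le_top
  have hsub : Subsingleton f.range := by
    by_contra h
    rw [not_subsingleton_iff_nontrivial] at h
    exact (Group.IsSolvable.commutator_lt_top_of_nontrivial f.range).ne hp
  refine (Subgroup.eq_top_iff' H).mpr fun g => ?_
  have h1 : f g = 1 := congrArg Subtype.val (Subsingleton.elim (f.rangeRestrict g) 1)
  have h2 : g • ((1 : G) : G ⧸ H) = ((1 : G) : G ⧸ H) := Equiv.congr_fun h1 ((1 : G) : G ⧸ H)
  rw [MulAction.Quotient.smul_mk, QuotientGroup.eq] at h2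
  simpa using h2

/-- In a perfect group an abelian Sylow subgroup contains no central element but `1`. -/
theorem eq_one_of_central {p : ℕ} [Fact p.Prime] (hperf : commutator G = ⊤) (P : Sylow p G)
    (hP : ∀ a ∈ (P : Subgroup G), ∀ b ∈ (P : Subgroup G), a * b = b * a) {x : G}
    (hx : x ∈ (P : Subgroup G)) (hc : x ∈ Subgroup.center G) : x = 1 :=
  Transfer.eq_one_of_abelian_sylow P ⟨⟨fun a b => Subtype.ext (hP a a.2 b b.2)⟩⟩ hx
    (fun n _ => Subgroup.mem_center_iff.mp hc n) (hperf ▸ Subgroup.mem_top x)

/-- A cyclic normal subgroup of a perfect group is central. -/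
theorem le_center_of_cyclic (hperf : commutator G = ⊤) (K : Subgroup G) [K.Normal] [IsCyclic K] :
    K ≤ Subgroup.center G := by
  let φ : G →* MulAut K := MulAut.conjNormal
  have hker : commutator G ≤ φ.ker := by
    rw [commutator_def, Subgroup.commutator_le]
    intro a _ b _
    rw [MonoidHom.mem_ker, map_commutatorElement, commutatorElement_eq_one_iff_mul_comm]
    obtain ⟨m, hm⟩ := IsCyclic.exists_generator (α := K)
    have key : ∀ f g : MulAut K, f * g = g * f := fun f g => by
      have hpow : ∀ h : MulAut K, ∃ i : ℤ, ∀ y : K, h y = y ^ i := fun h => by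
        obtain ⟨i, hi⟩ := Subgroup.mem_zpowers_iff.mp (hm (h m))
        refine ⟨i, fun y => ?_⟩
        obtain ⟨j, rfl⟩ := Subgroup.mem_zpowers_iff.mp (hm y)
        rw [map_zpow, ← hi, ← zpow_mul, ← zpow_mul, mul_comm]
      obtain ⟨i, hi⟩ := hpow f
      obtain ⟨j, hj⟩ := hpow g
      refine MulEquiv.ext fun y => ?_
      rw [MulAut.mul_apply, MulAut.mul_apply, hi, hj, hj, hi, ← zpow_mul, ← zpow_mul, mul_comm]
    exact key _ _
  intro x hx
  refine Subgroup.mem_center_iff.mpr fun g => ?_
  have h : φ g = 1 := hker (hperf ▸ Subgroup.mem_top g)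
  have h' : g * x * g⁻¹ = x := by
    have := congrArg Subtype.val (MulEquiv.congr_fun h (⟨x, hx⟩ : K))
    rwa [MulAut.conjNormal_apply] at this
  exact mul_inv_eq_iff_eq_mul.mp h'

/-- A non-solvable group of one of the small orders has a core. -/
theorem exists_core (hn : Nat.card G ∈ smallOrders) (hns : ¬ Group.IsSolvable G) : Nonempty (Core G) := by
  classical
  obtain ⟨H, hHn, hH1, hperf⟩ := PerfectCompl.exists_perfect_core hns
  haveI := hHn
  haveI : Nontrivial H := (Subgroup.nontrivial_iff_ne_bot _).mpr hH1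
  have hH6 : Nat.card H ∣ Nat.card G := Subgroup.card_subgroup_dvd_card H
  have hlt : Nat.card G < 6000 := by
    have : ∀ n ∈ smallOrders, n < 6000 := by decide
    exact this _ hn
  set S := {M : Subgroup H | M.Normal ∧ M ≠ ⊤} with hS
  -- a maximal element gives a simple quotient
  have hquot : ∀ M, Maximal (· ∈ S) M → ∀ hMn : M.Normal, haveI := hMn; IsSimpleGroup (H ⧸ M) ∧
      ¬ IsMulCommutative (H ⧸ M) ∧ M.index ∈ smallOrders := by
    intro M hM hMn
    obtain ⟨⟨-, hMne⟩, hmax⟩ := hM
    haveI := hMn
    haveI : Nontrivial (H ⧸ M) := QuotientGroup.nontrivial_iff.mpr hMne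
    have hsimp : IsSimpleGroup (H ⧸ M) := by
      refine ⟨fun K hK => ?_⟩
      haveI := hK
      have hle : M ≤ K.comap (QuotientGroup.mk' M) := by
        intro x hx
        rw [Subgroup.mem_comap, QuotientGroup.mk'_apply, (QuotientGroup.eq_one_iff x).mpr hx]
        exact one_mem K
      by_cases ht : K.comap (QuotientGroup.mk' M) = ⊤
      · exact Or.inr (Subgroup.comap_injective (QuotientGroup.mk'_surjective M) (by rw [ht, Subgroup.comap_top]))
      · have := le_antisymm hle (hmax ⟨inferInstance, ht⟩ hle)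
        exact Or.inl (Subgroup.comap_injective (QuotientGroup.mk'_surjective M)
          (by rw [← this, MonoidHom.comap_bot, QuotientGroup.ker_mk']))
    have hnc : ¬ IsMulCommutative (H ⧸ M) := fun hc => by
      apply hMne
      rw [eq_top_iff, ← hperf, commutator_def, Subgroup.commutator_le]
      intro a _ b _
      rw [← QuotientGroup.eq_one_iff]
      show QuotientGroup.mk' M ⁅a, b⁆ = 1
      rw [map_commutatorElement, commutatorElement_eq_one_iff_mul_comm]
      exact hc.is_comm.comm _ _
    refine ⟨hsimp, hnc, ?_⟩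
    haveI := hsimp
    have hle : Nat.card (H ⧸ M) < 6000 := lt_of_le_of_lt
      (Nat.le_of_dvd Nat.card_pos ((Subgroup.card_quotient_dvd_card M).trans hH6)) hlt
    rw [Subgroup.index_eq_card]
    exact orders_lt_6000 hnc hle
  -- it is unique
  have huniq : ∀ M M', Maximal (· ∈ S) M → Maximal (· ∈ S) M' → M' = M := by
    intro M M' hM hM'
    haveI := hM.prop.1
    haveI := hM'.prop.1
    by_contra hne
    have hsup : M ⊔ M' = ⊤ := by
      by_contra h
      have hmem : (M ⊔ M') ∈ S := ⟨inferInstance, h⟩
      exact hne (le_antisymm (le_sup_right.trans (hM.le_of_ge hmem le_sup_left))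
        (le_sup_left.trans (hM'.le_of_ge hmem le_sup_right)))
    have hprod : (M ⊓ M').index = M.index * M'.index := by
      have h1 : (M ⊓ M').relIndex M = M'.index := by
        rw [Subgroup.inf_relIndex_left, ← Subgroup.relIndex_sup_right, hsup, Subgroup.relIndex_top_right]
      rw [← Subgroup.relIndex_mul_index (inf_le_left : M ⊓ M' ≤ M), h1, mul_comm]
    have hdvd : M.index * M'.index ∣ Nat.card G :=
      hprod ▸ (Subgroup.index_dvd_card _).trans hH6
    exact key_product _ hn _ (hquot M hM hM.prop.1).2.2 _ (hquot M' hM' hM'.prop.1).2.2 hdvd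
  obtain ⟨M, hM⟩ := Set.Finite.exists_maximal (s := S) (Set.toFinite _) ⟨⊥, inferInstance, bot_ne_top⟩
  haveI := hM.prop.1
  obtain ⟨hsimp, hnc, ht⟩ := hquot M hM hM.prop.1
  haveI : M.Characteristic := by
    rw [Subgroup.characteristic_iff_map_eq]
    intro f
    refine huniq M _ hM ⟨⟨hM.prop.1.map _ f.surjective, fun h => hM.prop.2 ?_⟩, fun K hK hle => ?_⟩
    · exact Subgroup.map_injective f.injective (h.trans (Subgroup.map_top_of_surjective f.toMonoidHom f.surjective).symm)
    · haveI := hK.1
      have hK' : K.map f.symm.toMonoidHom ∈ S := by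
        refine ⟨hK.1.map _ f.symm.surjective, fun h => hK.2 ?_⟩
        exact Subgroup.map_injective f.symm.injective (h.trans (Subgroup.map_top_of_surjective f.symm.toMonoidHom f.symm.surjective).symm)
      intro x hx
      refine ⟨f.symm x, hM.le_of_ge hK' (fun y hy => ⟨f y, hle (Subgroup.mem_map_of_mem _ hy), by simp⟩)
        (Subgroup.mem_map_of_mem _ hx), by simp⟩
  have hcomap : (M.map H.subtype).subgroupOf H = M := by
    rw [Subgroup.subgroupOf, Subgroup.comap_map_eq_self_of_injective H.subtype_injective]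
  refine ⟨⟨H, M.map H.subtype, M.index, hHn, ConjAct.normal_of_characteristic_of_normal, hperf,
    Subgroup.map_subtype_le _, ?_, ht, ?_, ?_, ?_⟩⟩
  · rw [Subgroup.card_map_of_injective H.subtype_injective, mul_comm, M.card_mul_index]
  · haveI : Nontrivial (H ⧸ (M.map H.subtype).subgroupOf H) :=
      (QuotientGroup.quotientMulEquivOfEq hcomap.symm).toEquiv.symm.nontrivial
    exact (IsSimpleGroup.isSimpleGroup_of_surjective
      (QuotientGroup.quotientMulEquivOfEq hcomap.symm).toMonoidHom (MulEquiv.surjective _))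
  · intro hc
    refine hnc ⟨⟨fun a b => (QuotientGroup.quotientMulEquivOfEq hcomap.symm).injective ?_⟩⟩
    rw [map_mul, map_mul]
    exact hc.is_comm.comm _ _
  · intro K hK hKH hne
    haveI := hK
    have hmem : K.subgroupOf H ∈ S := ⟨inferInstance, fun h => hne (le_antisymm hKH
      (Subgroup.subgroupOf_eq_top.mp h))⟩
    obtain ⟨M', hle', hM'⟩ := Set.Finite.exists_le_maximal (Set.toFinite S) hmem
    rw [huniq M M' hM hM'] at hle'
    intro x hx
    exact ⟨⟨x, hKH hx⟩, hle' (Subgroup.mem_subgroupOf.mpr hx), rfl⟩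

end CfsgLib.SmallSimpleGraph
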