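import Cfsg.Agent.Lib.SmallSimpleGraph.Coprime
import Cfsg.Agent.Lib.SmallSimpleGraph.CoreStructure

/-!
# Non-solvable groups with the degree graph of a small simple group: the general step
-/

set_option autoImplicit false
set_option synthInstance.maxSize 2000
set_option synthInstance.maxHeartbeats 200000
set_option linter.unusedSectionVars false
set_option linter.style.haveILetI false

namespace CfsgLib.SmallSimpleGraph

open Cfsg CfsgLib

universe u

variable {G : Type u} [Group G] [Finite G]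

/-- A core with `t = |G|` makes `G` simple. -/
theorem Core.isSimpleGroup (c : Core G) (h : c.t = Nat.card G) : IsSimpleGroup G := by
  haveI := c.hM
  haveI := c.simple
  have h1 : Nat.card c.H ∣ Nat.card G := Subgroup.card_subgroup_dvd_card c.H
  rw [c.card_H, h] at h1
  have hM : Nat.card c.M = 1 := by
    obtain ⟨k, hk⟩ := h1
    have hpos : 0 < Nat.card G := Nat.card_pos
    exact Nat.eq_one_of_mul_eq_one_right
      (Nat.eq_of_mul_eq_mul_left hpos (by rw [mul_one, ← mul_assoc]; exact hk.symm) : Nat.card c.M * k = 1)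
  have hH : c.H = ⊤ := Subgroup.eq_top_of_card_eq _ (by rw [c.card_H, hM, mul_one, h])
  have hbot : c.M = ⊥ := Subgroup.card_eq_one.mp hM
  let e : G ≃* c.H ⧸ c.M.subgroupOf c.H :=
    ((Subgroup.topEquiv.symm.trans (MulEquiv.subgroupCongr hH.symm)).trans
      (QuotientGroup.quotientBot (G := c.H)).symm).trans
      (QuotientGroup.quotientMulEquivOfEq (by rw [hbot, Subgroup.bot_subgroupOf]))
  haveI : Nontrivial G := e.toEquiv.nontrivial
  exact IsSimpleGroup.isSimpleGroup_of_surjective e.symm.toMonoidHom e.symm.surjective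

/-- The centralizer of the core: `t |C(H)|` divides `|G|`, and it meets `H` in `M`. -/
theorem Core.centralizer_facts (c : Core G) :
    Subgroup.centralizer (c.H : Set G) ⊓ c.H ≤ c.M ∧
      c.t * Nat.card (Subgroup.centralizer (c.H : Set G)) ∣ Nat.card G := by
  haveI := c.hH
  haveI := c.hM
  set C := Subgroup.centralizer (c.H : Set G) with hC
  have hle : C ⊓ c.H ≤ c.M := by
    refine c.max _ (Subgroup.normal_inf_normal _ _) inf_le_right fun h => c.noncomm ?_
    refine ⟨⟨fun a b => ?_⟩⟩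
    obtain ⟨a, rfl⟩ := QuotientGroup.mk_surjective a
    obtain ⟨b, rfl⟩ := QuotientGroup.mk_surjective b
    rw [← QuotientGroup.mk_mul, ← QuotientGroup.mk_mul]
    refine congrArg _ (Subtype.ext ?_)
    exact (Subgroup.mem_centralizer_iff.mp
      (show (a : G) ∈ C from (Subgroup.mem_inf.mp (h.symm ▸ a.2 : (a : G) ∈ C ⊓ c.H)).1) b b.2).symm
  refine ⟨hle, ?_⟩
  have hcm : ∀ A B : Subgroup G, Nat.card ↥(A ⊓ B) * A.relIndex B = Nat.card B := fun A B => by
    have h := (A.subgroupOf B).card_mul_index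
    rw [← Nat.card_congr (Subgroup.equivMapOfInjective (A.subgroupOf B) B.subtype
      B.subtype_injective).toEquiv.symm, Subgroup.subgroupOf_map_subtype] at h
    exact h
  have h1 := hcm c.H C
  have h2 := hcm c.H (C ⊔ c.H)
  rw [inf_eq_left.mpr le_sup_right, Subgroup.relIndex_sup_right] at h2
  have h3 : Nat.card (c.H ⊓ C : Subgroup G) ∣ Nat.card c.M :=
    Subgroup.card_dvd_of_le (inf_comm c.H C ▸ hle)
  calc c.t * Nat.card C = c.t * (Nat.card (c.H ⊓ C : Subgroup G) * c.H.relIndex C) := by rw [h1]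
    _ ∣ c.t * (Nat.card c.M * c.H.relIndex C) := mul_dvd_mul_left _ (mul_dvd_mul_right h3 _)
    _ = Nat.card (C ⊔ c.H : Subgroup G) := by rw [← mul_assoc, ← c.card_H, h2]
    _ ∣ Nat.card G := Subgroup.card_subgroup_dvd_card _

/-- The general step: a prime `p` of `|G| / t` not dividing `t` gives a contradiction unless it acts
on the core with fixed points of index `Q`. -/
theorem Core.exceptional (c : Core G) {p m s Q : ℕ} [Fact p.Prime] (hn : Nat.card G = p * m) (hpm : ¬ p ∣ m)
    (hnt : Nat.card G = c.t * (p * s)) (hs : s ≠ 0) (hsp : s ≤ p) (hdeg : p ∈ Cfsg.degreePrimes G)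
    (hgood : Good m p Q) :
    ¬ p ∣ Nat.card c.H ∧ ∀ P : Sylow p G,
      ¬ (P : Subgroup G) ≤ Subgroup.centralizer (c.H : Set G) ∧
      Nat.card c.H = Q * Nat.card (c.H ⊓ Subgroup.centralizer ((P : Subgroup G) : Set G) : Subgroup G) := by
  haveI := c.hH
  haveI := c.hM
  have hp : p.Prime := Fact.out
  have ht0 : 0 < c.t := Nat.pos_of_ne_zero fun h => by
    have := c.t_mem; rw [h] at this; exact absurd this (by decide)
  have hHn : Nat.card c.H ∣ Nat.card G := Subgroup.card_subgroup_dvd_card c.H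
  have hMs : Nat.card c.M ∣ p * s := by
    have h := hHn
    rw [c.card_H, hnt] at h
    exact Nat.dvd_of_mul_dvd_mul_left ht0 h
  have hpt : ¬ p ∣ c.t := by
    intro h
    have h1 : p * p ∣ Nat.card G := hnt ▸ mul_dvd_mul h (dvd_mul_right p s)
    exact hpm (Nat.dvd_of_mul_dvd_mul_left hp.pos (hn ▸ h1))
  have hpH : ¬ p ∣ Nat.card c.H := fun h => by
    rw [c.card_H] at h
    exact false_of_small_normal hn hpm hdeg c.M ((hp.dvd_mul.mp h).resolve_left hpt) hs hsp hMs
  refine ⟨hpH, fun P => ?_⟩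
  have hPc : Nat.card (P : Subgroup G) = p := by
    rw [card_sylow_group (a := 1) (m := m) (by rw [hn, pow_one]) hpm P, pow_one]
  have hnc : ¬ (P : Subgroup G) ≤ Subgroup.centralizer (c.H : Set G) := fun h => by
    have hd := Subgroup.card_dvd_of_le h
    rw [hPc] at hd
    have h2 := c.centralizer_facts.2
    conv_rhs at h2 => rw [hnt]
    exact false_of_small_normal hn hpm hdeg (Subgroup.centralizer (c.H : Set G)) hd hs hsp
      (Nat.dvd_of_mul_dvd_mul_left ht0 h2)
  refine ⟨hnc, ?_⟩
  have hHm : Nat.card c.H ∣ m := ((hp.coprime_iff_not_dvd.mpr hpH).symm).dvd_of_dvd_mul_left (hn ▸ hHn)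
  rcases relIndex_centralizer_cases (N := c.H) P.isPGroup'
    (by rw [Subgroup.normalizer_eq_top]; exact le_top) hpH hHm hgood with h | h
  · exact absurd (le_centralizer_of_card_eq h) hnc
  · exact h

/-- The general step without exceptions. -/
theorem Core.false_of_good (c : Core G) {p m s : ℕ} [Fact p.Prime] (hn : Nat.card G = p * m) (hpm : ¬ p ∣ m)
    (hnt : Nat.card G = c.t * (p * s)) (hs : s ≠ 0) (hsp : s ≤ p) (hdeg : p ∈ Cfsg.degreePrimes G)
    (hgood : Good m p 1) : False := by
  obtain ⟨P⟩ := (inferInstance : Nonempty (Sylow p G))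
  obtain ⟨h1, h2⟩ := (c.exceptional hn hpm hnt hs hsp hdeg hgood).2 P
  exact h1 (le_centralizer_of_card_eq (by rwa [one_mul] at h2))

/-- Order 2520, `t` = 60 or 360: the exception `Q = 8`. -/
theorem Core.false_of_2520 (c : Core G) (hn : Nat.card G = 2520) (ht : c.t = 60 ∨ c.t = 360)
    (hdeg : 7 ∈ Cfsg.degreePrimes G) : False := by
  haveI : Fact (Nat.Prime 7) := ⟨by norm_num⟩
  haveI : Fact (Nat.Prime 5) := ⟨by norm_num⟩
  haveI := c.hH
  obtain ⟨s, hs0, hs7, hnt⟩ : ∃ s, s ≠ 0 ∧ s ≤ 7 ∧ Nat.card G = c.t * (7 * s) := by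
    rcases ht with e | e <;> rw [e, hn]
    · exact ⟨6, by norm_num, by norm_num, by norm_num⟩
    · exact ⟨1, by norm_num, by norm_num, by norm_num⟩
  obtain ⟨h7, hex⟩ := c.exceptional (p := 7) (m := 360) (Q := 8) (by rw [hn]) (by norm_num) hnt hs0 hs7 hdeg
    (good_of_decide (by norm_num) (by decide +kernel))
  obtain ⟨P⟩ := (inferInstance : Nonempty (Sylow 7 G))
  obtain ⟨-, hC⟩ := hex P
  set C : Subgroup G := c.H ⊓ Subgroup.centralizer ((P : Subgroup G) : Set G) with hCdef
  set C' : Subgroup c.H := C.subgroupOf c.H with hC'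
  have hC'c : Nat.card C' = Nat.card C := Nat.card_congr (Subgroup.subgroupOfEquivOfLe inf_le_left).toEquiv
  -- a subgroup of index eight
  have hH360 : Nat.card c.H ∣ 360 := by
    refine ((Fact.out : Nat.Prime 7).coprime_iff_not_dvd.mpr h7).symm.dvd_of_dvd_mul_left ?_
    rw [show 7 * 360 = 2520 by norm_num, ← hn]
    exact Subgroup.card_subgroup_dvd_card c.H
  have h60 : 60 ∣ Nat.card c.H := by
    rw [c.card_H]
    rcases ht with e | e <;> rw [e]
    · exact dvd_mul_right _ _
    · exact (show 60 ∣ 360 by norm_num).trans (dvd_mul_right _ _)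
  have hC45 : Nat.card C ∣ 45 := by
    have : 8 * Nat.card C ∣ 8 * 45 := hC ▸ hH360
    exact Nat.dvd_of_mul_dvd_mul_left (by norm_num) this
  have hC15 : 15 ∣ Nat.card C := by
    have h := h60
    rw [hC] at h
    exact (Nat.Coprime.dvd_of_dvd_mul_left (by norm_num) ((show 15 ∣ 60 by norm_num).trans h))
  obtain ⟨k, hk⟩ := hC15
  have hk3 : k ∣ 3 := Nat.dvd_of_mul_dvd_mul_left (by norm_num) (show 15 * k ∣ 15 * 3 by rw [← hk]; exact hC45)
  have hk' : k = 1 ∨ k = 3 := (Nat.dvd_prime Nat.prime_three).mp hk3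
  -- its Sylow 5-subgroup is normal, hence so is that of `H`
  obtain ⟨a1, a2⟩ := card_sylow_facts (p := 5) (G := C') (a := 1) (m := 3 * k) (by rw [hC'c, hk]; ring)
    (by rcases hk' with rfl | rfl <;> norm_num)
  have hone : Nat.card (Sylow 5 C') = 1 := by
    have := Nat.le_of_dvd (by omega) a1
    generalize Nat.card (Sylow 5 C') = t at a1 a2 this
    rcases hk' with rfl | rfl <;> interval_cases t <;> omega
  haveI := (Nat.card_eq_one_iff_unique.mp hone).1
  obtain ⟨S⟩ := (inferInstance : Nonempty (Sylow 5 C'))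
  have hSc : Nat.card (S : Subgroup C') = 5 := by
    rw [card_sylow_group (a := 1) (m := 3 * k) (by rw [hC'c, hk]; ring)
      (by rcases hk' with rfl | rfl <;> norm_num) S, pow_one]
  haveI : (S : Subgroup C').Normal := Sylow.normal_of_subsingleton S
  set R : Subgroup c.H := (S : Subgroup C').map C'.subtype with hR
  have hRc : Nat.card R = 5 := by rw [hR, Subgroup.card_map_of_injective C'.subtype_injective, hSc]
  have hm5 : ¬ 5 ∣ 8 * 3 * k := by rcases hk' with rfl | rfl <;> norm_num
  have hHc : Nat.card c.H = 5 ^ 1 * (8 * 3 * k) := by rw [hC, hk]; ring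
  let R' : Sylow 5 c.H := Sylow.ofCard R (by
    rw [hRc, hHc, Nat.factorization_mul (by norm_num) (fun h => hm5 (by rw [h]; exact dvd_zero 5)), Finsupp.add_apply,
      Nat.Prime.factorization_pow (by norm_num : Nat.Prime 5), Finsupp.single_eq_same,
      Nat.factorization_eq_zero_of_not_dvd hm5]
    norm_num)
  have hCN : C' ≤ Subgroup.normalizer ((R' : Subgroup c.H) : Set c.H) := by
    intro x hx
    refine Subgroup.mem_normalizer_iff.mpr fun y => ?_
    show y ∈ R ↔ x * y * x⁻¹ ∈ R
    constructor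
    · rintro ⟨z, hz, rfl⟩
      exact ⟨⟨x, hx⟩ * z * ⟨x, hx⟩⁻¹, Subgroup.Normal.conj_mem inferInstance z hz _, rfl⟩
    · rintro ⟨z, hz, e⟩
      refine ⟨⟨x, hx⟩⁻¹ * z * ⟨x, hx⟩, ?_, ?_⟩
      · have := Subgroup.Normal.conj_mem (inferInstance : (S : Subgroup C').Normal) z hz (⟨x, hx⟩⁻¹ : C')
        rwa [inv_inv] at this
      · change x⁻¹ * C'.subtype z * x = y
        rw [e]; group
  obtain ⟨b1, b2⟩ := card_sylow_facts (p := 5) (G := c.H) (a := 1) (m := 8 * 3 * k) hHc hm5
  have hn8 : Nat.card (Sylow 5 c.H) ∣ 8 := by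
    rw [Sylow.card_eq_index_normalizer R']
    refine (Subgroup.index_dvd_of_le hCN).trans ?_
    have h := C'.card_mul_index
    rw [hC'c, hC, mul_comm 8] at h
    rw [Nat.eq_of_mul_eq_mul_left Nat.card_pos h]
  have hone' : Nat.card (Sylow 5 c.H) = 1 := by
    have := Nat.le_of_dvd (by norm_num) hn8
    generalize Nat.card (Sylow 5 c.H) = t at hn8 b2 this
    interval_cases t <;> omega
  haveI := (Nat.card_eq_one_iff_unique.mp hone').1
  haveI : (R' : Subgroup c.H).Normal := Sylow.normal_of_subsingleton R'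
  haveI : IsCyclic (R' : Subgroup c.H) := isCyclic_of_prime_card (p := 5) hRc
  obtain ⟨x, hx, hx1⟩ := (Subgroup.bot_or_exists_ne_one (R' : Subgroup c.H)).resolve_left fun h => by
    have e : Nat.card (R' : Subgroup c.H) = 5 := hRc
    rw [h, Subgroup.card_bot] at e
    omega
  exact hx1 (eq_one_of_central c.hperf R' (fun a ha b hb => comm_of_card_prime (p := 5) _ hRc ha hb) hx
    (le_center_of_cyclic c.hperf _ hx))

end CfsgLib.SmallSimpleGraph
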