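import Cfsg.Agent.Lib.SmallSimpleGraph.Main
import Cfsg.Agent.Lib.M12Order.Entries

/-!
# Simple groups of order 5616: the principal block at 13 and the centralizers of small elements
-/

set_option autoImplicit false
set_option linter.unusedSectionVars false
set_option linter.style.haveILetI false
set_option synthInstance.maxSize 2000
set_option synthInstance.maxHeartbeats 200000

namespace CfsgLib.SmallSimpleGraph

open Cfsg CfsgLib CfsgLib.BrauerTuan
open scoped ComplexConjugate CfsgLib.Char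
open scoped _root_.Classical

universe u

theorem fact_thirteen_5616 : Fact (Nat.Prime 13) := ⟨by norm_num⟩

attribute [local instance] fact_thirteen_5616

/-- The candidates for the degrees in the block. -/
def cands5616 : List ℕ := (List.range 75).filter (degOK 5616 13 1 432 [13])

theorem keyX5616 : ∀ d ∈ cands5616, ∀ s ∈ ([1, -1] : List ℤ), ((d : ℤ) - s) % 13 = 0 →
    (d = 12 ∧ s = -1) ∨ (d = 27 ∧ s = 1) := by decide +kernel

theorem keyY5616 : ∀ d ∈ cands5616, ∀ s ∈ ([1, -1] : List ℤ), ((d : ℤ) - s * 3) % 13 = 0 →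
    (d = 16 ∧ s = 1) ∨ (d = 36 ∧ s = -1) := by decide +kernel

/-- The data of the block. -/
structure Blk5616 (G : Type u) [Group G] [Fintype G] where
  T : OrderCtx G 5616 13 [13] 74 1
  card_syl : Nat.card (Sylow 13 G) = 144
  χa : IrrCharacter G
  χb : IrrCharacter G
  hab : χa ≠ χb
  hTa : Blocks.trivIrr G ≠ χa
  hTb : Blocks.trivIrr G ≠ χb
  hX : T.D.X = {Blocks.trivIrr G, χa, χb}
  da : charDegree (χa : G → ℂ) = 12
  db : charDegree (χb : G → ℂ) = 27
  δa : T.D.δ χa = -1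
  δb : T.D.δ χb = 1
  δT : T.D.δ (Blocks.trivIrr G) = 1
  hε : T.D.ε = 1
  card_Y : T.D.Y.card = 4
  dY : ∀ ψ ∈ T.D.Y, charDegree (ψ : G → ℂ) = 16

variable {G : Type u} [Group G] [Fintype G] [IsSimpleGroup G]

theorem exists_blk5616 (hn : Nat.card G = 5616) : Nonempty (Blk5616 G) := by
  have hp : Nat.Prime 13 := by norm_num
  obtain ⟨k, T, hT⟩ := exists_ctx_of_orderBad hn 13 [13] 74 [(144, 3, 1)] hp (by norm_num)
    (by norm_num) (by norm_num) (by norm_num) (by simp <;> norm_num) (by decide +kernel)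
  simp only [List.mem_singleton, Prod.mk.injEq] at hT
  obtain ⟨hc, he, rfl⟩ := hT
  have ht : T.D.t = 4 := by have := T.D.het; rw [he] at this; omega
  obtain ⟨v, hv, hv1⟩ := M12Order.exists_ne_one_P T
  have hone : ¬ 13 ∣ orderOf (1 : G) := orderOf_one (G := G) ▸ hp.not_dvd_one
  obtain ⟨ψ₁, hψ₁⟩ := Finset.card_pos.mp (show 0 < T.D.Y.card by rw [T.D.card_Y, ht]; norm_num)
  have hT1 : Blocks.trivIrr G ∈ T.D.X := by
    rcases Finset.mem_union.mp T.D.triv with e | e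
    · exact e
    exfalso
    obtain ⟨ψ', hψ', hne⟩ := Finset.exists_mem_ne (show 1 < T.D.Y.card by rw [T.D.card_Y]; omega) (Blocks.trivIrr G)
    have h1 := T.D.degY_eq ψ' hψ' _ e
    rw [BrauerReynolds.degree_triv] at h1
    exact (BrauerReynolds.one_lt_degree_of_simple T.noncomm hne).ne' h1
  have hδ : T.D.δ (Blocks.trivIrr G) = 1 := by
    have e := T.D.valX _ hT1 v hv hv1 1 (one_mem _) hone
    have e' : ((T.D.δ (Blocks.trivIrr G) : ℤ) : ℂ) = ((1 : ℤ) : ℂ) := by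
      rw [← e]; simp [Blocks.trivIrr]
    exact Int.cast_injective e'
  have hval : ∀ χ ∈ T.D.X ∪ T.D.Y, ∀ u ∈ (T.P : Subgroup G), u ≠ 1 →
      ∀ y ∈ Subgroup.centralizer ((T.P : Subgroup G) : Set G),
      ¬ 13 ∣ orderOf y → (χ : G → ℂ) (u * y) = (χ : G → ℂ) u := by
    intro χ hχ u hu hu1 y hy hyr
    rcases Finset.mem_union.mp hχ with e | e
    · have h' := T.D.valX χ e u hu hu1 1 (one_mem _) hone
      rw [mul_one] at h'
      rw [T.D.valX χ e u hu hu1 y hy hyr, h']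
    · exact T.D.valY χ e u hu hu1 y hy hyr
  have hcand : ∀ χ ∈ T.D.X ∪ T.D.Y, χ ≠ Blocks.trivIrr G → charDegree (χ : G → ℂ) ∈ cands5616 := by
    intro χ hχ hne
    obtain ⟨h1, h2⟩ := T.degOK_of hne (by
      rcases Finset.mem_union.mp hχ with e | e
      · exact T.D.dvdX χ e
      · exact T.D.dvdY χ e) (hval χ hχ)
    rw [hc, he] at h1
    exact List.mem_filter.mpr ⟨List.mem_range.mpr (Nat.lt_add_one_iff.mpr h2), h1⟩
  have hXd : ∀ χ ∈ T.D.X, χ ≠ Blocks.trivIrr G →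
      (charDegree (χ : G → ℂ) = 12 ∧ T.D.δ χ = -1) ∨ (charDegree (χ : G → ℂ) = 27 ∧ T.D.δ χ = 1) := fun χ hχ hne =>
    keyX5616 _ (hcand χ (Finset.mem_union_left _ hχ) hne) _ (by rcases T.D.hδ χ hχ with e | e <;> simp [e])
      (Int.emod_eq_zero_of_dvd (Int.modEq_iff_dvd.mp (T.D.degX χ hχ).symm))
  have hYd : (charDegree (ψ₁ : G → ℂ) = 16 ∧ T.D.ε = 1) ∨ (charDegree (ψ₁ : G → ℂ) = 36 ∧ T.D.ε = -1) := by
    refine keyY5616 _ (hcand ψ₁ (Finset.mem_union_right _ hψ₁) fun e => Finset.disjoint_left.mp T.D.disj hT1 (e ▸ hψ₁))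
      _ (by rcases T.D.hε with e | e <;> simp [e]) (Int.emod_eq_zero_of_dvd ?_)
    have h' := Int.modEq_iff_dvd.mp (T.D.degY ψ₁ hψ₁).symm
    rw [he] at h'
    push_cast at h'
    exact h'
  obtain ⟨χ₁, χ₂, h12, hX⟩ := Finset.card_eq_two.mp
    (show (T.D.X.erase (Blocks.trivIrr G)).card = 2 by rw [Finset.card_erase_of_mem hT1, T.D.card_X, he])
  obtain ⟨hne₁, hX₁⟩ := Finset.mem_erase.mp (show χ₁ ∈ T.D.X.erase (Blocks.trivIrr G) by rw [hX]; simp)
  obtain ⟨hne₂, hX₂⟩ := Finset.mem_erase.mp (show χ₂ ∈ T.D.X.erase (Blocks.trivIrr G) by rw [hX]; simp)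
  have hrel : T.D.ε * (charDegree (ψ₁ : G → ℂ) : ℤ) =
      1 + T.D.δ χ₁ * (charDegree (χ₁ : G → ℂ) : ℤ) + T.D.δ χ₂ * (charDegree (χ₂ : G → ℂ) : ℤ) := by
    have h' := T.D.rel ψ₁ hψ₁ 1 hone
    rw [← Finset.add_sum_erase _ _ hT1, hX, Finset.sum_pair h12, hδ] at h'
    simp only [BrauerReynolds.value_one, BrauerReynolds.degree_triv, Nat.cast_one, mul_one, Int.cast_one] at h'
    rw [add_assoc]
    exact_mod_cast h'
  have hXeq : T.D.X = {Blocks.trivIrr G, χ₁, χ₂} := by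
    rw [← Finset.insert_erase hT1, hX]
  have hsyl : Nat.card (Sylow 13 G) = 144 := T.D.card_sylow.trans hc
  rcases hYd with ⟨e3, f3⟩ | ⟨e3, f3⟩ <;> rcases hXd χ₁ hX₁ hne₁ with ⟨e1, f1⟩ | ⟨e1, f1⟩ <;>
    rcases hXd χ₂ hX₂ hne₂ with ⟨e2, f2⟩ | ⟨e2, f2⟩ <;> rw [e1, e2, e3, f1, f2, f3] at hrel <;>
    first | (exfalso; norm_num at hrel; done) | skip
  · exact ⟨⟨T, hsyl, χ₁, χ₂, h12, Ne.symm hne₁, Ne.symm hne₂, hXeq, e1, e2, f1, f2, hδ, f3, T.D.card_Y.trans ht,
      fun ψ hψ => (T.D.degY_eq ψ hψ ψ₁ hψ₁).trans e3⟩⟩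
  · exact ⟨⟨T, hsyl, χ₂, χ₁, h12.symm, Ne.symm hne₂, Ne.symm hne₁, by rw [hXeq, Finset.pair_comm χ₁ χ₂], e2, e1,
      f2, f1, hδ, f3, T.D.card_Y.trans ht, fun ψ hψ => (T.D.degY_eq ψ hψ ψ₁ hψ₁).trans e3⟩⟩

namespace Blk5616

variable (B : Blk5616 G)
include B

theorem triv_mem : Blocks.trivIrr G ∈ B.T.D.X := by rw [B.hX]; simp
theorem a_mem : B.χa ∈ B.T.D.X := by rw [B.hX]; simp
theorem b_mem : B.χb ∈ B.T.D.X := by rw [B.hX]; simp

theorem hC : Subgroup.centralizer ((B.T.P : Subgroup G) : Set G) = (B.T.P : Subgroup G) := by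
  refine (Subgroup.eq_of_le_of_card_ge ?_ ?_).symm
  · haveI : IsCyclic (B.T.P : Subgroup G) := isCyclic_of_prime_card B.T.card_P
    exact fun a ha => Subgroup.mem_centralizer_iff.mpr fun c hc =>
      congrArg Subtype.val ((IsCyclic.commGroup (α := (B.T.P : Subgroup G))).mul_comm ⟨c, hc⟩ ⟨a, ha⟩)
  · rw [B.T.card_C, B.T.card_P, mul_one]

theorem unique_deg {χ : IrrCharacter G} (hχ : χ = B.χa ∨ χ = B.χb) :
    ∀ ξ ∈ B.T.D.X ∪ B.T.D.Y, charDegree (ξ : G → ℂ) = charDegree (χ : G → ℂ) → ξ = χ := by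
  intro ξ hξ hd
  rcases Finset.mem_union.mp hξ with h | h
  · rw [B.hX] at h
    simp only [Finset.mem_insert, Finset.mem_singleton] at h
    rcases h with rfl | rfl | rfl <;> rcases hχ with rfl | rfl <;> first | rfl |
      (simp only [BrauerReynolds.degree_triv, B.da, B.db] at hd; omega)
  · rw [B.dY ξ h] at hd
    rcases hχ with rfl | rfl <;> simp only [B.da, B.db] at hd <;> omega

theorem exists_a (g : G) : ∃ a : ℤ, (B.χa : G → ℂ) g = a :=
  M12Order.rational_of_unique B.T (by rw [B.da]; norm_num) (B.unique_deg (Or.inl rfl)) g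

theorem exists_b (g : G) : ∃ b : ℤ, (B.χb : G → ℂ) g = b :=
  M12Order.rational_of_unique B.T (by rw [B.db]; norm_num) (B.unique_deg (Or.inr rfl)) g

/-- The value of the character of degree 12. -/
noncomputable def av (g : G) : ℤ := (B.exists_a g).choose

/-- The value of the character of degree 27. -/
noncomputable def bv (g : G) : ℤ := (B.exists_b g).choose

/-- The value of the characters of degree 16 at a regular element. -/
noncomputable def cv (g : G) : ℤ := 1 - B.av g + B.bv g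

theorem av_spec (g : G) : (B.χa : G → ℂ) g = B.av g := (B.exists_a g).choose_spec

theorem bv_spec (g : G) : (B.χb : G → ℂ) g = B.bv g := (B.exists_b g).choose_spec

theorem cv_spec {g : G} (hg : ¬ 13 ∣ orderOf g) {ψ : IrrCharacter G} (hψ : ψ ∈ B.T.D.Y) :
    (ψ : G → ℂ) g = B.cv g := by
  have h := B.T.D.rel ψ hψ g hg
  rw [B.hX, Finset.sum_insert (by simp [B.hTa, B.hTb]), Finset.sum_pair B.hab, B.hε, B.δT, B.δa, B.δb,
    B.av_spec, B.bv_spec] at h
  simp only [Int.cast_one, one_mul, Int.cast_neg, neg_mul] at h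
  rw [h, cv]
  simp [Blocks.trivIrr]
  ring

theorem sum_block (F : IrrCharacter G → ℂ) :
    ∑ χ ∈ B.T.D.X ∪ B.T.D.Y, F χ = F (Blocks.trivIrr G) + F B.χa + F B.χb + ∑ ψ ∈ B.T.D.Y, F ψ := by
  rw [Finset.sum_union B.T.D.disj, B.hX, Finset.sum_insert (by simp [B.hTa, B.hTb]), Finset.sum_pair B.hab]
  ring

/-- The bound given by a column. -/
theorem col_le {g : G} (hg : ¬ 13 ∣ orderOf g) :
    1 + B.av g * B.av g + B.bv g * B.bv g + 4 * (B.cv g * B.cv g) ≤
      (Nat.card (Subgroup.centralizer ({g} : Set G)) : ℤ) := by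
  let V : IrrCharacter G → ℤ := fun χ =>
    if χ = Blocks.trivIrr G then 1 else if χ = B.χa then B.av g else if χ = B.χb then B.bv g else B.cv g
  have hY : ∀ ψ ∈ B.T.D.Y, V ψ = B.cv g := fun ψ hψ => by
    have hne : ∀ χ ∈ B.T.D.X, ψ ≠ χ := fun χ hχ e => Finset.disjoint_left.mp B.T.D.disj hχ (e ▸ hψ)
    simp only [V, if_neg (hne _ B.triv_mem), if_neg (hne _ B.a_mem), if_neg (hne _ B.b_mem)]
  have hle := M12Order.column_bound_one (B.T.D.X ∪ B.T.D.Y) g V fun χ hχ => by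
    rcases Finset.mem_union.mp hχ with h | h
    · rw [B.hX] at h
      simp only [Finset.mem_insert, Finset.mem_singleton] at h
      rcases h with rfl | rfl | rfl
      · simp [V, Blocks.trivIrr]
      · simp [V, Ne.symm B.hTa, B.av_spec]
      · simp [V, Ne.symm B.hTb, Ne.symm B.hab, B.bv_spec]
    · rw [hY χ h, B.cv_spec hg h]
  rw [Finset.sum_union B.T.D.disj, B.hX, Finset.sum_insert (by simp [B.hTa, B.hTb]), Finset.sum_pair B.hab,
    Finset.sum_congr rfl (g := fun _ => B.cv g ^ 2) (fun ψ hψ => by rw [hY ψ hψ]), Finset.sum_const, B.card_Y] at hle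
  simp only [V, if_pos, if_neg (Ne.symm B.hTa), if_neg (Ne.symm B.hTb), if_neg (Ne.symm B.hab), nsmul_eq_mul,
    Nat.cast_ofNat] at hle
  linarith

/-- Counting products equal to an element of order 13. -/
theorem mult {g h v : G} (hg : ¬ 13 ∣ orderOf g) (hh : ¬ 13 ∣ orderOf h)
    (hv : v ∈ (B.T.P : Subgroup G)) (hv1 : v ≠ 1) :
    (Nat.card {p : G × G // IsConj g p.1 ∧ IsConj h p.2 ∧ p.1 * p.2 = v} : ℤ) * (5616 * 432) =
      ((Subgroup.centralizer ({g} : Set G)).index : ℤ) * ((Subgroup.centralizer ({h} : Set G)).index : ℤ) *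
        (432 - 36 * (B.av g * B.av h) + 16 * (B.bv g * B.bv h) - 27 * (B.cv g * B.cv h)) := by
  have hone : ¬ 13 ∣ orderOf (1 : G) := by rw [orderOf_one]; norm_num
  have hval : ∀ χ ∈ B.T.D.X, (χ : G → ℂ) v = B.T.D.δ χ := fun χ hχ => by
    have e := B.T.D.valX χ hχ v hv hv1 1 (one_mem _) hone
    rwa [mul_one] at e
  have hsum : ∑ χ : IrrCharacter G, (χ : G → ℂ) g * (χ : G → ℂ) h * conj ((χ : G → ℂ) v) / (χ : G → ℂ) 1 =
      1 - (B.av g : ℂ) * B.av h / 12 + (B.bv g : ℂ) * B.bv h / 27 - (B.cv g : ℂ) * B.cv h / 16 := by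
    rw [← Finset.sum_subset (Finset.subset_univ (B.T.D.X ∪ B.T.D.Y)) fun χ _ hχ => by
      rw [B.T.D.out B.hC χ (fun e => hχ (Finset.mem_union_left _ e)) (fun e => hχ (Finset.mem_union_right _ e))
        v hv hv1, map_zero, mul_zero, zero_div]]
    rw [B.sum_block, Finset.sum_congr rfl (g := fun ψ : IrrCharacter G => (B.cv g : ℂ) * B.cv h / 16 *
      conj ((ψ : G → ℂ) v)) (fun ψ hψ => by
        rw [B.cv_spec hg hψ, B.cv_spec hh hψ, BrauerReynolds.value_one, B.dY ψ hψ]; push_cast; ring),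
      ← Finset.mul_sum, ← map_sum, B.T.D.sumY v hv hv1, B.hε, hval _ B.triv_mem, hval _ B.a_mem,
      hval _ B.b_mem, B.δT, B.δa, B.δb, B.av_spec, B.av_spec, B.bv_spec, B.bv_spec, BrauerReynolds.value_one,
      BrauerReynolds.value_one, BrauerReynolds.value_one, B.da, B.db, BrauerReynolds.degree_triv]
    simp [Blocks.trivIrr]
    ring
  have hm := Char.class_mult g h v
  rw [hsum, B.T.card_eq] at hm
  apply Int.cast_injective (α := ℂ)
  push_cast
  rw [hm]
  push_cast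
  ring

theorem card_mul_index (g : G) : Nat.card (Subgroup.centralizer ({g} : Set G)) *
    (Subgroup.centralizer ({g} : Set G)).index = 5616 := by
  rw [Subgroup.card_mul_index, B.T.card_eq]

/-- The arithmetic conditions at a regular element. -/
theorem conds {g : G} (hg : g ≠ 1) (hg13 : ¬ 13 ∣ orderOf g) :
    ∃ C ∈ Nat.divisors 432, C = Nat.card (Subgroup.centralizer ({g} : Set G)) ∧
      (Subgroup.centralizer ({g} : Set G)).index = 5616 / C ∧
      B.av g ∈ Finset.Icc (-20 : ℤ) 20 ∧ B.bv g ∈ Finset.Icc (-20 : ℤ) 20 ∧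
      1 + B.av g * B.av g + B.bv g * B.bv g + 4 * (B.cv g * B.cv g) ≤ (C : ℤ) ∧
      ((5616 / C : ℕ) : ℤ) * B.av g % 12 = 0 ∧ ((5616 / C : ℕ) : ℤ) * B.bv g % 27 = 0 ∧
      ((5616 / C : ℕ) : ℤ) * B.cv g % 16 = 0 := by
  set C := Nat.card (Subgroup.centralizer ({g} : Set G)) with hC
  have h13 := not_dvd_centralizer B.T.P B.T.card_P (by rw [B.T.card_C, mul_one]) hg hg13
  have hd : C ∣ 432 * 13 := by
    have h := Subgroup.card_subgroup_dvd_card (Subgroup.centralizer ({g} : Set G))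
    rw [B.T.card_eq] at h
    exact h
  have h432 : C ∣ 432 := ((by norm_num : Nat.Prime 13).coprime_iff_not_dvd.mpr h13).symm.dvd_of_dvd_mul_right hd
  have hidx : (Subgroup.centralizer ({g} : Set G)).index = 5616 / C := by
    rw [← B.card_mul_index g, Nat.mul_div_cancel_left _ Nat.card_pos]
  have hcol := B.col_le hg13
  have hC432 : (C : ℤ) ≤ 432 := by exact_mod_cast Nat.le_of_dvd (by norm_num) h432
  have hrange : ∀ x : ℤ, x * x ≤ 431 → x ∈ Finset.Icc (-20 : ℤ) 20 := fun x hx => by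
    rw [Finset.mem_Icc]
    constructor <;> nlinarith
  obtain ⟨ψ, hψ⟩ := Finset.card_pos.mp (show 0 < B.T.D.Y.card by rw [B.card_Y]; norm_num)
  have ha := M12Order.omega_dvd (B.av_spec g)
  have hb := M12Order.omega_dvd (B.bv_spec g)
  have hc := M12Order.omega_dvd (B.cv_spec hg13 hψ)
  rw [B.da, hidx] at ha
  rw [B.db, hidx] at hb
  rw [B.dY ψ hψ, hidx] at hc
  have := mul_self_nonneg (B.av g)
  have := mul_self_nonneg (B.bv g)
  have := mul_self_nonneg (B.cv g)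
  exact ⟨C, Nat.mem_divisors.mpr ⟨h432, by norm_num⟩, rfl, hidx, hrange _ (by linarith), hrange _ (by linarith),
    hcol, Int.emod_eq_zero_of_dvd (by exact_mod_cast ha), Int.emod_eq_zero_of_dvd (by exact_mod_cast hb),
    Int.emod_eq_zero_of_dvd (by exact_mod_cast hc)⟩

end Blk5616

end CfsgLib.SmallSimpleGraph
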