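import Cfsg.Agent.Lib.SmallSimpleGraph.FiveSixPerm

/-!
# `C₂ × V₄` inside the centralizer of an involution is impossible
-/

set_option autoImplicit false
set_option linter.unusedSectionVars false
set_option linter.style.haveILetI false

namespace CfsgLib.SmallSimpleGraph

open Cfsg CfsgLib
open Cfsg.Agent.S3304 (fourGroup fourGroup_normal fourGroup_card)

universe u

/-- A double transposition. -/
def omegaPerm : Equiv.Perm (Fin 4) := Equiv.swap 0 1 * Equiv.swap 2 3

/-- Another double transposition. -/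
def rhoPerm : Equiv.Perm (Fin 4) := Equiv.swap 0 2 * Equiv.swap 1 3

theorem perm_facts : (omegaPerm * omegaPerm = 1 ∧ omegaPerm.sign = 1) ∧ (rhoPerm * rhoPerm = 1 ∧ rhoPerm.sign = 1) ∧
    omegaPerm ≠ 1 ∧
    Equiv.swap 0 1 * rhoPerm * (Equiv.swap 0 1)⁻¹ * rhoPerm⁻¹ = omegaPerm := by decide +kernel

theorem perm_four_cases : ∀ v : Equiv.Perm (Fin 4), v * v = 1 → v.sign = 1 →
    v = 1 ∨ v = omegaPerm ∨ v = rhoPerm ∨ v = omegaPerm * rhoPerm := by decide +kernel

theorem perm_four_conj : ∀ a b : Equiv.Perm (Fin 4), a * a = 1 → a.sign = 1 → b * b = 1 → b.sign = 1 →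
    a ≠ 1 → b ≠ 1 → ∃ σ : Equiv.Perm (Fin 4), σ * a * σ⁻¹ = b := by decide +kernel

theorem perm_d8_cases : ∀ σ : Equiv.Perm (Fin 4), σ * omegaPerm = omegaPerm * σ →
    (σ * σ = 1 ∧ σ.sign = 1) ∨
      (σ * Equiv.swap 0 1 * (σ * Equiv.swap 0 1) = 1 ∧ (σ * Equiv.swap 0 1).sign = 1) := by decide +kernel

theorem perm_d8_card : (Finset.univ.filter fun σ : Equiv.Perm (Fin 4) => σ * omegaPerm = omegaPerm * σ).card = 8 := by
  decide +kernel

theorem perm_swap_d8 : (Equiv.swap 0 1 : Equiv.Perm (Fin 4)) * omegaPerm = omegaPerm * Equiv.swap 0 1 ∧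
    rhoPerm * omegaPerm = omegaPerm * rhoPerm := by decide +kernel

variable {G : Type u} [Group G] [Finite G]

theorem unique_in_four_preimage (hn : Nat.card G = 5616) (hconj : ∀ a b : G, orderOf a = 2 → orderOf b = 2 → IsConj a b)
    {t : G} (ht : orderOf t = 2) {z : Subgroup.centralizer ({t} : Set G)} (hzt : (z : G) = t)
    {φ : Subgroup.centralizer ({t} : Set G) →* Equiv.Perm (Fin 4)} (hsurj : Function.Surjective φ)
    (hker : φ.ker = Subgroup.zpowers z) :
    ∀ q ∈ fourGroup.comap φ, q * q = 1 → q = 1 ∨ q = z := by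
  classical
  haveI : Fact (Nat.Prime 2) := ⟨Nat.prime_two⟩
  set Q := fourGroup.comap φ with hQdef
  haveI := fourGroup_normal
  haveI : Q.Normal := Subgroup.normal_comap φ
  have hzo : orderOf z = 2 := by rw [← Subgroup.orderOf_coe, hzt, ht]
  have hzz : z * z = 1 := by rw [← pow_two, ← hzo, pow_orderOf_eq_one]
  have hzc : ∀ g : Subgroup.centralizer ({t} : Set G), z * g = g * z := fun g => Subtype.ext (by
    show (z : G) * g = g * z
    rw [hzt]
    exact (Subgroup.mem_centralizer_singleton_iff.mp g.2).symm)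
  have hkmem : ∀ k : Subgroup.centralizer ({t} : Set G), φ k = 1 → k = 1 ∨ k = z := by
    intro k hk
    have h : k ∈ Subgroup.zpowers z := hker ▸ hk
    obtain ⟨i, rfl⟩ := Subgroup.mem_zpowers_iff.mp h
    rcases Int.even_or_odd i with ⟨j, rfl⟩ | ⟨j, rfl⟩
    · left
      rw [← two_mul, zpow_mul, show z ^ (2 : ℤ) = 1 by rw [zpow_two, hzz], one_zpow]
    · right
      rw [zpow_add, zpow_mul, zpow_one, show z ^ (2 : ℤ) = 1 by rw [zpow_two, hzz], one_zpow, one_mul]
  intro u hu hu2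
  by_contra hne
  push Not at hne
  obtain ⟨hne1, hnez⟩ := hne
  have hφu : φ u ≠ 1 := fun h => by
    rcases hkmem u h with e | e
    · exact hne1 e
    · exact hnez e
  -- every element of `Q` squares to `1`
  have hexp : ∀ q ∈ Q, q * q = 1 := by
    intro q hq
    by_cases h1 : φ q = 1
    · rcases hkmem q h1 with e | e
      · rw [e, one_mul]
      · rw [e, hzz]
    obtain ⟨σ, hσ⟩ := perm_four_conj (φ u) (φ q) hu.1 hu.2 hq.1 hq.2 hφu h1
    obtain ⟨g, rfl⟩ := hsurj σ
    rcases hkmem ((g * u * g⁻¹)⁻¹ * q) (by rw [map_mul, map_inv, map_mul, map_mul, map_inv, hσ, inv_mul_cancel])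
      with e | e
    · rw [← inv_mul_eq_one.mp e, show g * u * g⁻¹ * (g * u * g⁻¹) = g * (u * u) * g⁻¹ by group, hu2, mul_one,
        mul_inv_cancel]
    · rw [show q = g * u * g⁻¹ * z by rw [← e]; group,
        show g * u * g⁻¹ * z * (g * u * g⁻¹ * z) = g * u * g⁻¹ * (z * (g * u * g⁻¹)) * z by group, hzc,
        show g * u * g⁻¹ * (g * u * g⁻¹ * z) * z = g * (u * u) * g⁻¹ * (z * z) by group, hu2, hzz]
      group
  have hQcomm : ∀ a ∈ Q, ∀ b ∈ Q, a * b = b * a := fun a ha b hb => by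
    have h := hexp _ (mul_mem ha hb)
    calc a * b = (a * b)⁻¹ := (inv_eq_of_mul_eq_one_right h).symm
      _ = b⁻¹ * a⁻¹ := mul_inv_rev _ _
      _ = b * a := by rw [inv_eq_of_mul_eq_one_right (hexp a ha), inv_eq_of_mul_eq_one_right (hexp b hb)]
  obtain ⟨q₁, hq₁⟩ := hsurj rhoPerm
  obtain ⟨x, hx⟩ := hsurj (Equiv.swap 0 1)
  have hq₁Q : q₁ ∈ Q := by
    show φ q₁ ∈ fourGroup
    rw [hq₁]; exact perm_facts.2.1
  set w := x * q₁ * x⁻¹ * q₁⁻¹ with hw
  have hφw : φ w = omegaPerm := by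
    rw [hw, map_mul, map_mul, map_mul, map_inv, map_inv, hq₁, hx]; exact perm_facts.2.2.2
  have hwQ : w ∈ Q := mul_mem ((inferInstance : Q.Normal).conj_mem _ hq₁Q x) (inv_mem hq₁Q)
  have hxx : x * x ∈ Q := by
    show φ (x * x) ∈ fourGroup
    rw [map_mul, hx, Equiv.swap_mul_self]; exact one_mem _
  have hxq : x * q₁ = w * q₁ * x := by rw [hw]; group
  have hzQ : z ∈ Q := φ.ker_le_comap fourGroup (hker ▸ Subgroup.mem_zpowers z)
  have hwx : x * w = w * x := by
    have hq' : x * q₁ * x⁻¹ ∈ Q := (inferInstance : Q.Normal).conj_mem _ hq₁Q x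
    have h1 : x * (x * q₁ * x⁻¹) * x⁻¹ = q₁ := by
      rw [show x * (x * q₁ * x⁻¹) * x⁻¹ = x * x * q₁ * (x * x)⁻¹ by group, hQcomm _ hxx _ hq₁Q,
        mul_inv_cancel_right]
    have h2 : x * w * x⁻¹ = w := by
      rw [hw, inv_eq_of_mul_eq_one_right (hexp q₁ hq₁Q),
        show x * (x * q₁ * x⁻¹ * q₁) * x⁻¹ = x * (x * q₁ * x⁻¹) * x⁻¹ * (x * q₁ * x⁻¹) by group, h1,
        hQcomm _ hq₁Q _ hq']
    exact mul_inv_eq_iff_eq_mul.mp h2
  -- conjugation of `Q` by `x`
  have hconjx : ∀ q ∈ Q, x * q = q * x ∨ x * q = w * q * x := by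
    intro q hq
    have key : ∀ k : Subgroup.centralizer ({t} : Set G), x * k = k * x ∨ x * k = w * k * x → ∀ e : Subgroup.centralizer ({t} : Set G), (e = 1 ∨ e = z) →
        x * (k * e) = k * e * x ∨ x * (k * e) = w * (k * e) * x := by
      intro k hk e he
      have hex : x * e = e * x := by
        rcases he with rfl | rfl
        · rw [mul_one, one_mul]
        · exact (hzc x).symm
      rcases hk with h | h
      · left; rw [← mul_assoc, h, mul_assoc, hex, mul_assoc]
      · right; rw [← mul_assoc, h, mul_assoc, hex]; group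
    have hbase : ∀ k : Subgroup.centralizer ({t} : Set G), φ k = φ q → x * k = k * x ∨ x * k = w * k * x →
        x * q = q * x ∨ x * q = w * q * x := by
      intro k hk h
      have := key k h (k⁻¹ * q) (hkmem _ (by rw [map_mul, map_inv, hk, inv_mul_cancel]))
      rwa [mul_inv_cancel_left] at this
    rcases perm_four_cases (φ q) hq.1 hq.2 with e | e | e | e
    · exact hbase 1 (by rw [map_one, e]) (Or.inl (by rw [mul_one, one_mul]))
    · exact hbase w (hφw.trans e.symm) (Or.inl hwx)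
    · exact hbase q₁ (hq₁.trans e.symm) (Or.inr hxq)
    · refine hbase (w * q₁) (by rw [map_mul, hφw, hq₁, e]) (Or.inr ?_)
      rw [← mul_assoc, hwx, mul_assoc, hxq]; group
  -- the Sylow subgroup
  set D : Subgroup (Equiv.Perm (Fin 4)) := Subgroup.centralizer ({omegaPerm} : Set (Equiv.Perm (Fin 4))) with hD
  have hDc : Nat.card D = 8 := by
    show Nat.card {σ : Equiv.Perm (Fin 4) // σ ∈ D} = 8
    rw [Nat.card_congr (Equiv.subtypeEquivRight (q := fun σ => σ * omegaPerm = omegaPerm * σ)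
      fun σ => Subgroup.mem_centralizer_singleton_iff), Nat.card_eq_fintype_card, Fintype.card_subtype]
    exact perm_d8_card
  set S := D.comap φ with hS
  have hScases : ∀ s ∈ S, s ∈ Q ∨ ∃ q ∈ Q, s = q * x := by
    intro s hs
    rcases perm_d8_cases (φ s) (Subgroup.mem_centralizer_singleton_iff.mp hs) with h | h
    · exact Or.inl h
    · refine Or.inr ⟨s * x⁻¹, ?_, by rw [inv_mul_cancel_right]⟩
      have e : φ (s * x⁻¹) = φ s * Equiv.swap 0 1 := by rw [map_mul, map_inv, hx, Equiv.swap_inv]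
      show φ (s * x⁻¹) ∈ fourGroup
      rw [e]; exact h
  have hwS : ∀ s ∈ S, s * w = w * s := by
    intro s hs
    rcases hScases s hs with h | ⟨q, hq, rfl⟩
    · exact hQcomm _ h _ hwQ
    · rw [mul_assoc, hwx, ← mul_assoc, hQcomm _ hq _ hwQ, mul_assoc]
  have hww : w * w = 1 := hexp w hwQ
  have hmix : ∀ a ∈ Q, ∀ b ∈ Q, a * (b * x) = b * x * a ∨ a * (b * x) = w * (b * x * a) := by
    intro a ha b hb
    rcases hconjx a ha with h | h
    · left; rw [mul_assoc b x a, h, ← mul_assoc, ← mul_assoc, hQcomm a ha b hb]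
    · right
      rw [mul_assoc b x a, h, ← mul_assoc b, ← mul_assoc b, hQcomm b hb w hwQ, ← mul_assoc w, ← mul_assoc w,
        ← mul_assoc w, hww, one_mul, hQcomm b hb a ha, mul_assoc]
  have hcommS : ∀ s ∈ S, ∀ s' ∈ S, s * s' = s' * s ∨ s * s' = w * (s' * s) := by
    intro s hs s' hs'
    rcases hScases s hs with h | ⟨a, ha, rfl⟩ <;> rcases hScases s' hs' with h' | ⟨b, hb, rfl⟩
    · exact Or.inl (hQcomm _ h _ h')
    · exact hmix _ h _ hb
    · rcases hmix _ h' _ ha with e | e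
      · exact Or.inl e.symm
      · right; rw [e, ← mul_assoc w w, hww, one_mul]
    · have e1 : ∀ c ∈ Q, ∀ d ∈ Q, (x * d = d * x → c * x * (d * x) = c * d * (x * x)) ∧
          (x * d = w * d * x → c * x * (d * x) = w * (c * d * (x * x))) := by
        intro c hc d hd
        refine ⟨fun h => ?_, fun h => ?_⟩
        · rw [mul_assoc c x, ← mul_assoc x, h]; group
        · rw [mul_assoc c x, ← mul_assoc x, h, ← mul_assoc c, ← mul_assoc c, ← mul_assoc c, hQcomm c hc w hwQ]; group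
      have hab : a * b * (x * x) = b * a * (x * x) := by rw [hQcomm a ha b hb]
      rcases hconjx b hb with h1 | h1 <;> rcases hconjx a ha with h2 | h2
      · left; rw [(e1 a ha b hb).1 h1, (e1 b hb a ha).1 h2, hab]
      · right; rw [(e1 a ha b hb).1 h1, (e1 b hb a ha).2 h2, hab, ← mul_assoc w w, hww, one_mul]
      · right; rw [(e1 a ha b hb).2 h1, (e1 b hb a ha).1 h2, hab]
      · left; rw [(e1 a ha b hb).2 h1, (e1 b hb a ha).2 h2, hab]
  -- Burnside
  set SG := S.map (Subgroup.centralizer ({t} : Set G)).subtype with hSG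
  have hSc : Nat.card SG = 16 := by
    rw [hSG, Subgroup.card_map_of_injective (Subgroup.centralizer ({t} : Set G)).subtype_injective, hS, card_comap_of_surjective hsurj, hDc,
      hker, Nat.card_zpowers, hzo]
  let P : Sylow 2 G := Sylow.ofCard SG (by
    rw [hSc, hn, show 5616 = 2 ^ 4 * 351 from rfl, Nat.factorization_mul (by norm_num) (by norm_num),
      Finsupp.add_apply, Nat.Prime.factorization_pow Nat.prime_two, Finsupp.single_eq_same,
      Nat.factorization_eq_zero_of_not_dvd (by norm_num : ¬ 2 ∣ 351)]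
    norm_num)
  have hwcen : (w : G) ∈ Subgroup.centralizer ((P : Subgroup G) : Set G) := by
    refine Subgroup.mem_centralizer_iff.mpr fun g hg => ?_
    obtain ⟨s, hs, rfl⟩ := (hg : g ∈ SG)
    exact congrArg Subtype.val (hwS s hs)
  have htcen : t ∈ Subgroup.centralizer ((P : Subgroup G) : Set G) := by
    refine Subgroup.mem_centralizer_iff.mpr fun g hg => ?_
    obtain ⟨s, -, rfl⟩ := (hg : g ∈ SG)
    exact Subgroup.mem_centralizer_singleton_iff.mp s.2
  have hwo : orderOf (w : G) = 2 := by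
    rw [Subgroup.orderOf_coe]
    refine orderOf_eq_prime (by rw [pow_two, hww]) fun h => perm_facts.2.2.1 ?_
    rw [← hφw, h, map_one]
  obtain ⟨c, hc⟩ := isConj_iff.mp (hconj _ _ hwo ht)
  have hcw : (c⁻¹)⁻¹ * (w : G) * c⁻¹ = t := by rw [inv_inv]; exact hc
  obtain ⟨n, hn', hnw⟩ := P.conj_eq_normalizer_conj_of_mem_centralizer (w : G) c⁻¹ hwcen (by rw [hcw]; exact htcen)
  rw [hcw] at hnw
  have hmem : ∀ s ∈ S, ∃ s' ∈ S, (s' : G) = n⁻¹ * (s : G) * n := by
    intro s hs
    have h := (Subgroup.mem_normalizer_iff.mp (inv_mem hn') (s : G)).mp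
      (show (s : G) ∈ (P : Subgroup G) from ⟨s, hs, rfl⟩)
    rw [inv_inv] at h
    obtain ⟨s', hs', e⟩ := (h : n⁻¹ * (s : G) * n ∈ SG)
    exact ⟨s', hs', e⟩
  have hq₁S : q₁ ∈ S := by
    show φ q₁ ∈ D
    rw [hq₁]; exact Subgroup.mem_centralizer_singleton_iff.mpr perm_swap_d8.2
  have hxS : x ∈ S := by
    show φ x ∈ D
    rw [hx]; exact Subgroup.mem_centralizer_singleton_iff.mpr perm_swap_d8.1
  obtain ⟨X', hX', eX⟩ := hmem x hxS
  obtain ⟨Q', hQ', eQ⟩ := hmem q₁ hq₁S
  have hrel : X' * Q' = z * (Q' * X') := by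
    refine Subtype.ext ?_
    show (X' : G) * Q' = z * (Q' * X')
    have h : (x : G) * q₁ = w * q₁ * x := congrArg Subtype.val hxq
    rw [hzt, eX, eQ, show n⁻¹ * (x : G) * n * (n⁻¹ * q₁ * n) = n⁻¹ * ((x : G) * q₁) * n by group, h]
    refine Eq.trans ?_ (congrArg (fun y => y * (n⁻¹ * (q₁ : G) * n * (n⁻¹ * (x : G) * n))) hnw.symm)
    group
  rcases hcommS X' hX' Q' hQ' with e | e <;> rw [hrel] at e
  · have : z = 1 := mul_eq_right.mp e
    rw [this, orderOf_one] at hzo
    omega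
  · have hz' : z = w := mul_right_cancel e
    have hz1 : φ z = 1 := hker.ge (Subgroup.mem_zpowers z)
    rw [hz', hφw] at hz1
    exact perm_facts.2.2.1 hz1

end CfsgLib.SmallSimpleGraph
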