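import Cfsg.Agent.Lib.SmallSimpleGraph.FiveSixBlock

/-!
# Simple groups of order 5616: centralizers of involutions and of elements of order 3
-/

set_option autoImplicit false
set_option linter.unusedSectionVars false
set_option linter.style.haveILetI false
set_option synthInstance.maxSize 2000
set_option synthInstance.maxHeartbeats 200000

namespace CfsgLib.SmallSimpleGraph

open Cfsg CfsgLib CfsgLib.BrauerTuan
open scoped ComplexConjugate CfsgLib.Char
open scoped _root_.Classical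

universe u

attribute [local instance] fact_thirteen_5616

theorem keyInv5616 : ∀ C ∈ Nat.divisors 432, ∀ a ∈ Finset.Icc (-20 : ℤ) 20, a % 4 = 0 →
    ∀ b ∈ Finset.Icc (-20 : ℤ) 20, b % 4 = 3 →
      432 - 36 * (a * a) + 16 * (b * b) - 27 * ((1 - a + b) * (1 - a + b)) = 0 ∧
        1 + a * a + b * b + 4 * ((1 - a + b) * (1 - a + b)) ≤ (C : ℤ) ∧
        ((5616 / C : ℕ) : ℤ) * a % 12 = 0 ∧ ((5616 / C : ℕ) : ℤ) * b % 27 = 0 →
      a = 4 ∧ b = 3 ∧ C = 48 := by decide +kernel

theorem keyThree5616 : ∀ C ∈ Nat.divisors 432, C % 3 = 0 → ∀ a ∈ Finset.Icc (-20 : ℤ) 20, a % 3 = 0 →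
    ∀ b ∈ Finset.Icc (-20 : ℤ) 20, b % 3 = 0 →
      1 + a * a + b * b + 4 * ((1 - a + b) * (1 - a + b)) ≤ (C : ℤ) ∧
        ((5616 / C : ℕ) : ℤ) * a % 12 = 0 ∧ ((5616 / C : ℕ) : ℤ) * b % 27 = 0 ∧
        ((5616 / C : ℕ) : ℤ) * (1 - a + b) % 16 = 0 ∧
        117 * ((5616 / C : ℕ) : ℤ) * (432 - 36 * (4 * a) + 16 * (3 * b)) % (5616 * 432) = 0 →
      C % 4 ≠ 0 := by decide +kernel

namespace Blk5616

variable {G : Type u} [Group G] [Fintype G] [IsSimpleGroup G] (B : Blk5616 G)
include B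

theorem card_normalizer : Nat.card (Subgroup.normalizer ((B.T.P : Subgroup G) : Set G)) = 39 := by
  have h := Subgroup.card_mul_index (Subgroup.normalizer ((B.T.P : Subgroup G) : Set G))
  have hi : (Subgroup.normalizer ((B.T.P : Subgroup G) : Set G)).index = 144 :=
    (Sylow.card_eq_index_normalizer B.T.P).symm.trans B.card_syl
  rw [hi, B.T.card_eq] at h
  omega

/-- No two involutions have a product of order 13. -/
theorem no_pairs {t : G} (ht : orderOf t = 2) {v : G} (hv : v ∈ (B.T.P : Subgroup G)) (hv1 : v ≠ 1) :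
    Nat.card {p : G × G // IsConj t p.1 ∧ IsConj t p.2 ∧ p.1 * p.2 = v} = 0 := by
  rw [Nat.card_eq_zero]
  refine Or.inl (not_nonempty_iff.mp fun hne => ?_)
  have ht2 : t * t = 1 := by rw [← pow_two, ← ht, pow_orderOf_eq_one]
  have ht1 : t ≠ 1 := fun e => by rw [e, orderOf_one] at ht; omega
  obtain ⟨-, u₀, hu2, huN, hcl⟩ := pairs_of_nonempty B.T.card_P B.hC (by norm_num) ht2 hv hv1 hne
  have hu1 : u₀ = 1 := by
    have hd1 : orderOf u₀ ∣ 2 := orderOf_dvd_of_pow_eq_one (by rw [pow_two, hu2])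
    have hd2 : orderOf u₀ ∣ 39 := B.card_normalizer ▸ Subgroup.orderOf_dvd_natCard _ huN
    exact orderOf_eq_one_iff.mp (Nat.eq_one_of_dvd_coprimes (by norm_num) hd1 hd2)
  have h := (hcl _ (Char.isCharacter_of_isIrr B.χa.2)).1
  rw [hu1] at h
  exact ht1 (BrauerReynolds.faithful_of_simple (Ne.symm B.hTa) h)

theorem regular_of {g : G} {q : ℕ} (hq : q < 13) (hq0 : q ≠ 0) (hg : orderOf g = q) : ¬ 13 ∣ orderOf g := by
  rw [hg]
  exact fun h => absurd (Nat.le_of_dvd (Nat.pos_of_ne_zero hq0) h) (by omega)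

theorem invol_facts {t : G} (ht : orderOf t = 2) :
    B.av t = 4 ∧ B.bv t = 3 ∧ Nat.card (Subgroup.centralizer ({t} : Set G)) = 48 := by
  have hreg := B.regular_of (by norm_num) (by norm_num) ht
  have ht1 : t ≠ 1 := fun e => by rw [e, orderOf_one] at ht; omega
  have ht2 : t * t = 1 := by rw [← pow_two, ← ht, pow_orderOf_eq_one]
  obtain ⟨C, hC, hCe, hidx, ha, hb, hcol, h12, h27, -⟩ := B.conds ht1 hreg
  have h4 : ∀ χ : IrrCharacter G, ∀ x : ℤ, (χ : G → ℂ) t = x → (4 : ℤ) ∣ (charDegree (χ : G → ℂ) : ℤ) - x := by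
    intro χ x hx
    obtain ⟨j, hj⟩ := involution_value_mod_four B.T.noncomm (Char.isCharacter_of_isIrr χ.2) ht2
      (BrauerReynolds.value_one χ)
    rw [hx] at hj
    exact ⟨j, by rw [Int.cast_injective hj]; ring⟩
  have ha4 := h4 _ _ (B.av_spec t)
  have hb4 := h4 _ _ (B.bv_spec t)
  rw [B.da] at ha4
  rw [B.db] at hb4
  obtain ⟨v, hv, hv1⟩ := M12Order.exists_ne_one_P B.T
  have hm := B.mult hreg hreg hv hv1
  rw [B.no_pairs ht hv hv1, Nat.cast_zero, zero_mul, eq_comm] at hm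
  have hi0 : ((Subgroup.centralizer ({t} : Set G)).index : ℤ) ≠ 0 := Nat.cast_ne_zero.mpr Subgroup.index_ne_zero_of_finite
  have h0 := (mul_eq_zero.mp hm).resolve_left (mul_ne_zero hi0 hi0)
  rw [cv] at h0 hcol
  obtain ⟨r1, r2, r3⟩ := keyInv5616 C hC _ ha (by omega) _ hb (by omega) ⟨h0, hcol, h12, h27⟩
  exact ⟨r1, r2, hCe ▸ r3⟩

theorem three_facts {t : G} (ht : orderOf t = 2) {z : G} (hz : orderOf z = 3) :
    ¬ 4 ∣ Nat.card (Subgroup.centralizer ({z} : Set G)) := by
  obtain ⟨ta, tb, tC⟩ := B.invol_facts ht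
  have hregt := B.regular_of (by norm_num) (by norm_num) ht
  have hreg := B.regular_of (by norm_num) (by norm_num) hz
  have hz1 : z ≠ 1 := fun e => by rw [e, orderOf_one] at hz; omega
  obtain ⟨C, hC, hCe, hidx, ha, hb, hcol, h12, h27, h16⟩ := B.conds hz1 hreg
  have h3 : C % 3 = 0 := by
    rw [hCe]
    refine Nat.mod_eq_zero_of_dvd ?_
    rw [← hz]
    exact Subgroup.orderOf_dvd_natCard _ (Subgroup.mem_centralizer_singleton_iff.mpr rfl)
  have key : ∀ χ : IrrCharacter G, ∀ x : ℤ, (χ : G → ℂ) z = x → (3 : ℤ) ∣ x - charDegree (χ : G → ℂ) :=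
    fun χ x hx => M12Order.dvd_sub_of_three (Char.isCharacter_of_isIrr χ.2) hz (one_mul 1)
      (by rw [mul_one, one_mul]) (by rw [BrauerReynolds.value_one]; norm_cast) (by rw [mul_one, hx])
  have ha3 := key _ _ (B.av_spec z)
  have hb3 := key _ _ (B.bv_spec z)
  rw [B.da] at ha3
  rw [B.db] at hb3
  obtain ⟨v, hv, hv1⟩ := M12Order.exists_ne_one_P B.T
  have hm := B.mult hregt hreg hv hv1
  have hti : (Subgroup.centralizer ({t} : Set G)).index = 117 := by
    have := B.card_mul_index t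
    rw [tC] at this
    omega
  rw [hti, hidx, show B.cv t = 0 by rw [cv, ta, tb]; norm_num, ta, tb] at hm
  rw [cv] at hcol h16
  have := keyThree5616 C hC h3 _ ha (by omega) _ hb (by omega) ⟨hcol, h12, h27, h16, by
    refine Int.emod_eq_zero_of_dvd ⟨(Nat.card {p : G × G // IsConj t p.1 ∧ IsConj z p.2 ∧ p.1 * p.2 = v} : ℤ), ?_⟩
    push_cast at hm ⊢
    linarith⟩
  rw [← hCe]
  omega

/-- All involutions are conjugate. -/
theorem isConj_invol {t u : G} (ht : orderOf t = 2) (hu : orderOf u = 2) : IsConj t u := by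
  by_contra hne
  obtain ⟨ta, tb, tC⟩ := B.invol_facts ht
  obtain ⟨ua, ub, uC⟩ := B.invol_facts hu
  let V : IrrCharacter G → Fin 2 → ℤ := fun χ _ =>
    if χ = Blocks.trivIrr G then 1 else if χ = B.χa then 4 else 3
  have h := M12Order.column_bound {Blocks.trivIrr G, B.χa, B.χb} (fun _ : Fin 2 => 1) ![t, u]
    (fun i j hij => by
      fin_cases i <;> fin_cases j
      · exact absurd rfl hij
      · simpa using hne
      · simpa using fun h : IsConj u t => hne h.symm
      · exact absurd rfl hij)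
    V fun χ hχ i => by
      simp only [Finset.mem_insert, Finset.mem_singleton] at hχ
      have hva := B.av_spec t
      have hva' := B.av_spec u
      have hvb := B.bv_spec t
      have hvb' := B.bv_spec u
      rw [ta] at hva
      rw [ua] at hva'
      rw [tb] at hvb
      rw [ub] at hvb'
      rcases hχ with rfl | rfl | rfl
      · fin_cases i <;> simp [V, Blocks.trivIrr]
      · simp only [V, if_neg (Ne.symm B.hTa), if_pos]
        fin_cases i <;> simpa
      · simp only [V, if_neg (Ne.symm B.hTb), if_neg (Ne.symm B.hab)]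
        fin_cases i <;> simpa
  rw [Finset.sum_insert (by simp [B.hTa, B.hTb]), Finset.sum_pair B.hab] at h
  simp only [V, Fin.sum_univ_two, if_pos, if_neg (Ne.symm B.hTa), if_neg (Ne.symm B.hTb), if_neg (Ne.symm B.hab),
    Matrix.cons_val_zero, Matrix.cons_val_one, tC, uC] at h
  norm_num at h

end Blk5616

end CfsgLib.SmallSimpleGraph
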