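import Cfsg.Agent.Lib.SmallSimpleGraph.Basic
import Cfsg.Agent.S3304

/-!
# Groups of order 48 with a central involution and small centralizers of elements of order 3
-/

set_option autoImplicit false
set_option linter.unusedSectionVars false
set_option linter.style.haveILetI false

namespace CfsgLib.SmallSimpleGraph

open Cfsg CfsgLib
open Cfsg.Agent.S3304 (fourGroup fourGroup_normal fourGroup_card)

universe u

variable {X : Type u} [Group X] [Finite X]

theorem card_comap_of_surjective {Y : Type*} [Group Y] {φ : X →* Y} (hφ : Function.Surjective φ)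
    (H : Subgroup Y) : Nat.card (H.comap φ) = Nat.card φ.ker * Nat.card H := by
  have h1 := (φ.ker.subgroupOf (H.comap φ)).card_mul_index
  rw [Nat.card_congr (Subgroup.subgroupOfEquivOfLe (φ.ker_le_comap H)).toEquiv] at h1
  have h2 : φ.ker.subgroupOf (H.comap φ) = (φ.comp (H.comap φ).subtype).ker := by ext a; rfl
  rw [h2, Subgroup.index_ker, MonoidHom.range_comp, Subgroup.range_subtype,
    Subgroup.map_comap_eq_self_of_surjective hφ] at h1
  exact h1.symm

/-- The action on the four Sylow 3-subgroups. -/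
theorem exists_perm_hom (h48 : Nat.card X = 48) {z : X} (hz : orderOf z = 2) (hzc : z ∈ Subgroup.center X)
    (h3 : ∀ y : X, orderOf y = 3 → ¬ 4 ∣ Nat.card (Subgroup.centralizer ({y} : Set X))) :
    ∃ φ : X →* Equiv.Perm (Fin 4), Function.Surjective φ ∧ φ.ker = Subgroup.zpowers z := by
  classical
  haveI : Fact (Nat.Prime 2) := ⟨Nat.prime_two⟩
  haveI : Fact (Nat.Prime 3) := ⟨Nat.prime_three⟩
  let T₀ : Sylow 3 X := default
  have hT3 : ∀ T : Sylow 3 X, Nat.card (T : Subgroup X) = 3 := fun T => by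
    rw [card_sylow_group (a := 1) (m := 16) (by rw [h48]; norm_num) (by norm_num) T, pow_one]
  obtain ⟨y₀, hy₀⟩ := exists_prime_orderOf_dvd_card' (G := (T₀ : Subgroup X)) 3 (by rw [hT3])
  set y : X := (y₀ : X) with hydef
  have hy : orderOf y = 3 := by rw [hydef, Subgroup.orderOf_coe, hy₀]
  have hTy : (T₀ : Subgroup X) = Subgroup.zpowers y := (Subgroup.eq_of_le_of_card_ge
    (Subgroup.zpowers_le.mpr y₀.2) (by rw [Nat.card_zpowers, hy, hT3])).symm
  set Cy := Subgroup.centralizer ({y} : Set X) with hCy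
  have hCy6 : Nat.card Cy = 6 := by
    have hd : Nat.card Cy ∣ 48 := h48 ▸ Subgroup.card_subgroup_dvd_card Cy
    have h2 : 2 ∣ Nat.card Cy := hz ▸ Subgroup.orderOf_dvd_natCard Cy
      (Subgroup.center_le_centralizer _ hzc)
    have h3' : 3 ∣ Nat.card Cy := hy ▸ Subgroup.orderOf_dvd_natCard Cy
      (Subgroup.mem_centralizer_singleton_iff.mpr rfl)
    have h4 := h3 y hy
    rw [← hCy] at h4
    have hle := Nat.le_of_dvd (by norm_num) hd
    generalize Nat.card Cy = d at hd h2 h3' h4 hle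
    interval_cases d <;> omega
  set N := Subgroup.normalizer ((T₀ : Subgroup X) : Set X) with hN
  have hCN : Subgroup.centralizer ((T₀ : Subgroup X) : Set X) = Cy := by
    ext c
    rw [hCy, Subgroup.mem_centralizer_singleton_iff]
    refine ⟨fun h => (Subgroup.mem_centralizer_iff.mp h y y₀.2).symm, fun h => ?_⟩
    refine Subgroup.mem_centralizer_iff.mpr fun a ha => ?_
    rw [hTy] at ha
    obtain ⟨i, rfl⟩ := Subgroup.mem_zpowers_iff.mp ha
    exact ((show Commute c y from h).zpow_right i).symm.eq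
  have hN12 : Nat.card N ∣ 12 := by
    let f := (T₀ : Subgroup X).normalizerMonoidHom
    have h1 := f.ker.card_mul_index
    rw [Subgroup.normalizerMonoidHom_ker, Nat.card_congr (Subgroup.subgroupOfEquivOfLe
      (Subgroup.centralizer_le_normalizer _)).toEquiv, hCN, hCy6] at h1
    rw [hN, ← h1, show (12 : ℕ) = 6 * 2 from rfl]
    refine mul_dvd_mul_left 6 ?_
    have h2 : ((Subgroup.centralizer ((T₀ : Subgroup X) : Set X)).subgroupOf N).index =
        Nat.card f.range := by
      rw [← Subgroup.index_ker, Subgroup.normalizerMonoidHom_ker]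
    rw [show ((Cy).subgroupOf N).index = Nat.card f.range by rw [← hCN]; exact h2]
    have h3 := Subgroup.card_subgroup_dvd_card f.range
    haveI : IsCyclic (T₀ : Subgroup X) := isCyclic_of_prime_card (hT3 T₀)
    rwa [IsCyclic.card_mulAut, hT3, Nat.totient_prime Nat.prime_three] at h3
  have hn4 : Nat.card (Sylow 3 X) = 4 := by
    obtain ⟨hd, hm⟩ := card_sylow_facts (p := 3) (G := X) (a := 1) (m := 16) (by rw [h48]; norm_num) (by norm_num)
    have hi : Nat.card (Sylow 3 X) = N.index := T₀.card_eq_index_normalizer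
    have hNi := N.card_mul_index
    rw [← hi, h48] at hNi
    have hNle := Nat.le_of_dvd (by norm_num) hN12
    have hzN : 2 ∣ Nat.card N := hz ▸ Subgroup.orderOf_dvd_natCard N (Subgroup.center_le_normalizer _ hzc)
    have hle := Nat.le_of_dvd (by norm_num) hd
    generalize Nat.card (Sylow 3 X) = d at hd hm hNi hle
    generalize Nat.card N = e at hNi hNle hzN
    interval_cases d <;> omega
  let ι : Sylow 3 X ≃ Fin 4 := (Finite.equivFin _).trans (finCongr hn4)
  let φ : X →* Equiv.Perm (Fin 4) := ι.permCongrHom.toMonoidHom.comp (MulAction.toPermHom X (Sylow 3 X))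
  have hφ : ∀ g, g ∈ φ.ker → ∀ T : Sylow 3 X, g • T = T := fun g hg T => by
    have h : ι.permCongrHom (MulAction.toPermHom X (Sylow 3 X) g) = 1 := hg
    exact Equiv.congr_fun (ι.permCongrHom.injective (h.trans (map_one _).symm)) T
  have hz_ker : z ∈ φ.ker := by
    rw [MonoidHom.mem_ker]
    show ι.permCongrHom (MulAction.toPermHom X (Sylow 3 X) z) = 1
    have hone : MulAction.toPermHom X (Sylow 3 X) z = 1 :=
      Equiv.ext fun T => Sylow.smul_eq_iff_mem_normalizer.mpr (Subgroup.center_le_normalizer _ hzc)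
    rw [hone, map_one]
  have hK3 : ¬ 3 ∣ Nat.card φ.ker := fun h => by
    obtain ⟨x₀, hx₀⟩ := exists_prime_orderOf_dvd_card' (G := φ.ker) 3 h
    have hxo : orderOf (x₀ : X) = 3 := by rw [Subgroup.orderOf_coe, hx₀]
    have key : ∀ T : Sylow 3 X, (T : Subgroup X) = Subgroup.zpowers (x₀ : X) := by
      intro T
      have hxN : Subgroup.zpowers (x₀ : X) ≤ Subgroup.normalizer ((T : Subgroup X) : Set X) :=
        Subgroup.zpowers_le.mpr (Sylow.smul_eq_iff_mem_normalizer.mp (hφ _ x₀.2 T))
      have hp : IsPGroup 3 ↥(Subgroup.zpowers (x₀ : X) ⊔ (T : Subgroup X)) :=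
        (IsPGroup.of_card (n := 1) (by rw [Nat.card_zpowers, hxo, pow_one]) :
          IsPGroup 3 ↥(Subgroup.zpowers (x₀ : X))) |>.to_sup_of_normal_right' T.2 hxN
      have hle : Subgroup.zpowers (x₀ : X) ≤ T := by
        rw [← T.is_maximal' hp le_sup_right]; exact le_sup_left
      exact (Subgroup.eq_of_le_of_card_ge hle (by rw [Nat.card_zpowers, hxo, hT3])).symm
    haveI : Subsingleton (Sylow 3 X) := ⟨fun a b => Sylow.ext ((key a).trans (key b).symm)⟩
    have := Finite.card_le_one_iff_subsingleton.mpr (inferInstance : Subsingleton (Sylow 3 X))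
    omega
  have hKN : φ.ker ≤ N := fun g hg => Sylow.smul_eq_iff_mem_normalizer.mp (hφ g hg T₀)
  have hKC : φ.ker ≤ Cy := by
    intro k hk
    have h1 : k * y * k⁻¹ * y⁻¹ ∈ φ.ker := by
      rw [show k * y * k⁻¹ * y⁻¹ = k * (y * k⁻¹ * y⁻¹) by group]
      exact mul_mem hk ((MonoidHom.normal_ker φ).conj_mem _ (inv_mem hk) y)
    have h2 : k * y * k⁻¹ * y⁻¹ ∈ (T₀ : Subgroup X) :=
      mul_mem ((Subgroup.mem_normalizer_iff.mp (hKN hk) y).mp y₀.2) (inv_mem y₀.2)
    have h4 : (φ.ker ⊓ (T₀ : Subgroup X)) = ⊥ := by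
      refine Subgroup.inf_eq_bot_of_coprime ?_
      rw [hT3]
      exact ((Nat.prime_three.coprime_iff_not_dvd).mpr hK3).symm
    have h5 : k * y * k⁻¹ * y⁻¹ = 1 := Subgroup.mem_bot.mp (h4 ▸ Subgroup.mem_inf.mpr ⟨h1, h2⟩)
    exact Subgroup.mem_centralizer_singleton_iff.mpr (mul_inv_eq_iff_eq_mul.mp (mul_inv_eq_one.mp h5))
  have hK2 : Nat.card φ.ker = 2 := by
    have h := Subgroup.card_dvd_of_le hKC
    rw [hCy6] at h
    have h2 : 2 ∣ Nat.card φ.ker := hz ▸ Subgroup.orderOf_dvd_natCard φ.ker hz_ker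
    have := Nat.le_of_dvd (by norm_num) h
    generalize Nat.card φ.ker = d at h h2 hK3 this
    interval_cases d <;> omega
  refine ⟨φ, ?_, (Subgroup.eq_of_le_of_card_ge (Subgroup.zpowers_le.mpr hz_ker)
    (by rw [Nat.card_zpowers, hz, hK2])).symm⟩
  rw [← MonoidHom.range_eq_top]
  refine Subgroup.eq_top_of_card_eq _ ?_
  have h1 := φ.ker.card_mul_index
  rw [Subgroup.index_ker, hK2, h48] at h1
  rw [Nat.card_perm, Nat.card_fin, show (4 : ℕ).factorial = 24 from rfl]
  omega

theorem quat_four_invol : ∀ x : QuaternionGroup 4, x * x = 1 → x = 1 ∨ x = QuaternionGroup.a 4 := by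
  decide +kernel

theorem two_transpositions : ∀ σ : Equiv.Perm (Fin 4),
    σ = Equiv.swap 0 1 * Equiv.swap 1 2 → σ * σ * σ = 1 ∧ σ ≠ 1 := by decide +kernel

/-- With `C₂ × V₄` excluded, the group is `GL(2,3)` or has a single involution. -/
theorem gl_or_unique (h48 : Nat.card X = 48) {z : X} (hz : orderOf z = 2)
    {φ : X →* Equiv.Perm (Fin 4)} (hsurj : Function.Surjective φ) (hker : φ.ker = Subgroup.zpowers z)
    (huniq : ∀ q ∈ fourGroup.comap φ, q * q = 1 → q = 1 ∨ q = z) :
    Nonempty (X ≃* GL (Fin 2) (ZMod 3)) ∨ ∀ u : X, orderOf u = 2 → u = z := by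
  classical
  haveI : Fact (Nat.Prime 2) := ⟨Nat.prime_two⟩
  haveI := fourGroup_normal
  set Q := fourGroup.comap φ with hQdef
  have hK : Nat.card φ.ker = 2 := by rw [hker, Nat.card_zpowers, hz]
  have hQ8 : Nat.card Q = 8 := by rw [card_comap_of_surjective hsurj, hK, fourGroup_card]
  have hQ : IsPGroup 2 Q := IsPGroup.of_card (n := 3) (by rw [hQ8]; norm_num)
  haveI : Q.Normal := Subgroup.normal_comap φ
  have hzz : z * z = 1 := by rw [← pow_two, ← hz, pow_orderOf_eq_one]
  have hzQ : z ∈ Q := φ.ker_le_comap fourGroup (hker ▸ Subgroup.mem_zpowers z)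
  have hnn : ∀ P : Sylow 2 X, ¬ (P : Subgroup X).Normal := by
    intro P hP
    haveI := hP
    have hi : (P : Subgroup X).index = 3 := by
      have h := (P : Subgroup X).card_mul_index
      rw [card_sylow_group (a := 4) (m := 3) (by rw [h48]; norm_num) (by norm_num) P, h48] at h
      omega
    have himg : ∀ σ : Equiv.Perm (Fin 4), σ * σ = 1 → σ ∈ (P : Subgroup X).map φ := by
      intro σ hσ
      obtain ⟨x, rfl⟩ := hsurj σ
      refine ⟨x ^ 3, hi ▸ Subgroup.pow_index_mem _ x, ?_⟩
      rw [map_pow, pow_succ, pow_two, hσ, one_mul]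
    have h := mul_mem (himg (Equiv.swap 0 1) (Equiv.swap_mul_self 0 1)) (himg (Equiv.swap 1 2) (Equiv.swap_mul_self 1 2))
    obtain ⟨x, hx, hxe⟩ := h
    obtain ⟨n, hn⟩ := IsPGroup.iff_card.mp (P.2.map φ)
    obtain ⟨h3, h1⟩ := two_transpositions (φ x) hxe
    have ho : orderOf (φ x) = 3 := orderOf_eq_prime (by rw [pow_succ, pow_two, h3]) h1
    have hd := Subgroup.orderOf_dvd_natCard ((P : Subgroup X).map φ) (Subgroup.mem_map_of_mem φ hx)
    rw [ho, hn] at hd
    exact absurd (Nat.prime_three.dvd_of_dvd_pow hd) (by norm_num)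
  have hcore : Cfsg.pCore 2 X = Q := by
    refine (Subgroup.eq_of_le_of_card_ge (show Q ≤ Cfsg.pCore 2 X from le_sSup ⟨inferInstance, hQ⟩) ?_).symm
    obtain ⟨k, hk⟩ := IsPGroup.iff_card.mp (CfsgLib.Fitting.pCore_isPGroup (G := X) 2)
    have hd : 2 ^ k ∣ 2 ^ 4 * 3 := hk ▸ (by rw [show 2 ^ 4 * 3 = Nat.card X by rw [h48]; norm_num]
                                            exact Subgroup.card_subgroup_dvd_card _)
    have hk4 : k ≤ 4 := (Nat.pow_dvd_pow_iff_le_right (by norm_num)).mp
      ((Nat.Coprime.pow_left k (by norm_num)).dvd_of_dvd_mul_right hd)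
    rw [hk, hQ8, show (8 : ℕ) = 2 ^ 3 from rfl]
    refine Nat.pow_le_pow_right (by norm_num) ?_
    by_contra hlt
    have hk' : k = 4 := by omega
    let P : Sylow 2 X := Sylow.ofCard (Cfsg.pCore 2 X) (by
      rw [hk, hk', h48, show 48 = 2 ^ 4 * 3 from rfl, Nat.factorization_mul (by norm_num) (by norm_num),
        Finsupp.add_apply, Nat.Prime.factorization_pow Nat.prime_two, Finsupp.single_eq_same,
        Nat.factorization_eq_zero_of_not_dvd (by norm_num : ¬ 2 ∣ 3)])
    exact hnn P (show (Cfsg.pCore 2 X).Normal from CfsgLib.Fitting.pCore_normal 2)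
  have hcen : Subgroup.centralizer (Q : Set X) ≤ Q := by
    intro c hc
    have key : ∀ σ : Equiv.Perm (Fin 4),
        σ * (Equiv.swap 0 1 * Equiv.swap 2 3) = (Equiv.swap 0 1 * Equiv.swap 2 3) * σ →
        σ * (Equiv.swap 0 2 * Equiv.swap 1 3) = (Equiv.swap 0 2 * Equiv.swap 1 3) * σ →
        σ * σ = 1 ∧ σ.sign = 1 := by decide +kernel
    have hcomm : ∀ v ∈ fourGroup, φ c * v = v * φ c := by
      intro v hv
      obtain ⟨q, rfl⟩ := hsurj v
      rw [← map_mul, ← map_mul, Subgroup.mem_centralizer_iff.mp hc q hv]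
    exact key (φ c) (hcomm _ ⟨by decide +kernel, by decide +kernel⟩) (hcomm _ ⟨by decide +kernel, by decide +kernel⟩)
  have huniqQ : ∀ x y : Q, orderOf x = 2 → orderOf y = 2 → x = y := by
    have one : ∀ x : Q, orderOf x = 2 → (x : X) = z := by
      intro x hx
      have h2 : (x : X) * x = 1 := by
        have := pow_orderOf_eq_one x
        rw [hx, pow_two] at this
        exact congrArg Subtype.val this
      refine (huniq x x.2 h2).resolve_left fun h => ?_
      rw [show x = 1 from Subtype.ext h, orderOf_one] at hx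
      omega
    exact fun x y hx hy => Subtype.ext ((one x hx).trans (one y hy).symm)
  rcases CfsgLib.Invol.mulAut_or_quaternion_eight hQ huniqQ with hA | he
  · exfalso
    obtain ⟨k, hk⟩ := IsPGroup.iff_card.mp (CfsgLib.Invol.isPGroup_of_mulAut hQ hcen hA)
    rw [h48] at hk
    exact absurd (Nat.prime_three.dvd_of_dvd_pow (hk ▸ (by norm_num : 3 ∣ 48))) (by norm_num)
  obtain ⟨e⟩ := he
  rcases Cfsg.Agent.S3304.core_case (hcore.symm ▸ hcen) hnn ((MulEquiv.subgroupCongr hcore).trans e) with h | ⟨-, -, -, hP⟩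
  · exact Or.inl h
  refine Or.inr fun u hu => ?_
  have hu2 : IsPGroup 2 (Subgroup.zpowers u) := IsPGroup.of_card (n := 1) (by rw [Nat.card_zpowers, hu, pow_one])
  obtain ⟨P, hle⟩ := hu2.exists_le_sylow
  obtain ⟨g⟩ := hP P
  have hzP : z ∈ (P : Subgroup X) := IsPGroup.le_sylow_of_normal hQ P hzQ
  have huP : u ∈ (P : Subgroup X) := hle (Subgroup.mem_zpowers u)
  have one : ∀ x : (P : Subgroup X), orderOf x = 2 → g x = QuaternionGroup.a 4 := by
    intro x hx
    refine (quat_four_invol (g x) ?_).resolve_left fun h => ?_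
    · have h' := pow_orderOf_eq_one x
      rw [hx, pow_two] at h'
      rw [← map_mul, h', map_one]
    · rw [(MulEquiv.map_eq_one_iff g).mp h, orderOf_one] at hx
      omega
  exact congrArg Subtype.val (g.injective ((one ⟨u, huP⟩ (by rw [Subgroup.orderOf_mk, hu])).trans
    (one ⟨z, hzP⟩ (by rw [Subgroup.orderOf_mk, hz])).symm))

end CfsgLib.SmallSimpleGraph
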