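import Cfsg.Agent.Lib.SmallSimpleGraph.FiveSixLocal
import Cfsg.Agent.Lib.SmallSimpleGraph.FiveSixFusion
import Cfsg.Agent.Lib.ZStar.Main
import Cfsg.Agent.S2916

/-!
# A simple group of order 5616 is `L3(3)`
-/

set_option autoImplicit false
set_option linter.unusedSectionVars false
set_option linter.style.haveILetI false
set_option synthInstance.maxSize 2000
set_option synthInstance.maxHeartbeats 200000

namespace CfsgLib.SmallSimpleGraph

open Cfsg CfsgLib Matrix

universe u v w

/-- `PSL(3, q)` only depends on `q`. -/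
theorem psl_three_congr {F : Type v} [Field F] [Fintype F] {K : Type w} [Field K] [Fintype K]
    (h : Fintype.card F = Fintype.card K) :
    Nonempty (ProjectiveSpecialLinearGroup (Fin 3) F ≃* ProjectiveSpecialLinearGroup (Fin 3) K) := by
  let σ : F ≃+* K := FiniteField.ringEquivOfCardEq h
  let e : SpecialLinearGroup (Fin 3) F ≃* SpecialLinearGroup (Fin 3) K :=
    { toFun := SpecialLinearGroup.map σ.toRingHom
      invFun := SpecialLinearGroup.map σ.symm.toRingHom
      left_inv := fun A => by ext i j; exact σ.symm_apply_apply _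
      right_inv := fun A => by ext i j; exact σ.apply_symm_apply _
      map_mul' := map_mul _ }
  refine ⟨QuotientGroup.congr _ _ e ?_⟩
  ext x
  simp only [Subgroup.mem_map, Subgroup.mem_center_iff]
  refine ⟨?_, fun hx => ⟨e.symm x, fun y => e.injective ?_, e.apply_symm_apply x⟩⟩
  · rintro ⟨a, ha, rfl⟩ y
    obtain ⟨b, rfl⟩ := e.surjective y
    show e b * e a = e a * e b
    rw [← map_mul, ← map_mul, ha]
  · rw [map_mul, map_mul, MulEquiv.apply_symm_apply]; exact hx _

variable {G : Type u} [Group G] [Finite G] [IsSimpleGroup G]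

/-- The centralizer of an involution in a simple group of order 5616. -/
theorem centralizer_invol_5616 (hn : Nat.card G = 5616) {t : G} (ht : orderOf t = 2) :
    Nonempty (Subgroup.centralizer ({t} : Set G) ≃* GL (Fin 2) (ZMod 3)) := by
  classical
  letI : Fintype G := Fintype.ofFinite G
  haveI := fact_thirteen_5616
  obtain ⟨B⟩ := exists_blk5616 hn
  obtain ⟨-, -, hC48⟩ := B.invol_facts ht
  have htm : t ∈ Subgroup.centralizer ({t} : Set G) := Subgroup.mem_centralizer_singleton_iff.mpr rfl
  set z : Subgroup.centralizer ({t} : Set G) := ⟨t, htm⟩ with hz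
  have hzo : orderOf z = 2 := by rw [hz, Subgroup.orderOf_mk, ht]
  have hzc : z ∈ Subgroup.center (Subgroup.centralizer ({t} : Set G)) :=
    Subgroup.mem_center_iff.mpr fun g => Subtype.ext (Subgroup.mem_centralizer_singleton_iff.mp g.2)
  have h3 : ∀ y : Subgroup.centralizer ({t} : Set G), orderOf y = 3 →
      ¬ 4 ∣ Nat.card (Subgroup.centralizer ({y} : Set (Subgroup.centralizer ({t} : Set G)))) := by
    intro y hy h4
    refine B.three_facts ht (z := (y : G)) (by rw [Subgroup.orderOf_coe, hy]) (h4.trans ?_)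
    rw [← Subgroup.card_map_of_injective (Subgroup.centralizer ({t} : Set G)).subtype_injective]
    refine Subgroup.card_dvd_of_le ?_
    rintro _ ⟨a, ha, rfl⟩
    exact Subgroup.mem_centralizer_singleton_iff.mpr
      (congrArg Subtype.val (Subgroup.mem_centralizer_singleton_iff.mp ha))
  obtain ⟨φ, hsurj, hker⟩ := exists_perm_hom hC48 hzo hzc h3
  have huniq := unique_in_four_preimage hn (fun a b ha hb => B.isConj_invol ha hb) ht (z := z) rfl hsurj hker
  rcases gl_or_unique hC48 hzo hsurj hker huniq with h | h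
  · exact h
  exfalso
  have hiso : IsIsolatedInvolution t := by
    refine ⟨ht, fun g hg => ?_⟩
    have hm : g * t * g⁻¹ ∈ Subgroup.centralizer ({t} : Set G) :=
      Subgroup.mem_centralizer_singleton_iff.mpr hg.eq.symm
    have ho : orderOf (⟨g * t * g⁻¹, hm⟩ : Subgroup.centralizer ({t} : Set G)) = 2 := by
      rw [Subgroup.orderOf_mk, ← ht]
      exact MulEquiv.orderOf_eq (MulAut.conj g) t
    exact congrArg Subtype.val (h _ ho)
  have hbot : pPrimeCore 2 G = ⊥ := by
    haveI := Transfer.pPrimeCore_normal 2 G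
    rcases (inferInstance : (pPrimeCore 2 G).Normal).eq_bot_or_eq_top with e | e
    · exact e
    · exfalso
      have hc := Transfer.pPrimeCore_coprime (G := G) 2
      rw [e, Subgroup.card_top, hn] at hc
      norm_num at hc
  have hcen : t ∈ Subgroup.center G := Subgroup.mem_center_iff.mpr fun g => by
    have h' := ZStar.commutatorsInCore_of_isolated hiso g
    rw [hbot, Subgroup.mem_bot] at h'
    exact (mul_inv_eq_iff_eq_mul.mp (mul_inv_eq_one.mp h')).symm
  rcases (inferInstance : (Subgroup.center G).Normal).eq_bot_or_eq_top with e | e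
  · rw [e, Subgroup.mem_bot] at hcen
    rw [hcen, orderOf_one] at ht
    omega
  · exact B.T.noncomm ⟨⟨fun a b => (Subgroup.mem_center_iff.mp (e ▸ Subgroup.mem_top b)) a⟩⟩

/-- A simple group of order 5616 is `PSL(3,3)`. -/
theorem iso_5616 (hn : Nat.card G = 5616) :
    Nonempty (G ≃* ProjectiveSpecialLinearGroup (Fin 3) (ZMod 3)) := by
  haveI : Fact (Nat.Prime 2) := ⟨Nat.prime_two⟩
  haveI : Fact (Nat.Prime 3) := ⟨Nat.prime_three⟩
  haveI : Fact (Nat.Prime 13) := ⟨by norm_num⟩
  obtain ⟨t, ht⟩ := exists_prime_orderOf_dvd_card' (G := G) 2 (by rw [hn]; norm_num)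
  have hO : Cfsg.pResidual 2 G = ⊤ := by
    haveI : (Cfsg.pResidual 2 G).Normal := by
      refine ⟨fun x hx g => ?_⟩
      have hle : (Cfsg.pResidual 2 G).map (MulAut.conj g).toMonoidHom ≤ Cfsg.pResidual 2 G := by
        rw [Cfsg.pResidual, MonoidHom.map_closure]
        refine Subgroup.closure_mono ?_
        rintro _ ⟨a, ha, rfl⟩
        show Nat.Coprime (orderOf (MulAut.conj g a)) 2
        rw [MulEquiv.orderOf_eq]
        exact ha
      exact hle ⟨x, hx, rfl⟩
    refine ((inferInstance : (Cfsg.pResidual 2 G).Normal).eq_bot_or_eq_top).resolve_left fun e => ?_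
    obtain ⟨v, hv⟩ := exists_prime_orderOf_dvd_card' (G := G) 13 (by rw [hn]; norm_num)
    have hmem : v ∈ Cfsg.pResidual 2 G := Subgroup.subset_closure (show Nat.Coprime (orderOf v) 2 by rw [hv]; norm_num)
    rw [e, Subgroup.mem_bot] at hmem
    rw [hmem, orderOf_one] at hv
    omega
  rcases Cfsg.Agent.S2916.result hO t ht (centralizer_invol_5616 hn ht) with ⟨F, _, _, hF, ⟨e⟩⟩ | ⟨⟨e⟩⟩
  · obtain ⟨e'⟩ := psl_three_congr (F := F) (K := ZMod 3) (by rw [hF, ZMod.card])
    exact ⟨e.trans e'⟩
  · have := Nat.card_congr e.toEquiv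
    rw [hn, (CfsgLib.M11Unique.card_spor).1] at this
    omega

end CfsgLib.SmallSimpleGraph
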