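import Cfsg.Agent.Lib.SmallSimpleGraph.SmallCases
import Cfsg.Agent.Lib.BrauerTuan.Rational
import Cfsg.Agent.Lib.Classical.Transvection
import Cfsg.Agent.Lib.Classical.Card
import Cfsg.Agent.S4774
import Cfsg.Agent.S4812
import Cfsg.Agent.S0495
import Cfsg.Agent.S0497
import Cfsg.Agent.S0498
import Cfsg.Agent.S1011
import Cfsg.Agent.S1021
import Cfsg.Agent.S0981

/-!
# Degree primes and edges of the simple groups of order below 6000
-/

set_option autoImplicit false
set_option linter.unusedSectionVars false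
set_option linter.style.haveILetI false
set_option synthInstance.maxSize 2000

namespace CfsgLib.SmallSimpleGraph

open Cfsg CfsgLib CfsgLib.BrauerTuan
open scoped ComplexConjugate CfsgLib.Char

universe u

variable {S : Type u} [Group S] [Finite S] [IsSimpleGroup S]

theorem not_comm_of_mem (h : Nat.card S ∈ smallOrders) : ¬ IsMulCommutative S := by
  have key : ∀ n ∈ smallOrders, ¬ n.Prime := by
    simp only [smallOrders, List.forall_mem_cons]
    norm_num
  exact SmallOrder.not_comm_of_not_prime (key _ h)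

/-- A simple group of order 504 has no edge between 2 and 3. -/
theorem not_adj_two_three_504 (h : Nat.card S = 504) : ¬ (Cfsg.degreeGraph S).Adj 2 3 := by
  letI : Fintype (GaloisField 2 3) := Fintype.ofFinite _
  have hF : Fintype.card (GaloisField 2 3) = 8 := by
    rw [← Nat.card_eq_fintype_card, GaloisField.card 2 3 (by norm_num)]; norm_num
  intro hadj
  rw [(Cfsg.Agent.S4812.result (GaloisField 2 3) 8 hF (by norm_num)
    (Or.inl (Cfsg.Agent.S1011.result h hF))).2] at hadj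
  norm_num at hadj

/-- In a simple group of order 360, 2-5 is an edge and 2-3 is not. -/
theorem adj_360 (h : Nat.card S = 360) :
    ¬ (Cfsg.degreeGraph S).Adj 2 3 ∧ (Cfsg.degreeGraph S).Adj 2 5 := by
  letI : Fintype (GaloisField 3 2) := Fintype.ofFinite _
  have hF : Fintype.card (GaloisField 3 2) = 9 := by
    rw [← Nat.card_eq_fintype_card, GaloisField.card 3 2 (by norm_num)]; norm_num
  haveI : IsSimpleGroup (Matrix.ProjectiveSpecialLinearGroup (Fin 2) (GaloisField 3 2)) := by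
    classical
    refine CfsgLib.Classical.isSimpleGroup_PSL (Or.inr ?_)
    by_contra hall
    push Not at hall
    have : (Finset.univ : Finset (GaloisField 3 2)) ⊆ {0, 1, -1} := by
      intro x _
      simp only [Finset.mem_insert, Finset.mem_singleton]
      by_cases h0 : x = 0
      · exact Or.inl h0
      exact Or.inr (sq_eq_one_iff.mp (hall x h0))
    have hle := (Finset.card_le_card this).trans Finset.card_le_three
    rw [Finset.card_univ, hF] at hle
    omega
  have hc : Nat.card (Matrix.ProjectiveSpecialLinearGroup (Fin 2) (GaloisField 3 2)) = 360 := by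
    have h' := CfsgLib.Classical.card_PSL_two (F := GaloisField 3 2)
    rw [hF] at h'
    norm_num at h'
    omega
  obtain ⟨e⟩ := Cfsg.Agent.S0497.result h
  obtain ⟨e'⟩ := Cfsg.Agent.S0497.result hc
  have hr := Cfsg.Agent.S4774.result (GaloisField 3 2) 3 (by norm_num) 9 hF (by norm_num)
    (Or.inl ⟨e.trans e'.symm⟩)
  constructor
  · intro hadj
    rw [hr.2] at hadj
    norm_num at hadj
  · rw [hr.2]
    norm_num

/-- A simple group of order 168 has a degree divisible by six. -/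
theorem exists_six_168 (h : Nat.card S = 168) : ∃ χ : IrrCharacter S, 6 ∣ charDegree (χ : S → ℂ) := by
  haveI : Fact (Nat.Prime 7) := ⟨by norm_num⟩
  have hr := Cfsg.Agent.S4774.result (ZMod 7) 7 (by norm_num) 7 (by simp) (by norm_num)
    (Or.inl (Cfsg.Agent.S0495.result h (F := ZMod 7) (by simp)))
  have hadj : (Cfsg.degreeGraph S).Adj 2 3 := by
    rw [hr.2]; norm_num
  obtain ⟨-, -, -, d, ⟨χ, hχ⟩, hd⟩ := hadj
  exact ⟨χ, hχ ▸ hd⟩

/-- The candidate degrees for the principal block at the prime 7 of a group of order 2520. -/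
def cands2520 : List ℕ := (List.range 51).filter (degOK 2520 7 1 360 [5, 7])

theorem mem_cands2520 {x : ℕ} (h : x < 51) (hd : degOK 2520 7 1 360 [5, 7] x = true) : x ∈ cands2520 :=
  List.mem_filter.mpr ⟨List.mem_range.mpr h, hd⟩

theorem key2520 : ∀ x₁ ∈ cands2520, ∀ x₂ ∈ cands2520, ∀ z ∈ cands2520,
    ∀ s ∈ ([(1, 1, 1), (1, 1, -1), (1, -1, 1), (1, -1, -1), (-1, 1, 1), (-1, 1, -1), (-1, -1, 1),
      (-1, -1, -1)] : List (ℤ × ℤ × ℤ)),
    ((x₁ : ℤ) - s.1) % 7 = 0 ∧ ((x₂ : ℤ) - s.2.1) % 7 = 0 ∧ ((z : ℤ) - s.2.2 * 3) % 7 = 0 ∧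
      s.2.2 * z = 1 + s.1 * x₁ + s.2.1 * x₂ ∧ 1 + x₁ * x₁ + x₂ * x₂ + 2 * (z * z) < 2520 →
    (x₁ % 2 = 0 ∨ x₂ % 2 = 0 ∨ z % 2 = 0) ∧ (x₁ % 5 = 0 ∨ x₂ % 5 = 0 ∨ z % 5 = 0) := by decide +kernel

theorem par2520 : ∀ a ∈ cands2520, ∀ b ∈ cands2520, ∀ c ∈ cands2520,
    1 + a * a + b * b + 2 * (c * c) ≠ 2520 := by decide +kernel

/-- The degree primes needed of a simple group of order 2520. -/
theorem mem_degreePrimes_2520 (h : Nat.card S = 2520) :
    7 ∈ Cfsg.degreePrimes S ∧ 5 ∈ Cfsg.degreePrimes S ∧ 2 ∈ Cfsg.degreePrimes S := by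
  classical
  letI : Fintype S := Fintype.ofFinite S
  haveI : Fact (Nat.Prime 7) := ⟨by norm_num⟩
  have hp : Nat.Prime 7 := Fact.out
  obtain ⟨k, T, hT⟩ := exists_ctx_of_orderBad h 7 [5, 7] 50 [(120, 3, 1)] (by norm_num) (by norm_num)
    (by norm_num) (by norm_num) (by norm_num) (by simp <;> norm_num) (by decide +kernel)
  simp only [List.mem_singleton, Prod.mk.injEq] at hT
  obtain ⟨hc, he, rfl⟩ := hT
  have hC : Subgroup.centralizer ((T.P : Subgroup S) : Set S) = (T.P : Subgroup S) := by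
    refine (Subgroup.eq_of_le_of_card_ge ?_ ?_).symm
    · haveI : IsCyclic (T.P : Subgroup S) := isCyclic_of_prime_card T.card_P
      exact fun a ha => Subgroup.mem_centralizer_iff.mpr fun c hc =>
        congrArg Subtype.val ((IsCyclic.commGroup (α := (T.P : Subgroup S))).mul_comm ⟨c, hc⟩ ⟨a, ha⟩)
    · rw [T.card_C, T.card_P, mul_one]
  have ht : T.D.t = 2 := by have := T.D.het; rw [he] at this; omega
  obtain ⟨v, hv, hv1⟩ : ∃ v, v ∈ (T.P : Subgroup S) ∧ v ≠ 1 := by
    rcases (T.P : Subgroup S).bot_or_exists_ne_one with e | e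
    · have := T.card_P
      rw [e, Subgroup.card_bot] at this
      exact absurd this (by norm_num)
    · exact e
  have hone : ¬ 7 ∣ orderOf (1 : S) := orderOf_one (G := S) ▸ hp.not_dvd_one
  obtain ⟨ψ₁, ψ₂, hψ12, hY⟩ := Finset.card_eq_two.mp (T.D.card_Y.trans ht)
  have hψ₁ : ψ₁ ∈ T.D.Y := by rw [hY]; simp
  have hψ₂ : ψ₂ ∈ T.D.Y := by rw [hY]; simp
  have hT1 : Blocks.trivIrr S ∈ T.D.X := by
    rcases Finset.mem_union.mp T.D.triv with e | e
    · exact e
    exfalso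
    obtain ⟨ψ', hψ', hne⟩ := Finset.exists_mem_ne (show 1 < T.D.Y.card by rw [T.D.card_Y]; omega) (Blocks.trivIrr S)
    have h1 := T.D.degY_eq ψ' hψ' _ e
    rw [BrauerReynolds.degree_triv] at h1
    exact (BrauerReynolds.one_lt_degree_of_simple T.noncomm hne).ne' h1
  obtain ⟨χ₁, χ₂, hχ12, hX⟩ := Finset.card_eq_two.mp
    (show (T.D.X.erase (Blocks.trivIrr S)).card = 2 by rw [Finset.card_erase_of_mem hT1, T.D.card_X, he])
  obtain ⟨hne₁, hX₁⟩ := Finset.mem_erase.mp (show χ₁ ∈ T.D.X.erase (Blocks.trivIrr S) by rw [hX]; simp)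
  obtain ⟨hne₂, hX₂⟩ := Finset.mem_erase.mp (show χ₂ ∈ T.D.X.erase (Blocks.trivIrr S) by rw [hX]; simp)
  have hψne : ∀ ψ ∈ T.D.Y, ψ ≠ Blocks.trivIrr S := fun ψ hψ e => Finset.disjoint_left.mp T.D.disj hT1 (e ▸ hψ)
  have hval : ∀ χ ∈ T.D.X ∪ T.D.Y, ∀ u ∈ (T.P : Subgroup S), u ≠ 1 → ∀ y ∈ Subgroup.centralizer ((T.P : Subgroup S) : Set S),
      ¬ 7 ∣ orderOf y → (χ : S → ℂ) (u * y) = (χ : S → ℂ) u := by
    intro χ hχ u hu hu1 y hy hyr
    rcases Finset.mem_union.mp hχ with e | e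
    · have h' := T.D.valX χ e u hu hu1 1 (one_mem _) hone
      rw [mul_one] at h'
      rw [T.D.valX χ e u hu hu1 y hy hyr, h']
    · exact T.D.valY χ e u hu hu1 y hy hyr
  have hdeg : ∀ χ ∈ T.D.X ∪ T.D.Y, χ ≠ Blocks.trivIrr S →
      degOK 2520 7 1 360 [5, 7] (charDegree (χ : S → ℂ)) = true ∧ charDegree (χ : S → ℂ) < 51 := by
    intro χ hχ hne
    obtain ⟨h1, h2⟩ := T.degOK_of hne (by
      rcases Finset.mem_union.mp hχ with e | e
      · exact T.D.dvdX χ e
      · exact T.D.dvdY χ e) (hval χ hχ)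
    rw [hc, he] at h1
    exact ⟨h1, Nat.lt_add_one_iff.mpr h2⟩
  have hrel : T.D.ε * (charDegree (ψ₁ : S → ℂ) : ℤ) =
      1 + T.D.δ χ₁ * (charDegree (χ₁ : S → ℂ) : ℤ) + T.D.δ χ₂ * (charDegree (χ₂ : S → ℂ) : ℤ) := by
    have h' := T.D.rel ψ₁ hψ₁ 1 hone
    have hδ : (T.D.δ (Blocks.trivIrr S) : ℂ) = 1 := by
      have e := T.D.valX _ hT1 v hv hv1 1 (one_mem _) hone
      rw [← e]; simp [Blocks.trivIrr]
    rw [← Finset.add_sum_erase _ _ hT1, hX, Finset.sum_pair hχ12, hδ] at h'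
    simp only [BrauerReynolds.value_one, BrauerReynolds.degree_triv, Nat.cast_one, mul_one] at h'
    rw [add_assoc]
    exact_mod_cast h'
  have hY' := T.D.degY_eq ψ₂ hψ₂ ψ₁ hψ₁
  set z := charDegree (ψ₁ : S → ℂ) with hz
  set x₁ := charDegree (χ₁ : S → ℂ) with hx₁
  set x₂ := charDegree (χ₂ : S → ℂ) with hx₂
  have hsum := Char.sum_sq_degree (G := S)
  simp only [BrauerReynolds.value_one, ← Nat.cast_pow, ← Nat.cast_sum, Nat.cast_inj, h] at hsum
  have hB : ∑ χ ∈ T.D.X ∪ T.D.Y, charDegree (χ : S → ℂ) ^ 2 = 1 + x₁ * x₁ + x₂ * x₂ + 2 * (z * z) := by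
    rw [Finset.sum_union T.D.disj, ← Finset.add_sum_erase _ _ hT1, hX, Finset.sum_pair hχ12, hY,
      Finset.sum_pair hψ12, BrauerReynolds.degree_triv, hY', ← hz, ← hx₁, ← hx₂]
    ring
  have hneq : 1 + x₁ * x₁ + x₂ * x₂ + 2 * (z * z) ≤ 2520 := by
    exact hB ▸ (Finset.sum_le_sum_of_subset (Finset.subset_univ _)).trans_eq hsum
  obtain ⟨a1, b1⟩ := hdeg χ₁ (Finset.mem_union_left _ hX₁) hne₁
  obtain ⟨a2, b2⟩ := hdeg χ₂ (Finset.mem_union_left _ hX₂) hne₂
  obtain ⟨a3, b3⟩ := hdeg ψ₁ (Finset.mem_union_right _ hψ₁) (hψne _ hψ₁)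
  have hcong : ((z : ℤ) - T.D.ε * 3) % 7 = 0 := by
    have h' := Int.modEq_iff_dvd.mp (T.D.degY ψ₁ hψ₁).symm
    rw [he] at h'
    exact Int.emod_eq_zero_of_dvd (by push_cast at h'; exact h')
  have key : ∀ {d : ℕ} {χ : IrrCharacter S} {p : ℕ}, p.Prime → charDegree (χ : S → ℂ) = d → d % p = 0 →
      p ∈ Cfsg.degreePrimes S := fun hp' hd hmod => ⟨hp', _, ⟨_, hd⟩, Nat.dvd_of_mod_eq_zero hmod⟩
  have hlt : 1 + x₁ * x₁ + x₂ * x₂ + 2 * (z * z) < 2520 ∧
      (∃ χ : IrrCharacter S, χ ∉ T.D.X ∧ χ ∉ T.D.Y) := by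
    have hstrict : 1 + x₁ * x₁ + x₂ * x₂ + 2 * (z * z) ≠ 2520 := by
      exact par2520 _ (mem_cands2520 b1 a1) _ (mem_cands2520 b2 a2) _ (mem_cands2520 b3 a3)
    refine ⟨lt_of_le_of_ne hneq hstrict, ?_⟩
    by_contra hall
    push Not at hall
    refine hstrict (hB.symm.trans (Eq.trans ?_ hsum))
    refine Finset.sum_subset (Finset.subset_univ _) fun χ _ hχ => absurd ?_ hχ
    by_cases hx : χ ∈ T.D.X
    · exact Finset.mem_union_left _ hx
    · exact Finset.mem_union_right _ (hall χ hx)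
  have hs : (T.D.δ χ₁, T.D.δ χ₂, T.D.ε) ∈ ([(1, 1, 1), (1, 1, -1), (1, -1, 1), (1, -1, -1), (-1, 1, 1),
      (-1, 1, -1), (-1, -1, 1), (-1, -1, -1)] : List (ℤ × ℤ × ℤ)) := by
    rcases T.D.hδ χ₁ hX₁ with e₁ | e₁ <;> rcases T.D.hδ χ₂ hX₂ with e₂ | e₂ <;>
      rcases T.D.hε with e₃ | e₃ <;> rw [e₁, e₂, e₃] <;> decide
  obtain ⟨h2, h5⟩ := key2520 x₁ (mem_cands2520 b1 a1) x₂ (mem_cands2520 b2 a2) z (mem_cands2520 b3 a3) _ hs
    ⟨Int.emod_eq_zero_of_dvd (Int.modEq_iff_dvd.mp (T.D.degX χ₁ hX₁).symm),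
      Int.emod_eq_zero_of_dvd (Int.modEq_iff_dvd.mp (T.D.degX χ₂ hX₂).symm), hcong, hrel, hlt.1⟩
  refine ⟨?_, ?_, ?_⟩
  · obtain ⟨χ, hnX, hnY⟩ := hlt.2
    exact ⟨hp, _, ⟨χ, rfl⟩, dvd_degree_of_vanish (p := 7) (T.P : Subgroup S) T.card_P
      fun u hu hu1 => T.D.out hC χ hnX hnY u hu hu1⟩
  · rcases h5 with e | e | e
    · exact key (by norm_num) hx₁.symm e
    · exact key (by norm_num) hx₂.symm e
    · exact key (by norm_num) hz.symm e
  · rcases h2 with e | e | e
    · exact key (by norm_num) hx₁.symm e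
    · exact key (by norm_num) hx₂.symm e
    · exact key (by norm_num) hz.symm e

/-- The degree primes needed, order by order. -/
theorem mem_degreePrimes_special (hS : Nat.card S ∈ smallOrders) :
    ∀ r ∈ ([(60, 5), (168, 7), (168, 2), (360, 5), (504, 7), (504, 2), (660, 11), (1092, 13), (2448, 17),
      (2520, 7), (2520, 5), (2520, 2), (3420, 19), (4080, 17), (5616, 13), (5616, 3)] : List (ℕ × ℕ)),
      r.1 = Nat.card S → r.2 ∈ Cfsg.degreePrimes S := by
  have hnc := not_comm_of_mem hS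
  have three : ∀ n p : ℕ, n = Nat.card S → n.primeFactors.card ≤ 3 → p.Prime → p ∣ n →
      p ∈ Cfsg.degreePrimes S := fun n p e hc hp hd => mem_degreePrimes_of_three hnc (e ▸ hc) hp (e ▸ hd)
  simp only [List.forall_mem_cons, List.not_mem_nil, IsEmpty.forall_iff, implies_true, and_true]
  have p60 : Nat.primeFactors 60 = {2, 3, 5} := by decide +kernel
  have p168 : Nat.primeFactors 168 = {2, 3, 7} := by decide +kernel
  have p360 : Nat.primeFactors 360 = {2, 3, 5} := by decide +kernel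
  have p504 : Nat.primeFactors 504 = {2, 3, 7} := by decide +kernel
  have p2448 : Nat.primeFactors 2448 = {2, 3, 17} := by decide +kernel
  have p5616 : Nat.primeFactors 5616 = {2, 3, 13} := by decide +kernel
  refine ⟨fun e => three _ _ e (by rw [p60]; decide) (by norm_num) (by norm_num),
    fun e => three _ _ e (by rw [p168]; decide) (by norm_num) (by norm_num),
    fun e => three _ _ e (by rw [p168]; decide) (by norm_num) (by norm_num),
    fun e => three _ _ e (by rw [p360]; decide) (by norm_num) (by norm_num),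
    fun e => three _ _ e (by rw [p504]; decide) (by norm_num) (by norm_num),
    fun e => three _ _ e (by rw [p504]; decide) (by norm_num) (by norm_num),
    fun e => ?_, fun e => ?_,
    fun e => three _ _ e (by rw [p2448]; decide) (by norm_num) (by norm_num),
    fun e => (mem_degreePrimes_2520 e.symm).1, fun e => (mem_degreePrimes_2520 e.symm).2.1,
    fun e => (mem_degreePrimes_2520 e.symm).2.2, fun e => ?_, fun e => ?_,
    fun e => three _ _ e (by rw [p5616]; decide) (by norm_num) (by norm_num),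
    fun e => three _ _ e (by rw [p5616]; decide) (by norm_num) (by norm_num)⟩
  · haveI : Fact (Nat.Prime 11) := ⟨by norm_num⟩
    rw [(Cfsg.Agent.S4774.result (ZMod 11) 11 (by norm_num) 11 (by simp) (by norm_num) (Or.inl
      (Cfsg.Agent.S0498.result 11 (Or.inl rfl) (by rw [← e]; norm_num) (F := ZMod 11) (by simp)))).1]
    exact ⟨by norm_num, by norm_num⟩
  · haveI : Fact (Nat.Prime 13) := ⟨by norm_num⟩
    rw [(Cfsg.Agent.S4774.result (ZMod 13) 13 (by norm_num) 13 (by simp) (by norm_num) (Or.inl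
      (Cfsg.Agent.S0498.result 13 (Or.inr rfl) (by rw [← e]; norm_num) (F := ZMod 13) (by simp)))).1]
    exact ⟨by norm_num, by norm_num⟩
  · haveI : Fact (Nat.Prime 19) := ⟨by norm_num⟩
    rw [(Cfsg.Agent.S4774.result (ZMod 19) 19 (by norm_num) 19 (by simp) (by norm_num) (Or.inl
      (Cfsg.Agent.S1021.result e.symm (F := ZMod 19) (by simp)))).1]
    exact ⟨by norm_num, by norm_num⟩
  · letI : Fintype (GaloisField 2 4) := Fintype.ofFinite _
    have hF : Fintype.card (GaloisField 2 4) = 16 := by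
      rw [← Nat.card_eq_fintype_card, GaloisField.card 2 4 (by norm_num)]; norm_num
    rw [(Cfsg.Agent.S4812.result (GaloisField 2 4) 16 hF (by norm_num)
      (Or.inl (Cfsg.Agent.S0981.result e.symm hF))).1]
    exact ⟨by norm_num, by norm_num⟩

end CfsgLib.SmallSimpleGraph
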