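import Cfsg.Agent.Lib.SmallSimpleGraph.SmallCases

/-!
# Order 360: a perfect core of index six or three is impossible
-/

set_option autoImplicit false
set_option linter.unusedSectionVars false
set_option linter.style.haveILetI false
set_option synthInstance.maxSize 2000

namespace CfsgLib.SmallSimpleGraph

open Cfsg CfsgLib
open scoped ComplexConjugate CfsgLib.Char

universe u

/-- A normal simple subgroup of order 60 and index prime to `5` has all six Sylow `5`-subgroups. -/
theorem five_facts_of_sixty {G : Type u} [Group G] [Finite G] [Fact (Nat.Prime 5)] (H : Subgroup G) [H.Normal]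
    [IsSimpleGroup H] (hH : Nat.card H = 60) (hidx : ¬ 5 ∣ H.index) :
    (∀ S : Sylow 5 G, (S : Subgroup G) ≤ H) ∧ Nat.card (Sylow 5 G) = 6 ∧
      ∀ S : Sylow 5 G, Nat.card (S : Subgroup G) = 5 := by
  have hall : ∀ S : Sylow 5 G, (S : Subgroup G) ≤ H := fun S =>
    le_of_normal_of_not_dvd_index (p := 5) hidx S.isPGroup'
  have h5 : ∀ S : Sylow 5 G, Nat.card (S : Subgroup G) = 5 := fun S => by
    have hn : Nat.card ((S.subtype (hall S) : Sylow 5 H) : Subgroup H) = 5 := by
      rw [card_sylow_group (a := 1) (m := 12) (by rw [hH]; norm_num) (by norm_num) (S.subtype (hall S)), pow_one]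
    erw [Nat.card_congr (Subgroup.subgroupOfEquivOfLe (hall S)).toEquiv] at hn
    exact hn
  refine ⟨hall, ?_, h5⟩
  have h1 : Nat.card (Sylow 5 G) ≤ Nat.card (Sylow 5 H) := card_sylow_le_of_forall_le hall
  obtain ⟨a1, a2⟩ := card_sylow_facts (p := 5) (G := H) (a := 1) (m := 12) (by rw [hH]; norm_num) (by norm_num)
  have h12 := Nat.le_of_dvd (by norm_num) a1
  have hb : Nat.card (Sylow 5 G) % 5 = 1 % 5 := card_sylow_modEq_one 5 G
  have hne : Nat.card (Sylow 5 G) ≠ 1 := by
    intro h
    obtain ⟨P⟩ := (inferInstance : Nonempty (Sylow 5 G))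
    haveI := (Nat.card_eq_one_iff_unique.mp h).1
    haveI : (P : Subgroup G).Normal := Sylow.normal_of_subsingleton P
    rcases (inferInstance : ((P : Subgroup G).subgroupOf H).Normal).eq_bot_or_eq_top with e | e <;>
      have e' := congrArg (fun K : Subgroup H => Nat.card K) e <;>
      simp only [Nat.card_congr (Subgroup.subgroupOfEquivOfLe (hall P)).toEquiv, Subgroup.card_bot,
        Subgroup.card_top, hH, h5 P] at e' <;> omega
  have hpos : 0 < Nat.card (Sylow 5 G) := Nat.card_pos
  generalize Nat.card (Sylow 5 G) = t, Nat.card (Sylow 5 H) = t' at h1 a1 a2 h12 hb hne hpos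
  interval_cases t' <;> omega

/-- Inflated characters keep their degrees. -/
theorem exists_inflate {G : Type u} [Group G] [Finite G] (K : Subgroup G) [K.Normal] (ψ : IrrCharacter (G ⧸ K)) :
    ∃ χ : IrrCharacter G, (∀ g : G, (χ : G → ℂ) g = (ψ : G ⧸ K → ℂ) (QuotientGroup.mk' K g)) ∧
      charDegree (χ : G → ℂ) = charDegree (ψ : G ⧸ K → ℂ) := by
  let χ : IrrCharacter G := ⟨_, Char.isIrrCharacter_comp (QuotientGroup.mk'_surjective K) ψ.2⟩
  refine ⟨χ, fun g => rfl, ?_⟩
  refine Char.Extraspecial.charDegree_eq ?_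
  show (ψ : G ⧸ K → ℂ) (QuotientGroup.mk' K 1) = _
  rw [map_one, BrauerReynolds.value_one]

theorem key_phi : ∀ a < 8, ∀ b < 3, 60 % a = 0 → 6 % b = 0 → (a * b) % 10 = 0 → a * b ≠ 0 → b = 2 := by
  decide +kernel

variable {G : Type u} [Group G] [Finite G]

theorem sq_charDegree_le (χ : IrrCharacter G) : charDegree (χ : G → ℂ) ^ 2 ≤ Nat.card G := by
  classical
  letI : Fintype G := Fintype.ofFinite G
  have h := Char.sum_sq_degree (G := G)
  simp only [BrauerReynolds.value_one, ← Nat.cast_pow, ← Nat.cast_sum, Nat.cast_inj] at h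
  exact h ▸ Finset.single_le_sum (f := fun χ : IrrCharacter G => charDegree (χ : G → ℂ) ^ 2)
    (fun _ _ => Nat.zero_le _) (Finset.mem_univ χ)

theorem Core.false_of_360 (c : Core G) (hn : Nat.card G = 360) (ht : c.t = 60)
    (h6 : ∀ χ : IrrCharacter G, ¬ 6 ∣ charDegree (χ : G → ℂ))
    (h10 : ∃ χ : IrrCharacter G, 10 ∣ charDegree (χ : G → ℂ)) : False := by
  classical
  haveI : Fact (Nat.Prime 5) := ⟨by norm_num⟩
  haveI : Fact (Nat.Prime 3) := ⟨Nat.prime_three⟩
  haveI : Fact (Nat.Prime 2) := ⟨Nat.prime_two⟩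
  letI : Fintype G := Fintype.ofFinite G
  haveI := c.hH
  haveI := c.hM
  obtain ⟨χ, hχ⟩ := h10
  have hχd := BrauerReynolds.degree_dvd χ
  rw [hn] at hχd
  have hχ10 : charDegree (χ : G → ℂ) = 10 := by
    obtain ⟨k, hk⟩ := hχ
    have h := sq_charDegree_le χ
    rw [hn, hk] at h
    have hk0 : k ≠ 0 := fun h0 => by rw [hk, h0] at hχd; norm_num at hχd
    have hk1 : k < 2 := by
      by_contra h'
      have := Nat.pow_le_pow_left (show 20 ≤ 10 * k by omega) 2
      omega
    rw [hk, show k = 1 by omega]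
  have hHd : Nat.card c.H ∣ 360 := hn ▸ Subgroup.card_subgroup_dvd_card c.H
  rw [c.card_H, ht] at hHd
  have h6' : Nat.card c.M ∣ 6 :=
    Nat.dvd_of_mul_dvd_mul_left (by norm_num) (show 60 * Nat.card c.M ∣ 60 * 6 from hHd)
  have hM6 : Nat.card c.M = 1 ∨ Nat.card c.M = 2 ∨ Nat.card c.M = 3 ∨ Nat.card c.M = 6 := by
    have := Nat.le_of_dvd (by norm_num) h6'
    have := Nat.card_pos (α := c.M)
    generalize Nat.card c.M = t at *
    interval_cases t <;> omega
  rcases hM6 with hM | hM | hM | hM
  rotate_left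
  · -- `|H| = 120`: the degree 10 is a degree of `H`
    have hHc : Nat.card c.H = 120 := by rw [c.card_H, ht, hM]
    have hidx : c.H.index = 3 := by
      have h := c.H.card_mul_index
      rw [hHc, hn] at h
      omega
    letI : Fintype c.H := Fintype.ofFinite c.H
    obtain ⟨θ₀, hθ₀⟩ := Char.exists_constituent c.H (Char.isCharacter_of_isIrr χ.2) (Char.irr_degree_ne_zero χ.2)
    obtain ⟨k, hk, hkd⟩ := Char.degree_ratio c.H θ₀.2 χ.2 hθ₀
    rw [BrauerReynolds.value_one, BrauerReynolds.value_one, hχ10] at hk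
    have hk' : 10 = k * charDegree (θ₀ : c.H → ℂ) := by exact_mod_cast hk
    rw [hidx] at hkd
    have hθ : charDegree (θ₀ : c.H → ℂ) = 10 := by
      rcases (Nat.dvd_prime Nat.prime_three).mp hkd with e | e <;> rw [e] at hk' <;> omega
    set K : Subgroup c.H := c.M.subgroupOf c.H
    have hKc : Nat.card (c.H ⧸ K) = 60 := by
      have h := Subgroup.card_eq_card_quotient_mul_card_subgroup K
      rw [hHc, Nat.card_congr (Subgroup.subgroupOfEquivOfLe c.le).toEquiv, hM] at h
      omega
    letI : Fintype (c.H ⧸ K) := Fintype.ofFinite _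
    choose inf hinf hdeg using exists_inflate K
    have hinj : Function.Injective inf := fun a b hab => by
      refine Subtype.ext (funext fun q => ?_)
      obtain ⟨g, rfl⟩ := QuotientGroup.mk'_surjective K q
      rw [← hinf a g, ← hinf b g, hab]
    have hnot : θ₀ ∉ (Finset.univ.image inf) := by
      simp only [Finset.mem_image, Finset.mem_univ, true_and, not_exists]
      intro ψ hψ
      have h := sq_charDegree_le ψ
      rw [← hdeg ψ, hψ, hθ, hKc] at h
      norm_num at h
    have hsum := Char.sum_sq_degree (G := c.H)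
    simp only [BrauerReynolds.value_one, ← Nat.cast_pow, ← Nat.cast_sum, Nat.cast_inj, hHc] at hsum
    have hsum' := Char.sum_sq_degree (G := c.H ⧸ K)
    simp only [BrauerReynolds.value_one, ← Nat.cast_pow, ← Nat.cast_sum, Nat.cast_inj, hKc] at hsum'
    have hle := Finset.sum_le_sum_of_subset (f := fun θ : IrrCharacter c.H => charDegree (θ : c.H → ℂ) ^ 2)
      (Finset.subset_univ (insert θ₀ (Finset.univ.image inf)))
    rw [Finset.sum_insert hnot, Finset.sum_image (fun a _ b _ h => hinj h), hsum, hθ] at hle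
    simp only [hdeg] at hle
    rw [hsum'] at hle
    norm_num at hle
  · exact c.false_of_three (m := 20) (by rw [c.card_H, ht, hM]; norm_num) (by norm_num) (Or.inl hM)
  · exact c.false_of_three (m := 40) (by rw [c.card_H, ht, hM]; norm_num) (by norm_num) (Or.inr hM)
  -- `|H| = 60`
  obtain ⟨hHs, hHnc, hHc⟩ := c.isSimple_H hM
  haveI := hHs
  rw [ht] at hHc
  have hidx : c.H.index = 6 := by
    have h := c.H.card_mul_index
    rw [hHc, hn] at h
    omega
  obtain ⟨hall, hsix, h5⟩ := five_facts_of_sixty c.H hHc (by rw [hidx]; norm_num)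
  obtain ⟨P⟩ := (inferInstance : Nonempty (Sylow 5 G))
  set N := Subgroup.normalizer ((P : Subgroup G) : Set G) with hN
  set CP := Subgroup.centralizer ((P : Subgroup G) : Set G) with hCP
  have hNc : Nat.card N = 60 := by
    have h := N.card_mul_index
    erw [← Sylow.card_eq_index_normalizer P] at h
    rw [hsix, hn] at h
    omega
  have hCN : CP ≤ N := Subgroup.centralizer_le_normalizer _
  have h15 : 15 ∣ Nat.card CP := by
    haveI : IsCyclic (P : Subgroup G) := isCyclic_of_prime_card (h5 P)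
    have key := Subgroup.card_dvd_of_injective _
      (QuotientGroup.kerLift_injective (P : Subgroup G).normalizerMonoidHom)
    rw [Subgroup.normalizerMonoidHom_ker, ← Subgroup.index_eq_card, IsCyclic.card_mulAut, h5 P,
      Nat.totient_prime (by norm_num : Nat.Prime 5)] at key
    have h := (CP.subgroupOf N).card_mul_index
    rw [Nat.card_congr (Subgroup.subgroupOfEquivOfLe hCN).toEquiv] at h
    change Nat.card CP * (CP.subgroupOf N).index = Nat.card N at h
    rw [hNc] at h
    change (CP.subgroupOf N).index ∣ 5 - 1 at key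
    have h4 := Nat.le_of_dvd (by norm_num) key
    generalize (CP.subgroupOf N).index = i at *
    interval_cases i <;> omega
  set C := Subgroup.centralizer (c.H : Set G) with hCdef
  haveI : C.Normal := inferInstance
  obtain ⟨z, hz⟩ := exists_prime_orderOf_dvd_card' (G := CP) 3 ((show 3 ∣ 15 by norm_num).trans h15)
  have hzC : (z : G) ∈ C := mem_centralizer_of_commute_five c.H hHc hall (r := 3) (by norm_num)
    (by rw [Subgroup.orderOf_coe, hz]) P z.2
  have h3C : 3 ∣ Nat.card C := by
    have h := Subgroup.orderOf_dvd_natCard C hzC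
    rwa [Subgroup.orderOf_coe, hz] at h
  obtain ⟨hCH, hCd⟩ := c.centralizer_facts
  rw [ht, hn] at hCd
  have hC6 : Nat.card C ∣ 6 := Nat.dvd_of_mul_dvd_mul_left (by norm_num) (show 60 * Nat.card C ∣ 60 * 6 from hCd)
  have hCH1 : ∀ x, x ∈ C → x ∈ c.H → x = 1 := fun x hx hx' => by
    have h : x ∈ c.M := hCH ⟨hx, hx'⟩
    rwa [Subgroup.card_eq_one.mp hM, Subgroup.mem_bot] at h
  have hcomm : ∀ h ∈ c.H, ∀ x ∈ C, h * x = x * h := fun h hh x hx => Subgroup.mem_centralizer_iff.mp hx h hh
  have hC36 : Nat.card C = 3 ∨ Nat.card C = 6 := by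
    have := Nat.le_of_dvd (by norm_num) hC6
    generalize Nat.card C = t at *
    interval_cases t <;> omega
  rcases hC36 with hC | hC
  swap
  · -- `G = H × C`
    let m : c.H × C →* G := MonoidHom.noncommCoprod c.H.subtype C.subtype fun h x => hcomm h h.2 x x.2
    have hm : Function.Injective m := by
      rw [injective_iff_map_eq_one]
      rintro ⟨h, x⟩ e
      change (h : G) * (x : G) = 1 at e
      have hh : (h : G) = 1 := hCH1 _ (by rw [eq_inv_of_mul_eq_one_left e]; exact C.inv_mem x.2) h.2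
      rw [hh, one_mul] at e
      exact Prod.ext (Subtype.ext hh) (Subtype.ext e)
    have hbij : Function.Bijective m := (Nat.bijective_iff_injective_and_card _).mpr
      ⟨hm, by rw [Nat.card_prod, hHc, hC, hn]⟩
    let E : c.H × C ≃* G := MulEquiv.ofBijective m hbij
    have hirr : IsIrrCharacter (c.H × C) fun x => (χ : G → ℂ) (E x) :=
      (Char.isIrrCharacter_comp_equiv E).mpr χ.2
    obtain ⟨φ, ψ, hφ, hψ, hfun⟩ := (Char.isIrr_prod_iff _).mp hirr
    set a := charDegree ((⟨φ, hφ⟩ : IrrCharacter c.H) : c.H → ℂ) with ha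
    set b := charDegree ((⟨ψ, hψ⟩ : IrrCharacter C) : C → ℂ) with hb
    have hab : a * b = 10 := by
      have h := congrFun hfun 1
      simp only [map_one, Prod.fst_one, Prod.snd_one] at h
      rw [BrauerReynolds.value_one, hχ10,
        show φ 1 = (a : ℂ) from BrauerReynolds.value_one (⟨φ, hφ⟩ : IrrCharacter c.H),
        show ψ 1 = (b : ℂ) from BrauerReynolds.value_one (⟨ψ, hψ⟩ : IrrCharacter C)] at h
      exact_mod_cast h.symm
    letI : Fintype c.H := Fintype.ofFinite _
    letI : Fintype C := Fintype.ofFinite _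
    have ha2 := sq_charDegree_le (⟨φ, hφ⟩ : IrrCharacter c.H)
    have hb2 := sq_charDegree_le (⟨ψ, hψ⟩ : IrrCharacter C)
    rw [← ha, hHc] at ha2
    rw [← hb, hC] at hb2
    have ha8 : a < 8 := by
      by_contra h
      have := Nat.pow_le_pow_left (Nat.le_of_not_lt h) 2
      omega
    have hb3 : b < 3 := by
      by_contra h
      have := Nat.pow_le_pow_left (Nat.le_of_not_lt h) 2
      omega
    have had := BrauerReynolds.degree_dvd (⟨φ, hφ⟩ : IrrCharacter c.H)
    have hbd := BrauerReynolds.degree_dvd (⟨ψ, hψ⟩ : IrrCharacter C)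
    rw [← ha, hHc] at had
    rw [← hb, hC] at hbd
    have hb2' : b = 2 := key_phi a ha8 b hb3 (Nat.mod_eq_zero_of_dvd had) (Nat.mod_eq_zero_of_dvd hbd)
      (by rw [hab]) (by rw [hab]; norm_num)
    obtain ⟨-, d, ⟨φ₃, hφ₃⟩, h3d⟩ := mem_degreePrimes_of_three hHnc
      (by rw [hHc, show Nat.primeFactors 60 = {2, 3, 5} by decide +kernel]; decide) Nat.prime_three
      (by rw [hHc]; norm_num)
    have hnew : IsIrrCharacter (c.H × C) fun x => (φ₃ : c.H → ℂ) x.1 * ψ x.2 :=
      (Char.isIrr_prod_iff _).mpr ⟨_, _, φ₃.2, hψ, rfl⟩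
    let χ' : IrrCharacter G := ⟨fun g => (φ₃ : c.H → ℂ) (E.symm g).1 * ψ (E.symm g).2,
      (Char.isIrrCharacter_comp_equiv E.symm).mpr hnew⟩
    refine h6 χ' ?_
    have e : charDegree (χ' : G → ℂ) = d * b := Char.Extraspecial.charDegree_eq (by
      show (φ₃ : c.H → ℂ) (E.symm 1).1 * ψ (E.symm 1).2 = _
      rw [map_one, Prod.fst_one, Prod.snd_one, BrauerReynolds.value_one, hφ₃,
        show ψ 1 = (b : ℂ) from BrauerReynolds.value_one (⟨ψ, hψ⟩ : IrrCharacter C)]
      push_cast; rfl)
    rw [e, hb2', show (6 : ℕ) = 3 * 2 from rfl]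
    exact mul_dvd_mul_right h3d 2
  -- `|C(H)| = 3`: work in `G ⧸ C(H)`
  haveI : IsCyclic (P : Subgroup G) := isCyclic_of_prime_card (h5 P)
  obtain ⟨v, hvgen⟩ := IsCyclic.exists_generator (α := (P : Subgroup G))
  have hv : orderOf (v : G) = 5 := by rw [Subgroup.orderOf_coe, orderOf_eq_card_of_forall_mem_zpowers hvgen, h5 P]
  have hzP : Subgroup.zpowers (v : G) = (P : Subgroup G) :=
    Subgroup.eq_of_le_of_card_ge (Subgroup.zpowers_le.mpr v.2) (by rw [Nat.card_zpowers, hv, h5 P])
  have hCv : Subgroup.centralizer ({(v : G)} : Set G) = CP := by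
    refine Eq.trans ?_ (congrArg (fun K : Subgroup G => Subgroup.centralizer (K : Set G)) hzP)
    show Subgroup.centralizer ({(v : G)} : Set G) = Subgroup.centralizer (Subgroup.zpowers (v : G) : Set G)
    rw [Subgroup.zpowers_eq_closure, Subgroup.centralizer_closure]
  have hCP15 : Nat.card CP = 15 := by
    have hodd : ¬ 2 ∣ Nat.card CP := by
      intro h2
      obtain ⟨s, hs⟩ := exists_prime_orderOf_dvd_card' (G := CP) 2 h2
      have hsC : (s : G) ∈ C := mem_centralizer_of_commute_five c.H hHc hall (r := 2) (by norm_num)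
        (by rw [Subgroup.orderOf_coe, hs]) P s.2
      have h := Subgroup.orderOf_dvd_natCard C hsC
      rw [Subgroup.orderOf_coe, hs, hC] at h
      norm_num at h
    have hd := Subgroup.card_dvd_of_le hCN
    rw [hNc] at hd
    obtain ⟨k, hk⟩ := h15
    rw [hk] at hd hodd ⊢
    have hk4 : k ∣ 4 := Nat.dvd_of_mul_dvd_mul_left (by norm_num) (show 15 * k ∣ 15 * 4 from hd)
    have := Nat.le_of_dvd (by norm_num) hk4
    interval_cases k <;> omega
  set π := QuotientGroup.mk' C with hπ
  have hQ : Nat.card (G ⧸ C) = 120 := by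
    have h := Subgroup.card_eq_card_quotient_mul_card_subgroup C
    rw [hn, hC] at h
    omega
  have hker : ∀ x ∈ c.H, π x = 1 → x = 1 := fun x hx e =>
    hCH1 x ((QuotientGroup.eq_one_iff x).mp e) hx
  have hv' : orderOf (π (v : G)) = 5 := by
    refine orderOf_eq_prime ?_ fun e => ?_
    · have h := pow_orderOf_eq_one (v : G)
      rw [hv] at h
      rw [← map_pow, h, map_one]
    · have := hker _ (hall P v.2) e
      rw [this, orderOf_one] at hv
      norm_num at hv
  have hcent : Subgroup.centralizer ({π (v : G)} : Set (G ⧸ C)) = CP.map π := by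
    ext q
    constructor
    · intro hq
      obtain ⟨g, rfl⟩ := QuotientGroup.mk'_surjective C q
      rw [Subgroup.mem_centralizer_singleton_iff] at hq
      refine ⟨g, ?_, rfl⟩
      rw [SetLike.mem_coe, ← hCv, Subgroup.mem_centralizer_singleton_iff]
      have hmem : g * v * g⁻¹ * (v : G)⁻¹ ∈ c.H :=
        c.H.mul_mem (c.hH.conj_mem _ (hall P v.2) g) (c.H.inv_mem (hall P v.2))
      have := hker _ hmem (by rw [map_mul, map_mul, map_mul, map_inv, map_inv, hq, mul_inv_cancel_right, mul_inv_cancel])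
      rw [mul_inv_eq_one, mul_inv_eq_iff_eq_mul] at this
      exact this
    · rintro ⟨g, hg, rfl⟩
      have hg' : g ∈ Subgroup.centralizer ({(v : G)} : Set G) := hCv ▸ hg
      rw [Subgroup.mem_centralizer_singleton_iff] at hg' ⊢
      rw [← map_mul, hg', map_mul]
  have hcent5 : Nat.card (Subgroup.centralizer ({π (v : G)} : Set (G ⧸ C))) = 5 := by
    rw [hcent]
    have hle : C ≤ CP := fun x hx => Subgroup.mem_centralizer_iff.mpr fun y hy => hcomm y (hall P hy) x hx
    let f : CP →* (G ⧸ C) := π.comp CP.subtype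
    have hr : f.range = CP.map π := by rw [MonoidHom.range_comp, Subgroup.range_subtype]
    have hk : f.ker = C.subgroupOf CP := by
      ext x
      rw [MonoidHom.mem_ker, MonoidHom.comp_apply, hπ, QuotientGroup.mk'_apply, QuotientGroup.eq_one_iff,
        Subgroup.mem_subgroupOf]
      rfl
    have h := Subgroup.card_eq_card_quotient_mul_card_subgroup f.ker
    rw [Nat.card_congr (QuotientGroup.quotientKerEquivRange f).toEquiv, hr, hk,
      Nat.card_congr (Subgroup.subgroupOfEquivOfLe hle).toEquiv, hC, hCP15] at h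
    omega
  let fH : c.H →* (G ⧸ C) := π.comp c.H.subtype
  have hfH : Function.Injective fH := by
    rw [injective_iff_map_eq_one]
    exact fun x e => Subtype.ext (hker _ x.2 e)
  have hbar : c.H.map π = fH.range := by rw [MonoidHom.range_comp, Subgroup.range_subtype]
  haveI : IsSimpleGroup fH.range := by
    haveI : Nontrivial fH.range := (MonoidHom.ofInjective hfH).toEquiv.symm.nontrivial
    exact IsSimpleGroup.isSimpleGroup_of_surjective (MonoidHom.ofInjective hfH).toMonoidHom
      (MulEquiv.surjective _)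
  haveI : fH.range.Normal := hbar ▸ c.hH.map π (QuotientGroup.mk'_surjective C)
  have hbc : Nat.card fH.range = 60 := by rw [← hHc]; exact (Nat.card_congr (MonoidHom.ofInjective hfH).toEquiv).symm
  have hbi : fH.range.index = 2 := by
    have h := fH.range.card_mul_index
    rw [hbc, hQ] at h
    omega
  obtain ⟨-, hsix', h5'⟩ := five_facts_of_sixty fH.range hbc (by rw [hbi]; norm_num)
  have hcomm' : (commutator (G ⧸ C)).index ≤ 2 := by
    rw [← hbi]
    refine Nat.le_of_dvd (Nat.pos_of_ne_zero Subgroup.index_ne_zero_of_finite) (Subgroup.index_dvd_of_le ?_)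
    rw [MonoidHom.range_eq_map, ← c.hperf, commutator_def, Subgroup.map_commutator, commutator_def]
    exact Subgroup.commutator_mono le_top le_top
  have hN20 : Nat.card (Subgroup.normalizer (Subgroup.zpowers (π (v : G)) : Set (G ⧸ C))) = 20 := by
    obtain ⟨S, hS⟩ := (IsPGroup.of_card (p := 5) (n := 1)
      (by rw [Nat.card_zpowers, hv', pow_one] : Nat.card (Subgroup.zpowers (π (v : G))) = 5 ^ 1)).exists_le_sylow
    have e : Subgroup.zpowers (π (v : G)) = (S : Subgroup (G ⧸ C)) :=
      Subgroup.eq_of_le_of_card_ge hS (by rw [Nat.card_zpowers, hv', h5' S])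
    rw [e]
    have h := (Subgroup.normalizer ((S : Subgroup (G ⧸ C)) : Set (G ⧸ C))).card_mul_index
    erw [← Sylow.card_eq_index_normalizer S] at h
    rw [hsix', hQ] at h
    omega
  refine false_of_order_120 hQ hv' hcent5 hN20 hcomm' fun ψ hψ => ?_
  obtain ⟨χ', -, hd⟩ := exists_inflate C ψ
  exact h6 χ' (hd ▸ hψ)

end CfsgLib.SmallSimpleGraph
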