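import Cfsg.Agent.Lib.SmallSimpleGraph.GraphFacts
import Cfsg.Agent.Lib.SmallSimpleGraph.ThreeSixty

/-!
# A group with the order and the degree graph of a small simple group is simple
-/

set_option autoImplicit false
set_option linter.unusedSectionVars false
set_option linter.style.haveILetI false
set_option synthInstance.maxSize 2000
set_option synthInstance.maxHeartbeats 200000

namespace CfsgLib.SmallSimpleGraph

open Cfsg CfsgLib

universe u v

theorem core_index_cases : ∀ n ∈ smallOrders, ∀ t ∈ smallOrders, t ∣ n →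
    t = n ∨ (n, t) ∈ ([(360, 60), (504, 168), (660, 60), (2520, 60), (2520, 168), (2520, 360), (2520, 504),
      (3420, 60), (4080, 60)] : List (ℕ × ℕ)) := by decide +kernel

variable {S : Type u} [Group S] [Finite S] [IsSimpleGroup S] {G : Type v} [Group G] [Finite G]

/-- The solvable case. -/
theorem not_isSolvable_of_graph (hS : Nat.card S ∈ smallOrders) (hcard : Nat.card G = Nat.card S)
    (hprimes : Cfsg.degreePrimes G = Cfsg.degreePrimes S) : ¬ Group.IsSolvable G := by
  intro hsol
  have hd : ∀ r ∈ ([(60, 5), (168, 7), (168, 2), (360, 5), (504, 7), (504, 2), (660, 11), (1092, 13), (2448, 17),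
      (2520, 7), (2520, 5), (2520, 2), (3420, 19), (4080, 17), (5616, 13), (5616, 3)] : List (ℕ × ℕ)),
      r.1 = Nat.card G → r.2 ∈ Cfsg.degreePrimes G := fun r hr e =>
    hprimes ▸ mem_degreePrimes_special hS r hr (e.trans hcard)
  have free : ∀ (p m : ℕ) [Fact p.Prime], Nat.card G = p * m → ¬ p ∣ m → p ∈ Cfsg.degreePrimes G →
      Good m p 1 → False := fun p m _ hn hpm hdeg hgood =>
    false_of_solvable (q := 2) (a := 0) hn hpm hdeg Nat.prime_two (by rwa [pow_zero]) (fun h => absurd rfl h)
      (fun h => absurd rfl h)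
  have fix : ∀ (p m q a : ℕ) [Fact p.Prime], Nat.card G = p * m → ¬ p ∣ m → p ∈ Cfsg.degreePrimes G →
      q.Prime → Good m p (q ^ a) → ¬ q ^ (a + 1) ∣ p * m → q ∈ Cfsg.degreePrimes G → False :=
    fun p m q a _ hn hpm hdeg hq hgood hqa hqdeg =>
      false_of_solvable hn hpm hdeg hq hgood (fun _ => hqa) (fun _ => hqdeg)
  rw [← hcard] at hS
  simp only [smallOrders, List.mem_cons, List.not_mem_nil, or_false] at hS
  rcases hS with e | e | e | e | e | e | e | e | e | e | e
  · haveI : Fact (Nat.Prime 5) := ⟨by norm_num⟩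
    exact free 5 12 (by rw [e]) (by norm_num) (hd (60, 5) (by decide) e.symm)
      (good_of_decide (by norm_num) (by decide +kernel))
  · haveI : Fact (Nat.Prime 7) := ⟨by norm_num⟩
    exact fix 7 24 2 3 (by rw [e]) (by norm_num) (hd (168, 7) (by decide) e.symm) Nat.prime_two
      (good_of_decide (by norm_num) (by decide +kernel)) (by norm_num) (hd (168, 2) (by decide) e.symm)
  · haveI : Fact (Nat.Prime 5) := ⟨by norm_num⟩
    exact free 5 72 (by rw [e]) (by norm_num) (hd (360, 5) (by decide) e.symm)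
      (good_of_decide (by norm_num) (by decide +kernel))
  · haveI : Fact (Nat.Prime 7) := ⟨by norm_num⟩
    exact fix 7 72 2 3 (by rw [e]) (by norm_num) (hd (504, 7) (by decide) e.symm) Nat.prime_two
      (good_of_decide (by norm_num) (by decide +kernel)) (by norm_num) (hd (504, 2) (by decide) e.symm)
  · haveI : Fact (Nat.Prime 11) := ⟨by norm_num⟩
    exact free 11 60 (by rw [e]) (by norm_num) (hd (660, 11) (by decide) e.symm)
      (good_of_decide (by norm_num) (by decide +kernel))
  · haveI : Fact (Nat.Prime 13) := ⟨by norm_num⟩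
    exact free 13 84 (by rw [e]) (by norm_num) (hd (1092, 13) (by decide) e.symm)
      (good_of_decide (by norm_num) (by decide +kernel))
  · haveI : Fact (Nat.Prime 17) := ⟨by norm_num⟩
    exact free 17 144 (by rw [e]) (by norm_num) (hd (2448, 17) (by decide) e.symm)
      (good_of_decide (by norm_num) (by decide +kernel))
  · haveI : Fact (Nat.Prime 7) := ⟨by norm_num⟩
    exact fix 7 360 2 3 (by rw [e]) (by norm_num) (hd (2520, 7) (by decide) e.symm) Nat.prime_two
      (good_of_decide (by norm_num) (by decide +kernel)) (by norm_num) (hd (2520, 2) (by decide) e.symm)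
  · haveI : Fact (Nat.Prime 19) := ⟨by norm_num⟩
    exact free 19 180 (by rw [e]) (by norm_num) (hd (3420, 19) (by decide) e.symm)
      (good_of_decide (by norm_num) (by decide +kernel))
  · haveI : Fact (Nat.Prime 17) := ⟨by norm_num⟩
    exact free 17 240 (by rw [e]) (by norm_num) (hd (4080, 17) (by decide) e.symm)
      (good_of_decide (by norm_num) (by decide +kernel))
  · haveI : Fact (Nat.Prime 13) := ⟨by norm_num⟩
    exact fix 13 432 3 3 (by rw [e]) (by norm_num) (hd (5616, 13) (by decide) e.symm) Nat.prime_three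
      (good_of_decide (by norm_num) (by decide +kernel)) (by norm_num) (hd (5616, 3) (by decide) e.symm)

/-- A group with the order and the degree graph of a small simple group is simple. -/
theorem isSimpleGroup_of_graph (hS : Nat.card S ∈ smallOrders) (hcard : Nat.card G = Nat.card S)
    (hprimes : Cfsg.degreePrimes G = Cfsg.degreePrimes S) (hgraph : Cfsg.degreeGraph G = Cfsg.degreeGraph S) :
    IsSimpleGroup G := by
  classical
  have hd : ∀ r ∈ ([(60, 5), (168, 7), (168, 2), (360, 5), (504, 7), (504, 2), (660, 11), (1092, 13), (2448, 17),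
      (2520, 7), (2520, 5), (2520, 2), (3420, 19), (4080, 17), (5616, 13), (5616, 3)] : List (ℕ × ℕ)),
      r.1 = Nat.card G → r.2 ∈ Cfsg.degreePrimes G := fun r hr e =>
    hprimes ▸ mem_degreePrimes_special hS r hr (e.trans hcard)
  have hG : Nat.card G ∈ smallOrders := hcard ▸ hS
  obtain ⟨c⟩ := exists_core hG (not_isSolvable_of_graph hS hcard hprimes)
  have hdvd : c.t ∣ Nat.card G :=
    (Dvd.intro _ c.card_H.symm).trans (Subgroup.card_subgroup_dvd_card c.H)
  rcases core_index_cases _ hG _ c.t_mem hdvd with h | h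
  · exact c.isSimpleGroup h
  exfalso
  simp only [List.mem_cons, Prod.mk.injEq, List.not_mem_nil, or_false] at h
  rcases h with ⟨hn, ht⟩ | ⟨hn, ht⟩ | ⟨hn, ht⟩ | ⟨hn, ht⟩ | ⟨hn, ht⟩ | ⟨hn, ht⟩ | ⟨hn, ht⟩ | ⟨hn, ht⟩ | ⟨hn, ht⟩
  · obtain ⟨h23, h25⟩ := adj_360 (S := S) (hcard.symm.trans hn)
    rw [← hgraph] at h23 h25
    refine c.false_of_360 hn ht (fun χ hχ => h23 ⟨by norm_num, Nat.prime_two, Nat.prime_three, _, ⟨χ, rfl⟩, hχ⟩) ?_
    obtain ⟨-, -, -, d, ⟨χ, hχ⟩, hdd⟩ := h25
    exact ⟨χ, hχ ▸ hdd⟩
  · haveI := c.hH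
    obtain ⟨hsimp, -, hc⟩ := c.isSimple_H (c.card_M_of_504 hn ht)
    haveI := hsimp
    obtain ⟨θ, hθ⟩ := exists_six_168 (S := c.H) (hc.trans ht)
    obtain ⟨χ, d, hd', hed⟩ := Char.ThreePrimes.exists_over_dvd c.H θ (charDegree (θ : c.H → ℂ))
      (BrauerReynolds.value_one θ)
    refine not_adj_two_three_504 (S := S) (hcard.symm.trans hn) (hgraph ▸ ?_)
    exact ⟨by norm_num, Nat.prime_two, Nat.prime_three, d,
      ⟨χ, Char.Extraspecial.charDegree_eq hd'⟩, hθ.trans hed⟩
  · haveI : Fact (Nat.Prime 11) := ⟨by norm_num⟩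
    exact c.false_of_good (p := 11) (m := 60) (s := 1) (by rw [hn]) (by norm_num) (by rw [hn, ht]) (by norm_num)
      (by norm_num) (hd (660, 11) (by decide) hn.symm) (good_of_decide (by norm_num) (by decide +kernel))
  · exact c.false_of_2520 hn (Or.inl ht) (hd (2520, 7) (by decide) hn.symm)
  · haveI : Fact (Nat.Prime 5) := ⟨by norm_num⟩
    exact c.false_of_good (p := 5) (m := 504) (s := 3) (by rw [hn]) (by norm_num) (by rw [hn, ht]) (by norm_num)
      (by norm_num) (hd (2520, 5) (by decide) hn.symm) (good_of_decide (by norm_num) (by decide +kernel))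
  · exact c.false_of_2520 hn (Or.inr ht) (hd (2520, 7) (by decide) hn.symm)
  · haveI : Fact (Nat.Prime 5) := ⟨by norm_num⟩
    exact c.false_of_good (p := 5) (m := 504) (s := 1) (by rw [hn]) (by norm_num) (by rw [hn, ht]) (by norm_num)
      (by norm_num) (hd (2520, 5) (by decide) hn.symm) (good_of_decide (by norm_num) (by decide +kernel))
  · haveI : Fact (Nat.Prime 19) := ⟨by norm_num⟩
    exact c.false_of_good (p := 19) (m := 180) (s := 3) (by rw [hn]) (by norm_num) (by rw [hn, ht]) (by norm_num)
      (by norm_num) (hd (3420, 19) (by decide) hn.symm) (good_of_decide (by norm_num) (by decide +kernel))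
  · haveI : Fact (Nat.Prime 17) := ⟨by norm_num⟩
    exact c.false_of_good (p := 17) (m := 240) (s := 4) (by rw [hn]) (by norm_num) (by rw [hn, ht]) (by norm_num)
      (by norm_num) (hd (4080, 17) (by decide) hn.symm) (good_of_decide (by norm_num) (by decide +kernel))

end CfsgLib.SmallSimpleGraph
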