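import Cfsg.Agent.Lib.BrauerTuan.Two
import Cfsg.Agent.Lib.BrauerTuan.SmallCofactor
import Cfsg.Agent.S0904

/-!
# There are no simple groups of order 1512, 1620, 2160, 2400, 2700, 3240 or 3360
-/

set_option autoImplicit false
set_option linter.unusedSectionVars false
set_option linter.style.haveILetI false

namespace CfsgLib.SmallSimpleGraph

open Cfsg CfsgLib CfsgLib.BrauerTuan
open scoped CfsgLib.Char
open scoped _root_.Classical

universe u

variable {G : Type u} [Group G] [Fintype G] [IsSimpleGroup G]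

theorem false_of_card_four_or_three {p q a b : ℕ} (hp : p.Prime) (hq : q.Prime) (hpq : p ≠ q) (ha : a ≤ 2)
    {n : ℕ} (hn : Nat.card G = n) (h60 : n ≠ 60) (h168 : n ≠ 168) (hnp : ¬ n.Prime)
    (h : n = 4 * p ^ a * q ^ b ∨ n = 3 * p ^ a * q ^ b) : False := by
  have hG : ¬ IsMulCommutative G := SmallOrder.not_comm_of_not_prime (hn ▸ hnp)
  rcases h with h | h
  · exact h60 (hn ▸ SmallCofactor.main_four hG hp hq hpq ha (hn.trans h))
  · rcases SmallCofactor.main_three hG hp hq hpq ha (hn.trans h) with h' | h'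
    · exact h60 (hn ▸ h')
    · exact h168 (hn ▸ h')

theorem false_1620 (hn : Nat.card G = 1620) : False :=
  false_of_card_four_or_three (p := 5) (q := 3) (a := 1) (b := 4) (by norm_num) (by norm_num) (by norm_num)
    (by norm_num) hn (by norm_num) (by norm_num) (by norm_num) (Or.inl (by norm_num))

theorem false_2700 (hn : Nat.card G = 2700) : False :=
  false_of_card_four_or_three (p := 5) (q := 3) (a := 2) (b := 3) (by norm_num) (by norm_num) (by norm_num)
    (by norm_num) hn (by norm_num) (by norm_num) (by norm_num) (Or.inl (by norm_num))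

theorem false_2400 (hn : Nat.card G = 2400) : False :=
  false_of_card_four_or_three (p := 5) (q := 2) (a := 2) (b := 5) (by norm_num) (by norm_num) (by norm_num)
    (by norm_num) hn (by norm_num) (by norm_num) (by norm_num) (Or.inr (by norm_num))

/-- For an order `2 ^ a * 3 ^ b * 5` the centralizer of a Sylow `5`-subgroup is itself. -/
theorem k_eq_one_five [Fact (Nat.Prime 5)] {n a b k B : ℕ} {qs : List ℕ} (T : OrderCtx G n 5 qs B k)
    (hn : n = 2 ^ a * 3 ^ b * 5) : k = 1 := by
  have h := Cfsg.Agent.S0904.result 2 3 5 a b Nat.prime_two Nat.prime_three (by norm_num) (by norm_num)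
    (by norm_num) (T.card_eq.trans hn) T.P
  have h1 := T.card_C
  have h' : Subgroup.centralizer ((T.P : Subgroup G) : Set G) = (T.P : Subgroup G) := h
  rw [h', T.card_P] at h1
  omega

theorem false_3240 (hn : Nat.card G = 3240) : False := by
  haveI : Fact (Nat.Prime 5) := ⟨by norm_num⟩
  obtain ⟨k, T, hT⟩ := exists_ctx_of_orderBad hn 5 [5] 80 [(36, 2, 9)] (by norm_num) (by norm_num)
    (by norm_num) (by norm_num) (by norm_num) (by simp <;> norm_num) (by decide +kernel)
  simp only [List.mem_singleton, Prod.mk.injEq] at hT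
  have := k_eq_one_five T (a := 3) (b := 4) (by norm_num)
  omega

theorem false_2160 (hn : Nat.card G = 2160) : False := by
  haveI : Fact (Nat.Prime 5) := ⟨by norm_num⟩
  obtain ⟨k, T, hT⟩ := exists_ctx_of_orderBad hn 5 [5] 46 [(36, 4, 3), (216, 2, 1)] (by norm_num) (by norm_num)
    (by norm_num) (by norm_num) (by norm_num) (by simp <;> norm_num) (by decide +kernel)
  have := k_eq_one_five T (a := 4) (b := 3) (by norm_num)
  simp only [List.mem_cons, List.not_mem_nil, or_false, Prod.mk.injEq] at hT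
  rcases hT with ⟨h1, h2, h3⟩ | ⟨h1, h2, h3⟩
  · omega
  · exact false_of_twoBad T (b := 4) h1 h2 h3 (by norm_num) (by norm_num) (by norm_num) (by decide +kernel)

/-- No degree and value at an involution whose centralizer order is a multiple of `7`, for the order 3360. -/
def sevenBad : Bool :=
  (List.range 58).all fun x => ([1, -1] : List ℤ).all fun δ =>
    let z := ((1 : ℤ) + δ * x).natAbs
    let K := (((x : ℤ) + 4 * δ) / 5).toNat
    decide (x < 2) || decide (672 % x ≠ 0) || decide (((x : ℤ) - δ) % 5 ≠ 0) || decide (672 % z ≠ 0) ||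
      (List.range (2 * K + 1)).all fun i => decide ((((x : ℤ) - ((i : ℤ) - K)) % 4) ≠ 0) ||
        (List.range 481).all fun j =>
          decide (3360 % (7 * j) ≠ 0) || decide ((7 * j) * (7 * j) * (5 * (x * z)) ≠
            3360 * ((((i : ℤ) - K) - x).natAbs * (((i : ℤ) - K) - x).natAbs))

theorem sevenBad_ok : sevenBad = true := by decide +kernel

theorem false_3360 (hn : Nat.card G = 3360) : False := by
  haveI : Fact (Nat.Prime 5) := ⟨by norm_num⟩
  haveI : Fact (Nat.Prime 7) := ⟨by norm_num⟩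
  haveI : Fact (Nat.Prime 2) := ⟨Nat.prime_two⟩
  obtain ⟨k, T, hT⟩ := exists_ctx_of_orderBad hn 5 [3, 5, 7] 57 [(336, 2, 1)] (by norm_num) (by norm_num)
    (by norm_num) (by norm_num) (by norm_num) (by simp <;> norm_num) (by decide +kernel)
  obtain ⟨k', T', hT'⟩ := exists_ctx_of_orderBad hn 7 [3, 5, 7] 57 [(120, 2, 2)] (by norm_num) (by norm_num)
    (by norm_num) (by norm_num) (by norm_num) (by simp <;> norm_num) (by decide +kernel)
  simp only [List.mem_singleton, Prod.mk.injEq] at hT hT'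
  obtain ⟨h1, h2, h3⟩ := hT
  obtain ⟨-, -, h3'⟩ := hT'
  have hC : Subgroup.centralizer ((T.P : Subgroup G) : Set G) = (T.P : Subgroup G) := by
    refine (Subgroup.eq_of_le_of_card_ge ?_ ?_).symm
    · haveI : IsCyclic (T.P : Subgroup G) := isCyclic_of_prime_card T.card_P
      exact fun a ha => Subgroup.mem_centralizer_iff.mpr fun c hc =>
        congrArg Subtype.val ((IsCyclic.commGroup (α := (T.P : Subgroup G))).mul_comm ⟨c, hc⟩ ⟨a, ha⟩)
    · rw [T.card_C, T.card_P, h3, mul_one]
  obtain ⟨s, hs⟩ := exists_prime_orderOf_dvd_card'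
    (G := Subgroup.centralizer ((T'.P : Subgroup G) : Set G)) 2 (by rw [T'.card_C, h3']; norm_num)
  have hs2 : orderOf (s : G) = 2 := by rw [Subgroup.orderOf_coe]; exact hs
  have hss : (s : G) * s = 1 := by
    have := pow_orderOf_eq_one (s : G); rwa [hs2, pow_two] at this
  have hs1 : (s : G) ≠ 1 := fun e => by rw [e, orderOf_one] at hs2; omega
  have h7 : 7 ∣ Nat.card (Subgroup.centralizer ({(s : G)} : Set G)) := by
    have hle : (T'.P : Subgroup G) ≤ Subgroup.centralizer ({(s : G)} : Set G) := fun a ha =>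
      Subgroup.mem_centralizer_singleton_iff.mpr (Subgroup.mem_centralizer_iff.mp s.2 a ha)
    have := Subgroup.card_dvd_of_le hle
    rwa [T'.card_P] at this
  obtain ⟨x, z, cg, K, A, δ, ε, ⟨j₀, hj₀⟩, hx2, hxd, hzd, hxn, hδ, hε, hmod, hz, hK, hA, hcg, hcgn, heq⟩ :=
    two_facts_at T.noncomm T.D T.card_P hC h2 (by norm_num) hss hs1
  rw [h1] at hxd hzd
  rw [T.card_eq] at hxn heq hcgn
  have hz' : ((1 : ℤ) + δ * x).natAbs = z := by
    rw [← hz]; rcases hε with e | e <;> simp [e]
  have hB : x < 58 := by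
    by_contra hlt
    have := Nat.mul_le_mul (Nat.le_of_not_lt hlt) (Nat.le_of_not_lt hlt)
    omega
  have hK' : (((x : ℤ) + 4 * δ) / 5).toNat = K := by
    have e : (5 : ℤ) * (K : ℤ) = x + 4 * δ := by push_cast at hK; linarith
    rw [← e, Int.mul_ediv_cancel_left _ (by norm_num)]
    simp
  obtain ⟨j, hj⟩ := hcg ▸ h7
  obtain ⟨hA1, hA2⟩ := abs_le.mp hA
  have h := sevenBad_ok
  simp only [sevenBad, List.all_eq_true, List.mem_range, Bool.or_eq_true, decide_eq_true_eq] at h
  have h' := h x hB δ (by rcases hδ with e | e <;> simp [e])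
  rw [hz', hK'] at h'
  rcases h' with (((h' | h') | h') | h') | h'
  · omega
  · exact h' (Nat.mod_eq_zero_of_dvd hxd)
  · exact h' (Int.emod_eq_zero_of_dvd hmod)
  · exact h' (Nat.mod_eq_zero_of_dvd hzd)
  · have hi : ((A + K).toNat : ℤ) - K = A := by omega
    have hj481 : j < 481 := by
      have := Nat.le_of_dvd (by norm_num) hcgn
      omega
    rcases h' (A + K).toNat (by omega) with h'' | h''
    · rw [hi] at h''
      omega
    rcases h'' j hj481 with h''' | h'''
    · exact h''' (Nat.mod_eq_zero_of_dvd (hj ▸ hcgn))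
    · rw [hi] at h'''
      refine h''' ?_
      have e := congrArg Int.natAbs heq
      simp only [Int.natAbs_mul, Int.natAbs_pow, Int.natAbs_natCast] at e
      rw [show ε.natAbs = 1 by rcases hε with e | e <;> simp [e],
        show δ.natAbs = 1 by rcases hδ with e | e <;> simp [e], hj] at e
      linear_combination e

/-- An element of order two of `N(P)` inverts `P` when `C(P) = P`. -/
theorem conj_eq_inv_of_involution {p : ℕ} [Fact p.Prime] (hp2 : p ≠ 2) {P : Subgroup G} (hP : Nat.card P = p)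
    (hC : Subgroup.centralizer (P : Set G) = P) {u : G} (hu2 : u * u = 1) (hu1 : u ≠ 1)
    (hN : u ∈ Subgroup.normalizer (P : Set G)) {w : G} (hw : w ∈ P) : u * w * u⁻¹ = w⁻¹ := by
  have hp : p.Prime := Fact.out
  set w' := u * w * u⁻¹ with hw'
  have hw'P : w' ∈ P := (Subgroup.mem_normalizer_iff.mp hN w).mp hw
  have huu : u⁻¹ = u := inv_eq_of_mul_eq_one_right hu2
  have hflip : u * w' * u⁻¹ = w := by
    rw [hw', huu]; simp only [mul_assoc, hu2, mul_one]; rw [← mul_assoc, hu2, one_mul]
  haveI : IsCyclic P := isCyclic_of_prime_card hP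
  have hcomm : w' * w = w * w' := congrArg Subtype.val
    ((IsCyclic.commGroup (α := P)).mul_comm ⟨w', hw'P⟩ ⟨w, hw⟩)
  -- `w * w'` is a fixed point
  have hfix : u * (w * w') * u⁻¹ = w * w' := by
    rw [← hcomm, ← conj_mul, hflip, ← hw', hcomm]
  by_contra hne
  have hz1 : w * w' ≠ 1 := fun e => hne (eq_inv_of_mul_eq_one_right e)
  have hgen : Subgroup.zpowers (w * w') = P := by
    refine Subgroup.eq_of_le_of_card_ge (Subgroup.zpowers_le.mpr (mul_mem hw hw'P)) ?_
    have h := orderOf_dvd_natCard (⟨w * w', mul_mem hw hw'P⟩ : P)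
    rw [hP, Subgroup.orderOf_mk] at h
    rw [Nat.card_zpowers, hP, ((Nat.dvd_prime hp).mp h).resolve_left fun e => hz1 (orderOf_eq_one_iff.mp e)]
  have hcu : Commute u (w * w') := mul_inv_eq_iff_eq_mul.mp hfix
  have huC : u ∈ Subgroup.centralizer (P : Set G) := by
    refine Subgroup.mem_centralizer_iff.mpr fun a ha => ?_
    rw [← hgen] at ha
    obtain ⟨i, rfl⟩ := Subgroup.mem_zpowers_iff.mp ha
    exact (hcu.zpow_right i).eq.symm
  rw [hC] at huC
  have h := orderOf_dvd_natCard (⟨u, huC⟩ : P)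
  rw [Subgroup.orderOf_mk, orderOf_eq_prime (p := 2) (by rw [pow_two, hu2]) hu1, hP] at h
  exact hp2 ((Nat.prime_dvd_prime_iff_eq Nat.prime_two hp).mp h).symm

theorem key1512 : ∀ d < 39, ∀ s ∈ ([1, -1] : List ℤ), degOK 1512 7 1 216 [7] d = true → ((d : ℤ) - s) % 7 = 0 →
    (d = 6 ∧ s = -1) ∨ (d = 8 ∧ s = 1) ∨ (d = 27 ∧ s = -1) ∨ (d = 36 ∧ s = 1) := by decide +kernel

theorem false_1512 (hn : Nat.card G = 1512) : False := by
  haveI : Fact (Nat.Prime 7) := ⟨by norm_num⟩
  haveI : Fact (Nat.Prime 2) := ⟨Nat.prime_two⟩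
  have hp : Nat.Prime 7 := Fact.out
  obtain ⟨k, T, hT⟩ := exists_ctx_of_orderBad hn 7 [7] 38 [(36, 6, 1)] (by norm_num) (by norm_num)
    (by norm_num) (by norm_num) (by norm_num) (by simp <;> norm_num) (by decide +kernel)
  simp only [List.mem_singleton, Prod.mk.injEq] at hT
  obtain ⟨hc, he, rfl⟩ := hT
  have hC : Subgroup.centralizer ((T.P : Subgroup G) : Set G) = (T.P : Subgroup G) := by
    refine (Subgroup.eq_of_le_of_card_ge ?_ ?_).symm
    · haveI : IsCyclic (T.P : Subgroup G) := isCyclic_of_prime_card T.card_P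
      exact fun a ha => Subgroup.mem_centralizer_iff.mpr fun c hc =>
        congrArg Subtype.val ((IsCyclic.commGroup (α := (T.P : Subgroup G))).mul_comm ⟨c, hc⟩ ⟨a, ha⟩)
    · rw [T.card_C, T.card_P, mul_one]
  have hcomm := T.noncomm
  have ht1 : T.D.t = 1 := by have := T.D.het; rw [he] at this; omega
  obtain ⟨ψ, hψ⟩ := Finset.card_eq_one.mp (T.D.card_Y.trans ht1)
  have hψY : ψ ∈ T.D.Y := hψ ▸ Finset.mem_singleton_self _
  obtain ⟨v, hv, hv1⟩ : ∃ v, v ∈ (T.P : Subgroup G) ∧ v ≠ 1 := by
    rcases (T.P : Subgroup G).bot_or_exists_ne_one with h | h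
    · have := T.card_P
      rw [h, Subgroup.card_bot] at this
      exact absurd this (by norm_num)
    · exact h
  have hone : ¬ 7 ∣ orderOf (1 : G) := orderOf_one (G := G) ▸ hp.not_dvd_one
  set σ : IrrCharacter G → ℤ := fun χ => if χ ∈ T.D.X then T.D.δ χ else -T.D.ε with hσ
  have hval : ∀ χ ∈ T.D.X ∪ T.D.Y, ∀ u ∈ (T.P : Subgroup G), u ≠ 1 → (χ : G → ℂ) u = σ χ := by
    intro χ hχ u hu hu1
    rcases Finset.mem_union.mp hχ with h | h
    · simp only [hσ, if_pos h]
      have h' := T.D.valX χ h u hu hu1 1 (one_mem _) hone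
      rwa [mul_one] at h'
    · simp only [hσ, if_neg fun h' => Finset.disjoint_left.mp T.D.disj h' h]
      rw [hψ, Finset.mem_singleton] at h
      have := T.D.sumY u hu hu1
      rw [hψ, Finset.sum_singleton, ← h] at this
      rw [this]; push_cast; rfl
  have hT1 : σ (Blocks.trivIrr G) = 1 := by
    have h := hval _ T.D.triv v hv hv1
    have h' : ((1 : ℤ) : ℂ) = (σ (Blocks.trivIrr G) : ℂ) := by rw [← h]; simp [Blocks.trivIrr]
    exact (Int.cast_injective h').symm
  set E := (T.D.X ∪ T.D.Y).erase (Blocks.trivIrr G) with hE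
  have hEcard : E.card = 6 := by
    rw [hE, Finset.card_erase_of_mem T.D.triv, Finset.card_union_of_disjoint T.D.disj, T.D.card_X,
      T.D.card_Y, ht1, he]
  have hrel : ∑ χ ∈ E, σ χ * (charDegree (χ : G → ℂ) : ℤ) = -1 := by
    have h := T.D.rel ψ hψY 1 hone
    have hs : ∑ χ ∈ T.D.X ∪ T.D.Y, (σ χ : ℂ) * (χ : G → ℂ) 1 = 0 := by
      rw [Finset.sum_union T.D.disj, hψ, Finset.sum_singleton,
        Finset.sum_congr rfl (g := fun χ => (T.D.δ χ : ℂ) * (χ : G → ℂ) 1) fun χ h => by
          simp only [hσ, if_pos h], ← h]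
      simp only [hσ, if_neg fun h' => Finset.disjoint_left.mp T.D.disj h' hψY]
      push_cast; ring
    rw [← Finset.add_sum_erase _ _ T.D.triv, hT1, ← hE] at hs
    simp only [BrauerReynolds.value_one, BrauerReynolds.degree_triv, Int.cast_one, Nat.cast_one, mul_one] at hs
    have : ((∑ χ ∈ E, σ χ * (charDegree (χ : G → ℂ) : ℤ) : ℤ) : ℂ) = ((-1 : ℤ) : ℂ) := by
      push_cast; linear_combination hs
    exact_mod_cast this
  set N := Subgroup.normalizer ((T.P : Subgroup G) : Set G) with hN
  have hNcard : Nat.card N = 42 := by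
    have h1 := N.card_mul_index
    have h2 : N.index = 36 := (Sylow.card_eq_index_normalizer T.P).symm.trans (T.D.card_sylow.trans hc)
    rw [h2, T.card_eq] at h1
    omega
  obtain ⟨w₀, hw₀⟩ := exists_prime_orderOf_dvd_card' (G := N) 2 (by rw [hNcard]; norm_num)
  set u : G := (w₀ : G) with hu
  have huo : orderOf u = 2 := by rw [hu, Subgroup.orderOf_coe]; exact hw₀
  have hu2 : u * u = 1 := by
    have := pow_orderOf_eq_one u; rwa [huo, pow_two] at this
  have hu1 : u ≠ 1 := fun e => by rw [e, orderOf_one] at huo; omega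
  have hclass : ∀ φ : G → ℂ, IsCharacter G φ → ∀ w : (T.P : Subgroup G), φ ((w : G) * u) = φ u := by
    intro φ hφ w
    have hinv := conj_eq_inv_of_involution (p := 7) (by norm_num) T.card_P hC hu2 hu1 w₀.2
      (Subgroup.pow_mem _ w.2 4)
    have h7 : (w : G) ^ 7 = 1 := by
      have h := orderOf_dvd_natCard w
      rw [T.card_P] at h
      have := orderOf_dvd_iff_pow_eq_one.mp h
      exact congrArg Subtype.val this
    have e : (w : G) ^ 4 * u * ((w : G) ^ 4)⁻¹ = (w : G) * u := by
      rw [← hinv]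
      have : u * (u * (w : G) ^ 4 * u⁻¹) = (w : G) ^ 4 * u⁻¹ := by
        rw [← mul_assoc, ← mul_assoc, hu2, one_mul]
      rw [mul_assoc, this, ← mul_assoc, ← pow_add, inv_eq_of_mul_eq_one_right hu2,
        show 4 + 4 = 7 + 1 from rfl, pow_succ, h7, one_mul]
    rw [← e]
    obtain ⟨m, ρ, rfl⟩ := hφ
    exact ρ.char_conj u _
  have hcases : ∀ χ ∈ E, charDegree (χ : G → ℂ) = 8 ∧ σ χ = 1 ∨ charDegree (χ : G → ℂ) = 27 ∧ σ χ = -1 ∨
      charDegree (χ : G → ℂ) = 36 ∧ σ χ = 1 := by
    intro χ hχ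
    obtain ⟨hne, hχ'⟩ := Finset.mem_erase.mp hχ
    have hσ1 : σ χ = 1 ∨ σ χ = -1 := by
      simp only [hσ]
      split_ifs with h
      · exact T.D.hδ χ h
      · rcases T.D.hε with h | h <;> simp [h]
    have hd' : charDegree (χ : G → ℂ) ∣ T.D.e * (1 + T.D.n * 7) := by
      rcases Finset.mem_union.mp hχ' with h | h
      · exact T.D.dvdX χ h
      · exact T.D.dvdY χ h
    have hmod : ((charDegree (χ : G → ℂ) : ℤ) - σ χ) % 7 = 0 := by
      refine Int.emod_eq_zero_of_dvd ?_
      rcases Finset.mem_union.mp hχ' with h | h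
      · simp only [hσ, if_pos h]
        exact_mod_cast Int.modEq_iff_dvd.mp (T.D.degX χ h).symm
      · simp only [hσ, if_neg fun h' => Finset.disjoint_left.mp T.D.disj h' h]
        have h' := Int.modEq_iff_dvd.mp (T.D.degY χ h).symm
        rw [he] at h'
        push_cast at h'
        omega
    obtain ⟨hok, hle⟩ := T.degOK_of hne hd' fun u hu hu1 y hy hyr => by
      have hy1 : y = 1 := by
        rw [hC] at hy
        by_contra hy1
        have h5 := orderOf_dvd_natCard (⟨y, hy⟩ : (T.P : Subgroup G))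
        rw [Subgroup.orderOf_mk, T.card_P] at h5
        rcases (Nat.dvd_prime hp).mp h5 with h | h
        · exact hy1 (orderOf_eq_one_iff.mp h)
        · exact hyr (h ▸ dvd_rfl)
      rw [hy1, mul_one]
    rw [hc, he] at hok
    rcases key1512 _ (Nat.lt_add_one_iff.mpr hle) (σ χ) (by rcases hσ1 with h | h <;> simp [h]) hok hmod
      with ⟨h6, hs⟩ | h
    swap
    · exact h
    exfalso
    have hφ := Char.isCharacter_of_isIrr χ.2
    obtain ⟨a, ha, hab⟩ := exists_fixed_trace hφ (T.P : Subgroup G) T.card_P hu2 w₀.2 (hclass _ hφ)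
      (K := 0) (by
        rw [← Finset.add_sum_erase _ _ (Finset.mem_univ (1 : (T.P : Subgroup G))),
          Finset.sum_congr rfl (g := fun _ => (σ χ : ℂ)) (fun (w : (T.P : Subgroup G)) hw =>
            hval χ hχ' w w.2 (fun e => Finset.ne_of_mem_erase hw (Subtype.ext e))),
          Finset.sum_const, Finset.card_erase_of_mem (Finset.mem_univ _), Finset.card_univ,
          ← Nat.card_eq_fintype_card, T.card_P, Subgroup.coe_one, BrauerReynolds.value_one, h6, hs]
        norm_num)
    obtain ⟨j, hj⟩ := involution_value_mod_four hcomm hφ hu2 (BrauerReynolds.value_one χ)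
    rw [ha, h6] at hj
    have hj' : a = (6 : ℤ) - 4 * j := by exact_mod_cast hj
    simp only [Nat.cast_zero, abs_nonpos_iff] at hab
    omega
  set b := (E.filter fun χ : IrrCharacter G => charDegree (χ : G → ℂ) = 27).card with hb
  set c := (E.filter fun χ : IrrCharacter G => charDegree (χ : G → ℂ) = 36).card with hc'
  have hlin : (48 : ℤ) - 35 * b + 28 * c = -1 := by
    rw [← hrel, Finset.sum_congr rfl (g := fun χ : IrrCharacter G => (8 : ℤ) +
      ((-35) * (if charDegree (χ : G → ℂ) = 27 then 1 else 0) +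
        28 * (if charDegree (χ : G → ℂ) = 36 then 1 else 0))) fun χ hχ => by
        rcases hcases χ hχ with ⟨h1, h2⟩ | ⟨h1, h2⟩ | ⟨h1, h2⟩ <;> simp [h1, h2],
      Finset.sum_add_distrib, Finset.sum_add_distrib, ← Finset.mul_sum, ← Finset.mul_sum, Finset.sum_const,
      Finset.sum_boole, Finset.sum_boole, hEcard, ← hb, ← hc']
    ring
  have hsq : 729 * b + 1296 * c ≤ 1512 := by
    have h : ∑ χ ∈ E, charDegree (χ : G → ℂ) ^ 2 ≤ 1512 := by
      have h := Char.sum_sq_degree (G := G)
      simp only [BrauerReynolds.value_one, ← Nat.cast_pow, ← Nat.cast_sum, Nat.cast_inj] at h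
      rw [← hn, ← h]
      exact Finset.sum_le_sum_of_subset (Finset.subset_univ _)
    refine le_trans ?_ h
    rw [hb, hc', Finset.card_filter, Finset.card_filter, Finset.mul_sum, Finset.mul_sum, ← Finset.sum_add_distrib]
    refine Finset.sum_le_sum fun χ hχ => ?_
    rcases hcases χ hχ with ⟨h1, -⟩ | ⟨h1, -⟩ | ⟨h1, -⟩ <;> simp [h1]
  omega

end CfsgLib.SmallSimpleGraph
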