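import Cfsg.Agent.Lib.SmallSimpleGraph.Basic
import Cfsg.Agent.Lib.SmallOrder.Exclude

/-!
# There are no simple groups of order 1800 or 3600
-/

set_option autoImplicit false
set_option synthInstance.maxSize 2000
set_option synthInstance.maxHeartbeats 200000
set_option linter.unusedSectionVars false
set_option linter.style.haveILetI false

namespace CfsgLib.SmallSimpleGraph

universe u

variable {G : Type u} [Group G] [Finite G] [IsSimpleGroup G]

theorem key_n5_1800 : ∀ c < 73, 72 % c = 0 → c % 5 = 1 → 2 ≤ c →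
    SmallOrder.badIndex 1800 c = true ∨ (c = 36 ∧ c % 25 ≠ 1) := by decide +kernel

theorem key_n5_3600 : ∀ c < 145, 144 % c = 0 → c % 5 = 1 → 2 ≤ c →
    SmallOrder.badIndex 3600 c = true ∨ ((c = 16 ∨ c = 36) ∧ c % 25 ≠ 1) := by decide +kernel

theorem key_s_1800 : ∀ s < 73, ∀ e < 73, e * s = 72 → (∃ t < s + 1, 2 ≤ t ∧ s % t = 0 ∧ t % 5 = 1) → 2 ≤ e →
    SmallOrder.badIndex 1800 e = true ∨ s = 6 := by decide +kernel

theorem key_s_3600 : ∀ s < 145, ∀ e < 145, e * s = 144 → (∃ t < s + 1, 2 ≤ t ∧ s % t = 0 ∧ t % 5 = 1) → 2 ≤ e →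
    SmallOrder.badIndex 3600 e = true ∨ s = 6 ∨ s = 12 := by decide +kernel

/-- Two Sylow `5`-subgroups of order `25` meeting in `D` of order `5`, and `N(D)`. -/
theorem exists_local_five [Fact (Nat.Prime 5)] (hG : ¬ IsMulCommutative G) {m : ℕ}
    (hn : Nat.card G = 25 * m) (hm : ¬ 5 ∣ m) (h : Nat.card (Sylow 5 G) % 25 ≠ 1) :
    ∃ (P R : Sylow 5 G) (D : Subgroup G) (e s : ℕ), Nat.card D = 5 ∧ D ≤ (P : Subgroup G) ∧ D ≤ (R : Subgroup G) ∧
      Subgroup.normalizer (D : Set G) ≠ ⊤ ∧ (Subgroup.normalizer (D : Set G)).index = e ∧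
      Nat.card (Subgroup.normalizer (D : Set G)) = 25 * s ∧ e * s = m ∧ 2 ≤ e ∧
      (P : Subgroup G) ≤ Subgroup.normalizer (D : Set G) ∧ (R : Subgroup G) ≤ Subgroup.normalizer (D : Set G) ∧
      R ≠ P ∧ ¬ 5 ∣ s ∧ ∃ t < s + 1, 2 ≤ t ∧ s % t = 0 ∧ t % 5 = 1 := by
  obtain ⟨P⟩ := (inferInstance : Nonempty (Sylow 5 G))
  have hn' : Nat.card G = 5 ^ 2 * m := by rw [hn]; norm_num
  obtain ⟨R, hRP, hR⟩ := SmallOrder.exists_sylow_relIndex_le (k := 2) (fun hmod => h (by
    have h' : Nat.card (Sylow 5 G) % 5 ^ 2 = 1 % 5 ^ 2 := hmod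
    norm_num at h'
    exact h')) P
  rw [show 2 - 1 = 1 by norm_num, pow_one] at hR
  have hPc := card_sylow_group hn' hm P
  have hRc := card_sylow_group hn' hm R
  set D : Subgroup G := (P : Subgroup G) ⊓ (R : Subgroup G) with hD
  have hPN := SmallOrder.le_normalizer_inf_of_relIndex_eq P R hR
  have e1 := SmallOrder.card_inf_mul_relIndex (R : Subgroup G) (P : Subgroup G)
  have e2 := SmallOrder.card_inf_mul_relIndex (P : Subgroup G) (R : Subgroup G)
  rw [hPc, inf_comm, ← hD] at e1
  rw [hRc, ← hD] at e2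
  have hR' : (P : Subgroup G).relIndex (R : Subgroup G) ≤ 5 := by
    rw [Nat.eq_of_mul_eq_mul_left (Nat.card_pos (α := D)) (e2.trans e1.symm)]
    exact hR
  have hRN := SmallOrder.le_normalizer_inf_of_relIndex_eq R P hR'
  rw [inf_comm, ← hD] at hRN
  rw [← hD] at hPN
  have hD5 : Nat.card D = 5 := by
    have hdvd : Nat.card D ∣ 5 ^ 2 := Dvd.intro _ e1
    obtain ⟨i, hi, hDi⟩ := (Nat.dvd_prime_pow (Fact.out : Nat.Prime 5)).mp hdvd
    interval_cases i
    · rw [hDi] at e1; omega
    · rw [hDi, pow_one]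
    · refine absurd ?_ hRP
      have h1 : D = (P : Subgroup G) := Subgroup.eq_of_le_of_card_ge inf_le_left (by rw [hPc, hDi])
      have h2 : D = (R : Subgroup G) := Subgroup.eq_of_le_of_card_ge inf_le_right (by rw [hRc, hDi])
      exact Sylow.ext (h2.symm.trans h1)
  have hNtop : Subgroup.normalizer (D : Set G) ≠ ⊤ := fun ht => by
    rcases (Subgroup.normalizer_eq_top_iff.mp ht).eq_bot_or_eq_top with h' | h'
    · rw [h', Subgroup.card_bot] at hD5; omega
    · exact SmallOrder.sylow_ne_top hG P (top_le_iff.mp (h' ▸ inf_le_left))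
  obtain ⟨s, hs⟩ := Subgroup.card_dvd_of_le hPN
  rw [hPc] at hs
  norm_num at hs
  set N := Subgroup.normalizer (D : Set G) with hN
  have hes : N.index * s = m := by
    have h' := N.card_mul_index
    rw [hs, hn, mul_assoc, mul_comm s] at h'
    exact Nat.eq_of_mul_eq_mul_left (by norm_num) h'
  have hs5 : ¬ 5 ∣ s := fun h5 => hm (hes ▸ h5.mul_left _)
  obtain ⟨t1, t2⟩ := card_sylow_facts (p := 5) (G := N) (a := 2) (m := s) (by rw [hs]; norm_num) hs5
  have ht : 2 ≤ Nat.card (Sylow 5 N) := by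
    haveI : Nontrivial (Sylow 5 N) :=
      ⟨⟨P.subtype hPN, R.subtype hRN, fun h' => hRP (Sylow.subtype_injective h').symm⟩⟩
    exact Finite.one_lt_card
  have hs0 : 0 < s := Nat.pos_of_ne_zero fun h0 => hs5 (h0 ▸ dvd_zero 5)
  exact ⟨P, R, D, N.index, s, hD5, inf_le_left, inf_le_right, hNtop, rfl, hs, hes,
    SmallOrder.two_le_index hNtop, hPN, hRN, hRP, hs5, _, Nat.lt_succ_of_le (Nat.le_of_dvd hs0 t1), ht,
    Nat.mod_eq_zero_of_dvd t1, t2⟩

theorem card_sylow_five_cases {m : ℕ} [Fact (Nat.Prime 5)] (hG : ¬ IsMulCommutative G)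
    (hn : Nat.card G = 25 * m) (hm : ¬ 5 ∣ m) :
    Nat.card (Sylow 5 G) ∣ m ∧ Nat.card (Sylow 5 G) % 5 = 1 ∧ 2 ≤ Nat.card (Sylow 5 G) ∧
      SmallOrder.badIndex (Nat.card G) (Nat.card (Sylow 5 G)) = false := by
  obtain ⟨P⟩ := (inferInstance : Nonempty (Sylow 5 G))
  obtain ⟨h1, h2⟩ := card_sylow_facts (p := 5) (G := G) (a := 2) (m := m) (by rw [hn]; norm_num) hm
  have h5 : 5 ∣ Nat.card G := hn ▸ Dvd.dvd.mul_right (by norm_num) m
  have h3 := SmallOrder.card_sylow_ne_one hG h5
  have h4 : 0 < Nat.card (Sylow 5 G) := Nat.card_pos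
  refine ⟨h1, h2, by omega, ?_⟩
  rw [Sylow.card_eq_index_normalizer P]
  exact SmallOrder.badIndex_eq_false hG (SmallOrder.normalizer_sylow_ne_top hG h5 P)

theorem false_1800 (hn : Nat.card G = 1800) : False := by
  haveI : Fact (Nat.Prime 5) := ⟨by norm_num⟩
  have hG : ¬ IsMulCommutative G := SmallOrder.not_comm_of_not_prime (by rw [hn]; norm_num)
  obtain ⟨h1, h2, h3, h4⟩ := card_sylow_five_cases (m := 72) hG (by rw [hn]) (by norm_num)
  rcases key_n5_1800 _ (Nat.lt_succ_of_le (Nat.le_of_dvd (by norm_num) h1)) (Nat.mod_eq_zero_of_dvd h1) h2 h3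
    with h | ⟨-, h⟩
  · rw [hn, h] at h4; exact Bool.noConfusion h4
  obtain ⟨P, R, D, e, s, -, -, -, hN, he, hs, hes, he2, hPN, hRN, hRP, -, ht⟩ :=
    exists_local_five (m := 72) hG (by rw [hn]) (by norm_num) h
  rcases key_s_1800 s (Nat.lt_succ_of_le (Nat.le_of_dvd (by norm_num) (Dvd.intro_left e hes)))
    e (Nat.lt_succ_of_le (Nat.le_of_dvd (by norm_num) (Dvd.intro s hes))) hes ht he2 with h' | rfl
  · rw [← he, ← hn, SmallOrder.badIndex_eq_false hG hN] at h'; exact Bool.noConfusion h'
  have h1' := card_sylow_five_of_card_150 hs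
  haveI := (Nat.card_eq_one_iff_unique.mp h1').1
  exact hRP (Sylow.subtype_injective (hP := hRN) (hQ := hPN) (Subsingleton.elim _ _))

theorem false_3600 (hn : Nat.card G = 3600) : False := by
  haveI : Fact (Nat.Prime 5) := ⟨by norm_num⟩
  haveI : Fact (Nat.Prime 3) := ⟨by norm_num⟩
  haveI : Fact (Nat.Prime 2) := ⟨Nat.prime_two⟩
  have hG : ¬ IsMulCommutative G := SmallOrder.not_comm_of_not_prime (by rw [hn]; norm_num)
  obtain ⟨h1, h2, h3, h4⟩ := card_sylow_five_cases (m := 144) hG (by rw [hn]) (by norm_num)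
  rcases key_n5_3600 _ (Nat.lt_succ_of_le (Nat.le_of_dvd (by norm_num) h1)) (Nat.mod_eq_zero_of_dvd h1) h2 h3
    with h | ⟨hn5, h⟩
  · rw [hn, h] at h4; exact Bool.noConfusion h4
  obtain ⟨P, R, D, e, s, hD5, hDP, hDR, hN, he, hs, hes, he2, hPN, hRN, hRP, hs5, ht⟩ :=
    exists_local_five (m := 144) hG (by rw [hn]) (by norm_num) h
  set N := Subgroup.normalizer (D : Set G) with hNdef
  have hPc := card_sylow_group (p := 5) (G := G) (a := 2) (m := 144) (by rw [hn]; norm_num) (by norm_num) P
  have hRc := card_sylow_group (p := 5) (G := G) (a := 2) (m := 144) (by rw [hn]; norm_num) (by norm_num) R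
  rcases key_s_3600 s (Nat.lt_succ_of_le (Nat.le_of_dvd (by norm_num) (Dvd.intro_left e hes)))
    e (Nat.lt_succ_of_le (Nat.le_of_dvd (by norm_num) (Dvd.intro s hes))) hes ht he2 with h' | rfl | rfl
  · rw [← he, ← hn, SmallOrder.badIndex_eq_false hG hN] at h'; exact Bool.noConfusion h'
  · have h1' := card_sylow_five_of_card_150 hs
    haveI := (Nat.card_eq_one_iff_unique.mp h1').1
    exact hRP (Sylow.subtype_injective (hP := hRN) (hQ := hPN) (Subsingleton.elim _ _))
  -- `|N(D)| = 300` and `N(D) = C(D)`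
  set C := Subgroup.centralizer (D : Set G) with hCdef
  have hPC : (P : Subgroup G) ≤ C := fun x hx => Subgroup.mem_centralizer_iff.mpr fun d hd =>
    comm_of_card_sq _ hPc (hDP hd) hx
  have hRC : (R : Subgroup G) ≤ C := fun x hx => Subgroup.mem_centralizer_iff.mpr fun d hd =>
    comm_of_card_sq _ hRc (hDR hd) hx
  have hCN : C ≤ N := Subgroup.centralizer_le_normalizer _
  have hC2 : 2 ≤ Nat.card (Sylow 5 C) := by
    haveI : Nontrivial (Sylow 5 C) :=
      ⟨⟨P.subtype hPC, R.subtype hRC, fun h' => hRP (Sylow.subtype_injective h').symm⟩⟩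
    exact Finite.one_lt_card
  have hCeq : C = N := by
    refine Subgroup.eq_of_le_of_card_ge hCN ?_
    obtain ⟨s', hs'⟩ := Subgroup.card_dvd_of_le hPC
    rw [hPc] at hs'
    norm_num at hs'
    have hdvd := Subgroup.card_dvd_of_le hCN
    rw [hs', hs] at hdvd
    have hs'' : s' ∣ 12 := Nat.dvd_of_mul_dvd_mul_left (by norm_num) hdvd
    have hs12 := Nat.le_of_dvd (by norm_num) hs''
    obtain ⟨t1, t2⟩ := card_sylow_facts (p := 5) (G := C) (a := 2) (m := s') (by rw [hs']; norm_num)
      (fun h5 => by have := h5.trans hs''; norm_num at this)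
    have ht' := Nat.le_of_dvd (Nat.pos_of_ne_zero fun e => by simp [e] at hs''; ) t1
    have h6 : s' = 12 ∨ s' = 6 := by
      interval_cases s' <;> omega
    rcases h6 with rfl | rfl
    · rw [hs, hs']
    · exfalso
      have := card_sylow_five_of_card_150 hs'
      omega
  have hN5 : Nat.card (Sylow 5 N) = 6 := by
    obtain ⟨t1, t2⟩ := card_sylow_facts (p := 5) (G := N) (a := 2) (m := 12) (by rw [hs]; norm_num) (by norm_num)
    have h2' : 2 ≤ Nat.card (Sylow 5 N) := by rw [← hCeq]; exact hC2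
    have hle := Nat.le_of_dvd (by norm_num) t1
    generalize Nat.card (Sylow 5 N) = t at t1 t2 h2' hle
    interval_cases t <;> omega
  set M : Subgroup G := N ⊓ Subgroup.normalizer ((P : Subgroup G) : Set G) with hM
  have hM50 : Nat.card M = 50 := by
    have h6 := Sylow.card_eq_index_normalizer (P.subtype hPN)
    rw [hN5] at h6
    have h7 := (Subgroup.normalizer ((P.subtype hPN : Subgroup N) : Set N)).card_mul_index
    erw [← h6, hs] at h7
    have hset : Subgroup.normalizer ((P.subtype hPN : Subgroup N) : Set N) = M.subgroupOf N := by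
      ext x
      simp only [Subgroup.mem_normalizer_iff, hM, Subgroup.mem_subgroupOf, Subgroup.mem_inf,
        SetLike.coe_mem, true_and, Sylow.coe_subtype]
      refine ⟨fun hx g => ⟨fun hg => ?_, fun hg => ?_⟩, fun hx g => hx g⟩
      · exact (hx ⟨g, hPN hg⟩).mp hg
      · have hgN : g ∈ N := by
          have := N.mul_mem (N.mul_mem (N.inv_mem x.2) (hPN hg)) x.2
          simpa [mul_assoc] using this
        exact (hx ⟨g, hgN⟩).mpr hg
    erw [hset, Nat.card_congr (Subgroup.subgroupOfEquivOfLe (inf_le_left : M ≤ N)).toEquiv] at h7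
    change Nat.card M * 6 = 25 * 12 at h7
    omega
  have hMN5 : Subgroup.normalizer ((P : Subgroup G) : Set G) ≠ ⊤ :=
    SmallOrder.normalizer_sylow_ne_top hG (hn ▸ by norm_num) P
  have hNP : Nat.card (Subgroup.normalizer ((P : Subgroup G) : Set G)) = 100 := by
    have h7 := (Subgroup.normalizer ((P : Subgroup G) : Set G)).card_mul_index
    erw [← Sylow.card_eq_index_normalizer P] at h7
    have hd := Subgroup.card_dvd_of_le (inf_le_right : M ≤ Subgroup.normalizer ((P : Subgroup G) : Set G))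
    rw [hM50] at hd
    rcases hn5 with h' | h' <;> rw [h', hn] at h7 <;> omega
  obtain ⟨w, hw⟩ := exists_prime_orderOf_dvd_card' (G := M) 2 (by rw [hM50]; norm_num)
  have hwo : orderOf (w : G) = 2 := by rw [Subgroup.orderOf_coe]; exact hw
  have hwN : (w : G) ∈ N := w.2.1
  have hwP : (w : G) ∈ Subgroup.normalizer ((P : Subgroup G) : Set G) := w.2.2
  -- `w` does not centralise `P`
  have hwC : (w : G) ∉ Subgroup.centralizer ((P : Subgroup G) : Set G) := by
    intro hwc
    -- then `P` is central in `M = N_N(P)`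
    have hMC : M ≤ Subgroup.centralizer ((P : Subgroup G) : Set G) := by
      have hPM : (P : Subgroup G) ≤ M ⊓ Subgroup.centralizer ((P : Subgroup G) : Set G) := fun x hx =>
        ⟨⟨hPN hx, Subgroup.le_normalizer hx⟩, Subgroup.mem_centralizer_iff.mpr fun d hd => comm_of_card_sq _ hPc hd hx⟩
      obtain ⟨k, hk⟩ := Subgroup.card_dvd_of_le hPM
      rw [hPc] at hk
      rw [show (5 : ℕ) ^ 2 = 25 by norm_num] at hk
      have h2 : 2 ∣ Nat.card (M ⊓ Subgroup.centralizer ((P : Subgroup G) : Set G) : Subgroup G) := by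
        have := orderOf_dvd_natCard (⟨(w : G), w.2, hwc⟩ : (M ⊓ Subgroup.centralizer ((P : Subgroup G) : Set G) : Subgroup G))
        rwa [← Subgroup.orderOf_coe, hwo] at this
      have hle := Subgroup.card_dvd_of_le (inf_le_left : M ⊓ Subgroup.centralizer ((P : Subgroup G) : Set G) ≤ M)
      rw [hM50] at hle
      have hle' := Nat.le_of_dvd (by norm_num) hle
      have hpos : 0 < Nat.card (M ⊓ Subgroup.centralizer ((P : Subgroup G) : Set G) : Subgroup G) := Nat.card_pos
      exact le_trans (Subgroup.eq_of_le_of_card_ge inf_le_left (by rw [hM50]; omega)).ge inf_le_right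
    -- a Sylow `3`-subgroup of `N` is fixed, hence centralised, by `P`
    have hN3 := card_sylow_facts (p := 3) (G := N) (a := 1) (m := 100) (by rw [hs]; norm_num) (by norm_num)
    set PN : Sylow 5 N := P.subtype hPN
    have hPNc : Nat.card (PN : Subgroup N) = 5 ^ 2 :=
      card_sylow_group (p := 5) (G := N) (a := 2) (m := 12) (by rw [hs]; norm_num) (by norm_num) PN
    have hle : Subgroup.normalizer ((PN : Subgroup N) : Set N) ≤
        Subgroup.centralizer ((PN : Subgroup N) : Set N) := by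
      intro x hx
      refine Subgroup.mem_centralizer_iff.mpr fun d hd => Subtype.ext ?_
      have hxM : (x : G) ∈ M := by
        refine ⟨x.2, Subgroup.mem_normalizer_iff.mpr fun g => ⟨fun hg => ?_, fun hg => ?_⟩⟩
        · exact ((Subgroup.mem_normalizer_iff.mp hx) ⟨g, hPN hg⟩).mp hg
        · have hgN : g ∈ N := by
            have := N.mul_mem (N.mul_mem (N.inv_mem x.2) (hPN hg)) x.2
            simpa [mul_assoc] using this
          exact ((Subgroup.mem_normalizer_iff.mp hx) ⟨g, hgN⟩).mpr hg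
      exact Subgroup.mem_centralizer_iff.mp (hMC hxM) _ hd
    set K := (MonoidHom.transferSylow PN hle).ker
    have hKi : K.index = 25 :=
      ((MonoidHom.ker_transferSylow_isComplement' PN hle).symm.index_eq_card).trans hPNc
    have hK12 : Nat.card K = 12 := by
      have := K.card_mul_index
      rw [hKi, hs] at this; omega
    have hall : ∀ T : Sylow 3 N, (T : Subgroup N) ≤ K := fun T =>
      le_of_normal_of_not_dvd_index (p := 3) (by rw [hKi]; norm_num) T.isPGroup'
    have h3le := card_sylow_le_of_forall_le hall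
    obtain ⟨t1, t2⟩ := card_sylow_facts (p := 3) (G := K) (a := 1) (m := 4) (by rw [hK12]; norm_num) (by norm_num)
    have h4le := Nat.le_of_dvd (by norm_num) t1
    have hP' : IsPGroup 5 (PN : Subgroup N) := PN.isPGroup'
    obtain ⟨T⟩ := (inferInstance : Nonempty (Sylow 3 N))
    -- orbits of `P` on at most four points are trivial
    have hfix : (PN : Subgroup N) ≤ Subgroup.normalizer ((T : Subgroup N) : Set N) := by
      intro x hx
      have hstab : (⟨x, hx⟩ : (PN : Subgroup N)) ∈ MulAction.stabilizer (PN : Subgroup N) T := by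
        obtain ⟨n, hn'⟩ := hP'.card_orbit T
        have hle' : Nat.card (MulAction.orbit (PN : Subgroup N) T) ≤ Nat.card (Sylow 3 N) :=
          Nat.card_le_card_of_injective _ Subtype.val_injective
        have hn0 : n = 0 := by
          by_contra h0
          have := Nat.pow_le_pow_right (show 1 ≤ 5 by norm_num) (Nat.one_le_iff_ne_zero.mpr h0)
          rw [pow_one, ← hn'] at this
          omega
        rw [hn0, pow_zero] at hn'
        have hsub := (Nat.card_eq_one_iff_unique.mp hn').1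
        exact congrArg Subtype.val (Subsingleton.elim
          (⟨_, MulAction.mem_orbit T (⟨x, hx⟩ : (PN : Subgroup N))⟩ : MulAction.orbit (PN : Subgroup N) T)
          ⟨T, MulAction.mem_orbit_self T⟩)
      have hs' : x • T = T := hstab
      exact Sylow.smul_eq_iff_mem_normalizer.mp hs'
    have hTc := card_sylow_group (p := 3) (G := N) (a := 1) (m := 100) (by rw [hs]; norm_num) (by norm_num) T
    rw [pow_one] at hTc
    have hcent := le_centralizer_of_le_normalizer_prime (p := 5) (q := 3) hP' hTc (by norm_num) hfix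
    have hT' : (T : Subgroup N) ≤ Subgroup.normalizer ((PN : Subgroup N) : Set N) :=
      le_trans (fun a ha => Subgroup.mem_centralizer_iff.mpr fun d hd =>
        (Subgroup.mem_centralizer_iff.mp (hcent hd) a ha).symm) (Subgroup.centralizer_le_normalizer _)
    have hd := Subgroup.card_dvd_of_le hT'
    have h6 := Sylow.card_eq_index_normalizer PN
    rw [hN5] at h6
    have h7 := (Subgroup.normalizer ((PN : Subgroup N) : Set N)).card_mul_index
    erw [← h6, hs] at h7
    rw [hTc] at hd
    omega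
  -- the fixed points of `w` on `P` are exactly `D`
  set F : Subgroup G := (P : Subgroup G) ⊓ Subgroup.centralizer ({(w : G)} : Set G) with hF
  have hDF : D ≤ F := fun d hd => ⟨hDP hd, Subgroup.mem_centralizer_singleton_iff.mpr
    (Subgroup.mem_centralizer_iff.mp (show (w : G) ∈ C by rw [hCeq]; exact hwN) d hd)⟩
  have hFD : F ≤ D := by
    refine (Subgroup.eq_of_le_of_card_ge hDF ?_).ge
    have hdvd := Subgroup.card_dvd_of_le (inf_le_left : F ≤ (P : Subgroup G))
    rw [hPc] at hdvd
    obtain ⟨i, hi, hFi⟩ := (Nat.dvd_prime_pow (Fact.out : Nat.Prime 5)).mp hdvd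
    rw [hFi, hD5]
    interval_cases i
    · norm_num
    · norm_num
    · exfalso
      have hFP : F = (P : Subgroup G) := Subgroup.eq_of_le_of_card_ge inf_le_left (by rw [hPc, hFi])
      refine hwC (Subgroup.mem_centralizer_iff.mpr fun x hx => ?_)
      have hxF : x ∈ F := hFP ▸ hx
      exact Subgroup.mem_centralizer_singleton_iff.mp hxF.2
  -- a Sylow `2`-subgroup of `N(P)` containing `w` is abelian, so normalises `D`
  set NP := Subgroup.normalizer ((P : Subgroup G) : Set G) with hNPdef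
  obtain ⟨T, hT⟩ := (IsPGroup.of_card (p := 2) (n := 1)
    (G := Subgroup.zpowers (⟨(w : G), hwP⟩ : NP)) (by
      rw [Nat.card_zpowers, Subgroup.orderOf_mk, hwo, pow_one])).exists_le_sylow
  have hwT : (⟨(w : G), hwP⟩ : NP) ∈ (T : Subgroup NP) := hT (Subgroup.mem_zpowers _)
  have hTc := card_sylow_group (p := 2) (G := NP) (a := 2) (m := 25) (by rw [hNP]; norm_num) (by norm_num) T
  have hTN : (T : Subgroup NP).map NP.subtype ≤ M := by
    rintro - ⟨t, ht, rfl⟩
    refine ⟨?_, t.2⟩
    have hcomm : (t : G) * w = w * t := congrArg Subtype.val (comm_of_card_sq _ hTc ht hwT)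
    refine Subgroup.mem_normalizer_iff.mpr ?_
    have key : ∀ y : NP, ((y : G) * w = w * y) → ∀ d ∈ D, (y : G) * d * (y : G)⁻¹ ∈ D := by
      intro y hy d hd
      refine hFD ⟨(Subgroup.mem_normalizer_iff.mp y.2 d).mp (hDP hd), Subgroup.mem_centralizer_singleton_iff.mpr ?_⟩
      have hdw : d * w = w * d := Subgroup.mem_centralizer_singleton_iff.mp (hDF hd).2
      have hyi : (y : G)⁻¹ * w = w * (y : G)⁻¹ := (Commute.inv_left hy).eq
      calc (y : G) * d * (y : G)⁻¹ * w = (y : G) * (d * w) * (y : G)⁻¹ := by simp only [mul_assoc, hyi]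
        _ = w * ((y : G) * d * (y : G)⁻¹) := by rw [hdw, ← mul_assoc (y : G) (w : G) d, hy]; simp only [mul_assoc]
    intro d
    refine ⟨key t hcomm d, fun hd => ?_⟩
    have := key t⁻¹ ((Commute.inv_left hcomm).eq) _ hd
    simpa [mul_assoc] using this
  have hd4 := Subgroup.card_dvd_of_le hTN
  rw [Subgroup.card_map_of_injective NP.subtype_injective, hTc, hM50] at hd4
  norm_num at hd4

end CfsgLib.SmallSimpleGraph
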