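import Cfsg.Agent.Lib.SmallSimpleGraph.RangeMid
import Cfsg.Agent.Lib.SmallSimpleGraph.OrdersBlocks
import Cfsg.Agent.Lib.SmallSimpleGraph.OrdersTwentyFive
import Cfsg.Agent.S0496
import Cfsg.Agent.S0983

/-!
# The orders of the non-abelian simple groups of order less than 6000
-/

set_option autoImplicit false

namespace CfsgLib.SmallSimpleGraph

universe u

/-- A non-abelian simple group of order below 6000 has one of eleven orders. -/
theorem orders_lt_6000 {G : Type u} [Group G] [Finite G] [IsSimpleGroup G] (hG : ¬ IsMulCommutative G)
    (h : Nat.card G < 6000) :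
    Nat.card G ∈ [60, 168, 360, 504, 660, 1092, 2448, 2520, 3420, 4080, 5616] := by
  letI : Fintype G := Fintype.ofFinite G
  rcases Nat.lt_or_ge (Nat.card G) 1093 with h1 | h1
  · rcases Cfsg.Agent.S0496.result hG (by omega) with e | e | e | e | e | e <;> (rw [e]; decide)
  rcases Nat.lt_or_ge 3640 (Nat.card G) with h2 | h2
  · rcases Cfsg.Agent.S0983.result hG h2 (by omega) with e | e | e | e <;> first | (rw [e]; decide) | omega
  have hm := RangeMid.mem_special hG h1 h2
  simp only [RangeMid.special, List.mem_cons, List.not_mem_nil, or_false] at hm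
  rcases hm with e | e | e | e | e | e | e | e | e | e | e | e
  · exact (false_1512 e).elim
  · exact (false_1620 e).elim
  · exact (false_1800 e).elim
  · exact (false_2160 e).elim
  · exact (false_2400 e).elim
  · rw [e]; decide
  · rw [e]; decide
  · exact (false_2700 e).elim
  · exact (false_3240 e).elim
  · exact (false_3360 e).elim
  · rw [e]; decide
  · exact (false_3600 e).elim

end CfsgLib.SmallSimpleGraph
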