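import Cfsg.Agent.Lib.BrauerTuan.RangeSound

/-!
# Certificates for the orders between 1093 and 3640
-/

set_option autoImplicit false
set_option maxRecDepth 100000

namespace CfsgLib.SmallSimpleGraph.RangeMid

open CfsgLib.BrauerTuan.Range3640 (Cert check)

/-- The orders treated separately. -/
def special : List ℕ := [1512, 1620, 1800, 2160, 2400, 2448, 2520, 2700, 3240, 3360, 3420, 3600]

/-- The certificate is valid for `n`. -/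
def checkMid (n : ℕ) : Cert → Bool
  | .other => special.contains n
  | c => check n c

/-- The certificates are valid for consecutive numbers. -/
def checkFrom : ℕ → List Cert → Bool
  | _, [] => true
  | n, c :: cs => checkMid n c && checkFrom (n + 1) cs

/-- Certificates from 1093. -/
def certs0 : List Cert :=
  [.pq 1093 1 1093 0,
   .pq 2 1 547 1,
   .sylow 0 3 1 365,
   .pq 2 3 137 1,
   .pq 1097 1 1097 0,
   .sylow 0 2 1 549,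
   .pq 7 1 157 1,
   .sylow 0 5 2 44,
   .pq 3 1 367 1,
   .sylow 0 2 1 551,
   .pq 1103 1 1103 0,
   .sylow 23 23 1 48,
   .sylow 0 5 1 221,
   .sylow 0 2 1 553,
   .pq 3 3 41 1,
   .pq 2 2 277 1,
   .pq 1109 1 1109 0,
   .sylow 0 2 1 555,
   .pq 11 1 101 1,
   .pq 2 3 139 1,
   .sylow 0 3 1 371,
   .pq 2 1 557 1,
   .pq 5 1 223 1,
   .sylow 31 3 2 124,
   .pq 1117 1 1117 0,
   .sylow 0 2 1 559,
   .pq 3 1 373 1,
   .sylow 0 2 5 35,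
   .pq 19 1 59 1,
   .sylow 0 2 1 561,
   .pq 1123 1 1123 0,
   .pq 2 2 281 1,
   .pq 3 2 5 3,
   .pq 2 1 563 1,
   .pq 7 2 23 1,
   .sylow 0 47 1 24,
   .pq 1129 1 1129 0,
   .sylow 0 2 1 565,
   .sylow 0 3 1 377,
   .pq 2 2 283 1,
   .pq 11 1 103 1,
   .sylow 0 2 1 567,
   .pq 5 1 227 1,
   .pq 2 4 71 1,
   .pq 3 1 379 1,
   .pq 2 1 569 1,
   .pq 17 1 67 1,
   .sylow 0 5 1 228,
   .pq 7 1 163 1,
   .pq 2 1 571 1,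
   .pq 3 2 127 1,
   .sylow 11 2 3 143,
   .pq 5 1 229 1,
   .sylow 0 2 1 573,
   .pq 31 1 37 1,
   .sylow 41 2 2 287,
   .pq 3 1 383 1,
   .sylow 0 2 1 575,
   .pq 1151 1 1151 0,
   .pq 2 7 3 2,
   .pq 1153 1 1153 0,
   .pq 2 1 577 1,
   .sylow 0 3 1 385,
   .pq 2 2 17 2,
   .pq 13 1 89 1,
   .sylow 0 2 1 579,
   .pq 19 1 61 1,
   .sylow 0 29 1 40,
   .pq 3 3 43 1,
   .sylow 0 2 1 581,
   .pq 1163 1 1163 0,
   .sylow 97 2 2 291,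
   .pq 5 1 233 1,
   .sylow 0 2 1 583,
   .pq 3 1 389 1,
   .pq 2 4 73 1,
   .pq 7 1 167 1,
   .sylow 0 2 1 585,
   .pq 1171 1 1171 0,
   .pq 2 2 293 1,
   .sylow 0 3 1 391,
   .pq 2 1 587 1,
   .pq 5 2 47 1,
   .sylow 0 7 2 24,
   .pq 11 1 107 1,
   .sylow 0 2 1 589,
   .pq 3 2 131 1,
   .sylow 59 2 2 295,
   .pq 1181 1 1181 0,
   .sylow 0 2 1 591,
   .pq 7 1 13 2,
   .pq 2 5 37 1,
   .sylow 0 3 1 395,
   .pq 2 1 593 1,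
   .pq 1187 1 1187 0,
   .sylow 11 3 3 44,
   .pq 29 1 41 1,
   .sylow 0 2 1 595,
   .pq 3 1 397 1,
   .pq 2 3 149 1,
   .pq 1193 1 1193 0,
   .sylow 0 2 1 597,
   .pq 5 1 239 1,
   .sylow 23 2 2 299,
   .sylow 19 3 2 133,
   .pq 2 1 599 1,
   .pq 11 1 109 1,
   .sylow 0 5 2 48,
   .pq 1201 1 1201 0,
   .pq 2 1 601 1,
   .pq 3 1 401 1,
   .sylow 43 7 1 172,
   .pq 5 1 241 1,
   .sylow 0 2 1 603,
   .pq 17 1 71 1,
   .pq 2 3 151 1,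
   .sylow 0 3 1 403,
   .sylow 0 2 1 605,
   .pq 7 1 173 1,
   .sylow 101 2 2 303,
   .pq 1213 1 1213 0,
   .pq 2 1 607 1,
   .pq 3 5 5 1,
   .pq 2 6 19 1,
   .pq 1217 1 1217 0,
   .sylow 0 2 1 609,
   .pq 23 1 53 1,
   .sylow 61 5 1 244,
   .sylow 0 3 1 407,
   .sylow 0 2 1 611,
   .pq 1223 1 1223 0,
   .block 17 [17],
   .pq 5 2 7 2,
   .pq 2 1 613 1,
   .pq 3 1 409 1,
   .pq 2 2 307 1,
   .pq 1229 1 1229 0,
   .sylow 0 2 1 615,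
   .pq 1231 1 1231 0,
   .block 11 [7, 11],
   .pq 3 2 137 1,
   .pq 2 1 617 1,
   .sylow 0 5 1 247,
   .sylow 103 3 1 412,
   .pq 1237 1 1237 0,
   .pq 2 1 619 1,
   .sylow 0 3 1 413,
   .sylow 31 2 3 155,
   .pq 17 1 73 1,
   .sylow 0 2 1 621,
   .pq 11 1 113 1,
   .pq 2 2 311 1,
   .sylow 0 3 1 415,
   .sylow 0 2 1 623,
   .pq 29 1 43 1,
   .sylow 13 2 5 39,
   .pq 1249 1 1249 0,
   .pq 2 1 5 4,
   .pq 3 2 139 1,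
   .pq 2 2 313 1,
   .pq 7 1 179 1,
   .sylow 0 2 1 627,
   .pq 5 1 251 1,
   .pq 2 3 157 1,
   .pq 3 1 419 1,
   .sylow 0 2 1 629,
   .pq 1259 1 1259 0,
   .block 7 [5, 7],
   .pq 13 1 97 1,
   .pq 2 1 631 1,
   .pq 3 1 421 1,
   .pq 2 4 79 1,
   .sylow 0 5 1 253,
   .sylow 0 2 1 633,
   .pq 7 1 181 1,
   .pq 2 2 317 1,
   .pq 3 3 47 1,
   .sylow 0 2 1 635,
   .pq 31 1 41 1,
   .sylow 53 2 3 159,
   .pq 19 1 67 1,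
   .sylow 0 2 1 637]

theorem certs0_ok : checkFrom 1093 certs0 = true := by decide +kernel

/-- Certificates from 1275. -/
def certs1 : List Cert :=
  [.sylow 0 3 1 425,
   .sylow 29 2 2 319,
   .pq 1277 1 1277 0,
   .sylow 0 2 1 639,
   .pq 1279 1 1279 0,
   .pq 2 8 5 1,
   .sylow 0 3 1 427,
   .pq 2 1 641 1,
   .pq 1283 1 1283 0,
   .sylow 0 107 1 12,
   .pq 5 1 257 1,
   .pq 2 1 643 1,
   .sylow 0 3 2 143,
   .sylow 0 23 1 56,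
   .pq 1289 1 1289 0,
   .sylow 0 2 1 645,
   .pq 1291 1 1291 0,
   .sylow 17 2 2 323,
   .pq 3 1 431 1,
   .pq 2 1 647 1,
   .sylow 0 5 1 259,
   .pq 2 4 3 4,
   .pq 1297 1 1297 0,
   .sylow 0 2 1 649,
   .pq 3 1 433 1,
   .sylow 0 13 1 100,
   .pq 1301 1 1301 0,
   .sylow 0 2 1 651,
   .pq 1303 1 1303 0,
   .pq 2 3 163 1,
   .sylow 0 5 1 261,
   .pq 2 1 653 1,
   .pq 1307 1 1307 0,
   .sylow 109 2 2 327,
   .sylow 0 7 1 187,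
   .sylow 0 2 1 655,
   .sylow 0 3 1 437,
   .pq 2 5 41 1,
   .pq 13 1 101 1,
   .sylow 0 2 1 657,
   .pq 5 1 263 1,
   .sylow 0 7 1 188,
   .pq 3 1 439 1,
   .pq 2 1 659 1,
   .pq 1319 1 1319 0,
   .sylow 11 11 1 120,
   .pq 1321 1 1321 0,
   .pq 2 1 661 1,
   .pq 3 3 7 2,
   .pq 2 2 331 1,
   .pq 5 2 53 1,
   .sylow 0 2 1 663,
   .pq 1327 1 1327 0,
   .pq 2 4 83 1,
   .pq 3 1 443 1,
   .sylow 0 2 1 665,
   .pq 11 3 11 0,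
   .sylow 37 3 2 148,
   .pq 31 1 43 1,
   .sylow 0 2 1 667,
   .sylow 0 3 1 445,
   .pq 2 3 167 1,
   .pq 7 1 191 1,
   .sylow 0 2 1 669,
   .pq 13 1 103 1,
   .sylow 67 2 2 335,
   .pq 3 2 149 1,
   .sylow 0 2 1 671,
   .pq 17 1 79 1,
   .block 7 [3, 7],
   .pq 5 1 269 1,
   .pq 2 1 673 1,
   .pq 3 1 449 1,
   .pq 2 2 337 1,
   .pq 19 1 71 1,
   .sylow 0 2 1 675,
   .pq 7 1 193 1,
   .pq 2 3 13 2,
   .sylow 0 3 1 451,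
   .pq 2 1 677 1,
   .pq 5 1 271 1,
   .sylow 113 2 2 339,
   .pq 23 1 59 1,
   .sylow 0 2 1 679,
   .pq 3 2 151 1,
   .sylow 0 17 1 80,
   .pq 1361 1 1361 0,
   .sylow 0 2 1 681,
   .pq 29 1 47 1,
   .sylow 0 11 1 124,
   .sylow 0 3 1 455,
   .pq 2 1 683 1,
   .pq 1367 1 1367 0,
   .sylow 0 19 1 72,
   .pq 37 2 37 0,
   .sylow 0 2 1 685,
   .pq 3 1 457 1,
   .pq 2 2 7 3,
   .pq 1373 1 1373 0,
   .sylow 0 2 1 687,
   .pq 5 3 11 1,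
   .pq 2 5 43 1,
   .pq 3 4 17 1,
   .sylow 0 2 1 689,
   .pq 7 1 197 1,
   .sylow 0 23 1 60,
   .pq 1381 1 1381 0,
   .pq 2 1 691 1,
   .pq 3 1 461 1,
   .pq 2 3 173 1,
   .pq 5 1 277 1,
   .sylow 0 2 1 693,
   .pq 19 1 73 1,
   .pq 2 2 347 1,
   .pq 3 1 463 1,
   .sylow 0 2 1 695,
   .pq 13 1 107 1,
   .sylow 29 2 4 87,
   .pq 7 1 199 1,
   .sylow 0 2 1 697,
   .sylow 0 3 2 155,
   .pq 2 2 349 1,
   .pq 11 1 127 1,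
   .sylow 0 2 1 699,
   .pq 1399 1 1399 0,
   .sylow 0 5 2 56,
   .pq 3 1 467 1,
   .pq 2 1 701 1,
   .pq 23 1 61 1,
   .sylow 13 3 3 52,
   .pq 5 1 281 1,
   .sylow 0 2 1 703,
   .sylow 0 3 1 469,
   .pq 2 7 11 1,
   .pq 1409 1 1409 0,
   .sylow 0 2 1 705,
   .pq 17 1 83 1,
   .pq 2 2 353 1,
   .pq 3 2 157 1,
   .sylow 0 2 1 707,
   .pq 5 1 283 1,
   .sylow 0 59 1 24,
   .pq 13 1 109 1,
   .pq 2 1 709 1,
   .sylow 0 3 1 473,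
   .sylow 71 2 2 355,
   .pq 7 2 29 1,
   .sylow 0 2 1 711,
   .pq 1423 1 1423 0,
   .pq 2 4 89 1,
   .sylow 0 3 1 475,
   .sylow 0 2 1 713,
   .pq 1427 1 1427 0,
   .sylow 0 7 1 204,
   .pq 1429 1 1429 0,
   .sylow 0 2 1 715,
   .pq 3 3 53 1,
   .pq 2 3 179 1,
   .pq 1433 1 1433 0,
   .sylow 0 2 1 717,
   .sylow 0 5 1 287,
   .pq 2 2 359 1,
   .pq 3 1 479 1,
   .pq 2 1 719 1,
   .pq 1439 1 1439 0,
   .block 5 [5],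
   .pq 11 1 131 1,
   .sylow 0 2 1 721,
   .sylow 0 3 1 481,
   .pq 2 2 19 2,
   .pq 5 1 17 2,
   .sylow 0 2 1 723,
   .pq 1447 1 1447 0,
   .pq 2 3 181 1,
   .sylow 0 3 2 161,
   .sylow 0 2 1 725,
   .pq 1451 1 1451 0,
   .sylow 0 11 2 12,
   .pq 1453 1 1453 0,
   .pq 2 1 727 1,
   .sylow 0 3 1 485,
   .sylow 7 2 4 91]

theorem certs1_ok : checkFrom 1275 certs1 = true := by decide +kernel

/-- Certificates from 1457. -/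
def certs2 : List Cert :=
  [.pq 31 1 47 1,
   .pq 2 1 3 6,
   .pq 1459 1 1459 0,
   .sylow 0 73 1 20,
   .pq 3 1 487 1,
   .sylow 0 2 1 731,
   .sylow 0 7 1 209,
   .sylow 61 2 3 183,
   .pq 5 1 293 1,
   .pq 2 1 733 1,
   .pq 3 2 163 1,
   .pq 2 2 367 1,
   .pq 13 1 113 1,
   .sylow 0 2 1 735,
   .pq 1471 1 1471 0,
   .pq 2 6 23 1,
   .pq 3 1 491 1,
   .sylow 0 2 1 737,
   .pq 5 2 59 1,
   .sylow 0 41 1 36,
   .pq 7 1 211 1,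
   .pq 2 1 739 1,
   .sylow 0 3 1 493,
   .sylow 0 5 1 296,
   .pq 1481 1 1481 0,
   .sylow 0 2 1 741,
   .pq 1483 1 1483 0,
   .sylow 53 2 2 371,
   .sylow 0 5 1 297,
   .pq 2 1 743 1,
   .pq 1487 1 1487 0,
   .sylow 0 31 1 48,
   .pq 1489 1 1489 0,
   .sylow 0 2 1 745,
   .sylow 0 3 1 497,
   .pq 2 2 373 1,
   .pq 1493 1 1493 0,
   .sylow 0 2 1 747,
   .sylow 0 5 1 299,
   .sylow 17 2 3 187,
   .pq 3 1 499 1,
   .sylow 0 2 1 749,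
   .pq 1499 1 1499 0,
   .sylow 0 5 3 12,
   .pq 19 1 79 1,
   .pq 2 1 751 1,
   .pq 3 2 167 1,
   .pq 2 5 47 1,
   .sylow 0 5 1 301,
   .sylow 0 2 1 753,
   .pq 11 1 137 1,
   .sylow 0 13 1 116,
   .pq 3 1 503 1,
   .sylow 0 2 1 755,
   .pq 1511 1 1511 0,
   .other,
   .pq 17 1 89 1,
   .pq 2 1 757 1,
   .sylow 0 3 1 505,
   .pq 2 2 379 1,
   .pq 37 1 41 1,
   .sylow 0 2 1 759,
   .pq 7 2 31 1,
   .sylow 19 2 4 95,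
   .pq 3 2 13 2,
   .pq 2 1 761 1,
   .pq 1523 1 1523 0,
   .sylow 127 3 1 508,
   .pq 5 2 61 1,
   .sylow 0 2 1 763,
   .pq 3 1 509 1,
   .pq 2 3 191 1,
   .pq 11 1 139 1,
   .sylow 0 2 1 765,
   .pq 1531 1 1531 0,
   .pq 2 2 383 1,
   .sylow 0 3 1 511,
   .sylow 0 2 1 767,
   .pq 5 1 307 1,
   .pq 2 9 3 1,
   .pq 29 1 53 1,
   .pq 2 1 769 1,
   .pq 3 4 19 1,
   .sylow 7 5 1 308,
   .pq 23 1 67 1,
   .sylow 0 2 1 771,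
   .pq 1543 1 1543 0,
   .pq 2 3 193 1,
   .sylow 0 3 1 515,
   .pq 2 1 773 1,
   .sylow 0 7 1 221,
   .sylow 0 43 1 36,
   .pq 1549 1 1549 0,
   .sylow 0 2 1 775,
   .sylow 0 3 1 517,
   .pq 2 4 97 1,
   .pq 1553 1 1553 0,
   .sylow 0 2 1 777,
   .pq 5 1 311 1,
   .pq 2 2 389 1,
   .pq 3 2 173 1,
   .sylow 0 2 1 779,
   .pq 1559 1 1559 0,
   .block 13 [3, 5, 13],
   .pq 7 1 223 1,
   .sylow 0 2 1 781,
   .pq 3 1 521 1,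
   .sylow 17 2 2 391,
   .pq 5 1 313 1,
   .sylow 0 2 1 783,
   .pq 1567 1 1567 0,
   .pq 2 5 7 2,
   .pq 3 1 523 1,
   .sylow 0 2 1 785,
   .pq 1571 1 1571 0,
   .sylow 0 131 1 12,
   .pq 11 2 13 1,
   .pq 2 1 787 1,
   .sylow 0 5 2 63,
   .pq 2 3 197 1,
   .pq 19 1 83 1,
   .sylow 0 2 1 789,
   .pq 1579 1 1579 0,
   .sylow 79 2 2 395,
   .sylow 0 3 1 527,
   .sylow 0 2 1 791,
   .pq 1583 1 1583 0,
   .block 11 [11],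
   .pq 5 1 317 1,
   .sylow 0 2 1 793,
   .pq 3 1 23 2,
   .pq 2 2 397 1,
   .pq 7 1 227 1,
   .sylow 0 2 1 795,
   .pq 37 1 43 1,
   .pq 2 3 199 1,
   .pq 3 3 59 1,
   .pq 2 1 797 1,
   .sylow 0 5 1 319,
   .sylow 0 19 1 84,
   .pq 1597 1 1597 0,
   .sylow 0 2 1 799,
   .sylow 0 3 1 533,
   .pq 2 6 5 2,
   .pq 1601 1 1601 0,
   .sylow 0 2 1 801,
   .pq 7 1 229 1,
   .pq 2 2 401 1,
   .sylow 0 3 1 535,
   .sylow 0 2 1 803,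
   .pq 1607 1 1607 0,
   .sylow 0 67 1 24,
   .pq 1609 1 1609 0,
   .sylow 0 2 1 805,
   .pq 3 2 179 1,
   .sylow 31 2 2 403,
   .pq 1613 1 1613 0,
   .sylow 0 2 1 807,
   .sylow 0 5 1 323,
   .pq 2 4 101 1,
   .sylow 0 3 1 539,
   .pq 2 1 809 1,
   .pq 1619 1 1619 0,
   .other,
   .pq 1621 1 1621 0,
   .pq 2 1 811 1,
   .pq 3 1 541 1,
   .sylow 29 2 3 203,
   .pq 5 3 13 1,
   .sylow 0 2 1 813,
   .pq 1627 1 1627 0,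
   .sylow 37 2 2 407,
   .pq 3 2 181 1,
   .sylow 0 2 1 815,
   .pq 7 1 233 1,
   .sylow 17 2 5 51,
   .pq 23 1 71 1,
   .sylow 0 2 1 817,
   .sylow 0 3 1 545,
   .pq 2 2 409 1,
   .pq 1637 1 1637 0,
   .sylow 0 2 1 819]

theorem certs2_ok : checkFrom 1457 certs2 = true := by decide +kernel

/-- Certificates from 1639. -/
def certs3 : List Cert :=
  [.pq 11 1 149 1,
   .sylow 41 5 1 328,
   .pq 3 1 547 1,
   .pq 2 1 821 1,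
   .pq 31 1 53 1,
   .sylow 137 2 2 411,
   .sylow 0 5 1 329,
   .pq 2 1 823 1,
   .pq 3 3 61 1,
   .pq 2 4 103 1,
   .pq 17 1 97 1,
   .sylow 0 2 1 825,
   .pq 13 1 127 1,
   .sylow 0 7 1 236,
   .sylow 0 3 1 551,
   .pq 2 1 827 1,
   .pq 5 1 331 1,
   .sylow 0 23 1 72,
   .pq 1657 1 1657 0,
   .pq 2 1 829 1,
   .sylow 0 3 1 553,
   .sylow 83 2 2 415,
   .pq 11 1 151 1,
   .sylow 0 2 1 831,
   .pq 1663 1 1663 0,
   .pq 2 7 13 1,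
   .sylow 37 3 2 185,
   .sylow 0 2 1 833,
   .pq 1667 1 1667 0,
   .sylow 139 3 1 556,
   .pq 1669 1 1669 0,
   .sylow 0 2 1 835,
   .pq 3 1 557 1,
   .sylow 0 11 1 152,
   .pq 7 1 239 1,
   .sylow 0 2 1 837,
   .pq 5 2 67 1,
   .pq 2 2 419 1,
   .sylow 0 3 1 559,
   .pq 2 1 839 1,
   .pq 23 1 73 1,
   .block 5 [3, 5, 7],
   .pq 41 2 41 0,
   .pq 2 1 29 2,
   .sylow 0 3 2 187,
   .pq 2 2 421 1,
   .pq 5 1 337 1,
   .sylow 0 2 1 843,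
   .pq 7 1 241 1,
   .pq 2 3 211 1,
   .pq 3 1 563 1,
   .sylow 0 2 1 845,
   .pq 19 1 89 1,
   .sylow 47 3 2 188,
   .pq 1693 1 1693 0,
   .sylow 0 2 1 847,
   .sylow 0 3 1 565,
   .pq 2 5 53 1,
   .pq 1697 1 1697 0,
   .sylow 0 2 1 849,
   .pq 1699 1 1699 0,
   .sylow 0 5 2 68,
   .pq 3 5 7 1,
   .sylow 0 2 1 851,
   .pq 13 1 131 1,
   .sylow 0 71 1 24,
   .sylow 0 5 1 341,
   .pq 2 1 853 1,
   .pq 3 1 569 1,
   .sylow 61 2 2 427,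
   .pq 1709 1 1709 0,
   .sylow 0 2 1 855,
   .pq 29 1 59 1,
   .pq 2 4 107 1,
   .pq 3 1 571 1,
   .pq 2 1 857 1,
   .pq 5 1 7 3,
   .block 3 [3, 11, 13],
   .pq 17 1 101 1,
   .pq 2 1 859 1,
   .pq 3 2 191 1,
   .sylow 43 2 3 215,
   .pq 1721 1 1721 0,
   .sylow 0 2 1 861,
   .pq 1723 1 1723 0,
   .pq 2 2 431 1,
   .sylow 0 3 1 575,
   .pq 2 1 863 1,
   .pq 11 1 157 1,
   .pq 2 6 3 3,
   .sylow 0 7 1 247,
   .sylow 0 2 1 865,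
   .pq 3 1 577 1,
   .pq 2 2 433 1,
   .pq 1733 1 1733 0,
   .sylow 0 2 1 867,
   .pq 5 1 347 1,
   .sylow 0 7 1 248,
   .pq 3 2 193 1,
   .sylow 0 2 1 869,
   .pq 37 1 47 1,
   .sylow 0 5 1 348,
   .pq 1741 1 1741 0,
   .sylow 0 2 1 871,
   .sylow 0 3 1 581,
   .pq 2 4 109 1,
   .pq 5 1 349 1,
   .sylow 0 2 1 873,
   .pq 1747 1 1747 0,
   .sylow 0 19 1 92,
   .sylow 0 3 1 583,
   .sylow 0 2 1 875,
   .pq 17 1 103 1,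
   .sylow 73 2 3 219,
   .pq 1753 1 1753 0,
   .pq 2 1 877 1,
   .sylow 0 3 3 65,
   .pq 2 2 439 1,
   .pq 7 1 251 1,
   .sylow 0 2 1 879,
   .pq 1759 1 1759 0,
   .sylow 11 2 5 55,
   .pq 3 1 587 1,
   .pq 2 1 881 1,
   .pq 41 1 43 1,
   .sylow 0 7 2 36,
   .pq 5 1 353 1,
   .pq 2 1 883 1,
   .sylow 0 3 1 589,
   .sylow 0 13 1 136,
   .pq 29 1 61 1,
   .sylow 0 2 1 885,
   .sylow 0 7 1 253,
   .pq 2 2 443 1,
   .pq 3 2 197 1,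
   .pq 2 1 887 1,
   .pq 5 2 71 1,
   .sylow 37 2 4 111,
   .pq 1777 1 1777 0,
   .sylow 0 2 1 889,
   .pq 3 1 593 1,
   .sylow 0 5 1 356,
   .pq 13 1 137 1,
   .sylow 0 2 1 891,
   .pq 1783 1 1783 0,
   .pq 2 3 223 1,
   .sylow 0 3 1 595,
   .sylow 0 2 1 893,
   .pq 1787 1 1787 0,
   .sylow 149 2 2 447,
   .pq 1789 1 1789 0,
   .sylow 0 2 1 895,
   .pq 3 2 199 1,
   .pq 2 8 7 1,
   .pq 11 1 163 1,
   .sylow 0 2 1 897,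
   .pq 5 1 359 1,
   .pq 2 2 449 1,
   .pq 3 1 599 1,
   .sylow 0 2 1 899,
   .pq 7 1 257 1,
   .other,
   .pq 1801 1 1801 0,
   .sylow 0 2 1 901,
   .pq 3 1 601 1,
   .sylow 41 2 2 451,
   .pq 5 1 19 2,
   .sylow 0 2 1 903,
   .pq 13 1 139 1,
   .pq 2 4 113 1,
   .pq 3 3 67 1,
   .sylow 0 2 1 905,
   .pq 1811 1 1811 0,
   .sylow 151 3 1 604,
   .pq 7 2 37 1,
   .pq 2 1 907 1,
   .sylow 0 3 1 605,
   .pq 2 3 227 1,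
   .pq 23 1 79 1,
   .sylow 0 2 1 909,
   .pq 17 1 107 1,
   .sylow 0 7 1 260]

theorem certs3_ok : checkFrom 1639 certs3 = true := by decide +kernel

/-- Certificates from 1821. -/
def certs4 : List Cert :=
  [.pq 3 1 607 1,
   .pq 2 1 911 1,
   .pq 1823 1 1823 0,
   .sylow 0 19 1 96,
   .pq 5 2 73 1,
   .sylow 0 2 1 913,
   .sylow 0 3 2 203,
   .pq 2 2 457 1,
   .pq 31 1 59 1,
   .sylow 0 2 1 915,
   .pq 1831 1 1831 0,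
   .pq 2 3 229 1,
   .sylow 0 3 1 611,
   .sylow 0 2 1 917,
   .pq 5 1 367 1,
   .sylow 17 3 3 68,
   .pq 11 1 167 1,
   .pq 2 1 919 1,
   .pq 3 1 613 1,
   .sylow 23 2 4 115,
   .pq 7 1 263 1,
   .sylow 0 2 1 921,
   .pq 19 1 97 1,
   .pq 2 2 461 1,
   .sylow 0 3 2 205,
   .sylow 0 2 1 923,
   .pq 1847 1 1847 0,
   .sylow 11 11 1 168,
   .pq 43 2 43 0,
   .sylow 0 2 1 925,
   .pq 3 1 617 1,
   .pq 2 2 463 1,
   .pq 17 1 109 1,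
   .sylow 0 2 1 927,
   .sylow 0 5 1 371,
   .pq 2 6 29 1,
   .pq 3 1 619 1,
   .pq 2 1 929 1,
   .pq 11 1 13 2,
   .sylow 0 31 1 60,
   .pq 1861 1 1861 0,
   .sylow 0 2 1 931,
   .pq 3 4 23 1,
   .pq 2 3 233 1,
   .pq 5 1 373 1,
   .sylow 0 2 1 933,
   .pq 1867 1 1867 0,
   .pq 2 2 467 1,
   .sylow 0 3 1 623,
   .sylow 0 2 1 935,
   .pq 1871 1 1871 0,
   .sylow 0 13 1 144,
   .pq 1873 1 1873 0,
   .pq 2 1 937 1,
   .pq 3 1 5 4,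
   .sylow 0 67 1 28,
   .pq 1877 1 1877 0,
   .sylow 0 2 1 939,
   .pq 1879 1 1879 0,
   .sylow 47 2 3 235,
   .sylow 11 3 2 209,
   .pq 2 1 941 1,
   .pq 7 1 269 1,
   .sylow 157 2 2 471,
   .sylow 0 5 1 377,
   .sylow 0 2 1 943,
   .sylow 0 3 1 629,
   .pq 2 5 59 1,
   .pq 1889 1 1889 0,
   .sylow 0 2 1 945,
   .pq 31 1 61 1,
   .sylow 0 11 1 172,
   .pq 3 1 631 1,
   .pq 2 1 947 1,
   .pq 5 1 379 1,
   .sylow 0 79 1 24,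
   .pq 7 1 271 1,
   .sylow 0 2 1 949,
   .pq 3 2 211 1,
   .sylow 0 19 1 100,
   .pq 1901 1 1901 0,
   .sylow 0 2 1 951,
   .pq 11 1 173 1,
   .sylow 17 2 4 119,
   .sylow 0 3 1 635,
   .pq 2 1 953 1,
   .pq 1907 1 1907 0,
   .sylow 53 3 2 212,
   .pq 23 1 83 1,
   .sylow 0 2 1 955,
   .sylow 0 3 1 637,
   .pq 2 3 239 1,
   .pq 1913 1 1913 0,
   .sylow 0 2 1 957,
   .pq 5 1 383 1,
   .pq 2 2 479 1,
   .pq 3 3 71 1,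
   .sylow 0 2 1 959,
   .pq 19 1 101 1,
   .sylow 0 2 7 15,
   .pq 17 1 113 1,
   .pq 2 1 31 2,
   .pq 3 1 641 1,
   .sylow 0 13 1 148,
   .sylow 0 5 2 77,
   .sylow 0 2 1 963,
   .pq 41 1 47 1,
   .pq 2 3 241 1,
   .pq 3 1 643 1,
   .sylow 0 2 1 965,
   .pq 1931 1 1931 0,
   .sylow 0 23 1 84,
   .pq 1933 1 1933 0,
   .pq 2 1 967 1,
   .sylow 0 3 2 215,
   .pq 2 4 11 2,
   .pq 13 1 149 1,
   .sylow 0 2 1 969,
   .pq 7 1 277 1,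
   .sylow 0 5 1 388,
   .pq 3 1 647 1,
   .pq 2 1 971 1,
   .pq 29 1 67 1,
   .pq 2 3 3 5,
   .pq 5 1 389 1,
   .sylow 0 2 1 973,
   .sylow 0 3 1 649,
   .pq 2 2 487 1,
   .pq 1949 1 1949 0,
   .sylow 0 2 1 975,
   .pq 1951 1 1951 0,
   .pq 2 5 61 1,
   .sylow 0 7 1 279,
   .pq 2 1 977 1,
   .sylow 0 5 1 391,
   .sylow 163 3 1 652,
   .pq 19 1 103 1,
   .sylow 0 2 1 979,
   .pq 3 1 653 1,
   .sylow 0 7 2 40,
   .pq 37 1 53 1,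
   .sylow 0 2 1 981,
   .pq 13 1 151 1,
   .pq 2 2 491 1,
   .sylow 0 3 1 655,
   .pq 2 1 983 1,
   .pq 7 1 281 1,
   .sylow 41 2 4 123,
   .pq 11 1 179 1,
   .sylow 0 2 1 985,
   .pq 3 3 73 1,
   .sylow 0 17 1 116,
   .pq 1973 1 1973 0,
   .sylow 0 2 1 987,
   .pq 5 2 79 1,
   .sylow 13 2 3 247,
   .pq 3 1 659 1,
   .sylow 0 2 1 989,
   .pq 1979 1 1979 0,
   .block 11 [5, 11],
   .pq 7 1 283 1,
   .pq 2 1 991 1,
   .pq 3 1 661 1,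
   .pq 2 6 31 1,
   .pq 5 1 397 1,
   .sylow 0 2 1 993,
   .pq 1987 1 1987 0,
   .sylow 71 7 1 284,
   .sylow 0 3 2 221,
   .sylow 0 2 1 995,
   .pq 11 1 181 1,
   .sylow 0 83 1 24,
   .pq 1993 1 1993 0,
   .pq 2 1 997 1,
   .sylow 0 3 1 665,
   .pq 2 2 499 1,
   .pq 1997 1 1997 0,
   .sylow 0 2 1 999,
   .pq 1999 1 1999 0,
   .pq 2 4 5 3,
   .sylow 0 3 1 667,
   .sylow 0 2 1 1001]

theorem certs4_ok : checkFrom 1821 certs4 = true := by decide +kernel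

/-- Certificates from 2003. -/
def certs5 : List Cert :=
  [.pq 2003 1 2003 0,
   .sylow 0 167 1 12,
   .pq 5 1 401 1,
   .sylow 0 2 1 1003,
   .pq 3 2 223 1,
   .pq 2 3 251 1,
   .pq 7 2 41 1,
   .sylow 0 2 1 1005,
   .pq 2011 1 2011 0,
   .pq 2 2 503 1,
   .sylow 0 3 1 671,
   .sylow 0 2 1 1007,
   .sylow 0 5 1 403,
   .block 7 [7],
   .pq 2017 1 2017 0,
   .pq 2 1 1009 1,
   .pq 3 1 673 1,
   .sylow 101 5 1 404,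
   .pq 43 1 47 1,
   .sylow 0 2 1 1011,
   .pq 7 1 17 2,
   .sylow 23 11 1 184,
   .pq 3 4 5 2,
   .pq 2 1 1013 1,
   .pq 2027 1 2027 0,
   .sylow 0 13 2 12,
   .pq 2029 1 2029 0,
   .sylow 0 2 1 1015,
   .pq 3 1 677 1,
   .pq 2 4 127 1,
   .pq 19 1 107 1,
   .sylow 0 2 1 1017,
   .sylow 0 5 1 407,
   .pq 2 2 509 1,
   .sylow 0 3 1 679,
   .pq 2 1 1019 1,
   .pq 2039 1 2039 0,
   .sylow 0 17 1 120,
   .pq 13 1 157 1,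
   .pq 2 1 1021 1,
   .pq 3 2 227 1,
   .sylow 73 2 2 511,
   .pq 5 1 409 1,
   .sylow 0 2 1 1023,
   .pq 23 1 89 1,
   .pq 2 11 2 0,
   .pq 3 1 683 1,
   .sylow 0 2 1 1025,
   .pq 7 1 293 1,
   .sylow 19 3 3 76,
   .pq 2053 1 2053 0,
   .sylow 0 2 1 1027,
   .sylow 0 3 1 685,
   .pq 2 3 257 1,
   .pq 11 2 17 1,
   .sylow 0 2 1 1029,
   .pq 29 1 71 1,
   .sylow 103 2 2 515,
   .pq 3 2 229 1,
   .pq 2 1 1031 1,
   .pq 2063 1 2063 0,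
   .sylow 0 43 1 48,
   .sylow 0 5 1 413,
   .pq 2 1 1033 1,
   .sylow 0 3 1 689,
   .sylow 0 11 1 188,
   .pq 2069 1 2069 0,
   .sylow 0 2 1 1035,
   .pq 19 1 109 1,
   .sylow 37 2 3 259,
   .pq 3 1 691 1,
   .sylow 0 2 1 1037,
   .pq 5 2 83 1,
   .sylow 173 2 2 519,
   .pq 31 1 67 1,
   .pq 2 1 1039 1,
   .sylow 0 3 3 77,
   .block 13 [5, 13],
   .pq 2081 1 2081 0,
   .sylow 0 2 1 1041,
   .pq 2083 1 2083 0,
   .pq 2 2 521 1,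
   .sylow 0 3 1 695,
   .sylow 0 2 1 1043,
   .pq 2087 1 2087 0,
   .sylow 0 29 1 72,
   .pq 2089 1 2089 0,
   .sylow 0 2 1 1045,
   .sylow 0 3 1 697,
   .pq 2 2 523 1,
   .sylow 0 7 1 299,
   .sylow 0 2 1 1047,
   .pq 5 1 419 1,
   .pq 2 4 131 1,
   .pq 3 2 233 1,
   .pq 2 1 1049 1,
   .pq 2099 1 2099 0,
   .block 3 [3, 7],
   .pq 11 1 191 1,
   .pq 2 1 1051 1,
   .pq 3 1 701 1,
   .pq 2 3 263 1,
   .pq 5 1 421 1,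
   .sylow 0 2 1 1053,
   .pq 7 2 43 1,
   .sylow 17 2 2 527,
   .sylow 0 3 1 703,
   .sylow 0 2 1 1055,
   .pq 2111 1 2111 0,
   .sylow 11 11 1 192,
   .pq 2113 1 2113 0,
   .sylow 0 2 1 1057,
   .sylow 0 5 1 423,
   .pq 2 2 23 2,
   .pq 29 1 73 1,
   .sylow 0 2 1 1059,
   .pq 13 1 163 1,
   .sylow 0 53 1 40,
   .sylow 0 3 1 707,
   .pq 2 1 1061 1,
   .pq 11 1 193 1,
   .sylow 0 59 1 36,
   .pq 5 3 17 1,
   .pq 2 1 1063 1,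
   .pq 3 1 709 1,
   .sylow 0 7 1 304,
   .pq 2129 1 2129 0,
   .sylow 0 2 1 1065,
   .pq 2131 1 2131 0,
   .sylow 0 13 1 164,
   .pq 3 3 79 1,
   .sylow 0 2 1 1067,
   .sylow 0 5 1 427,
   .sylow 89 2 3 267,
   .pq 2137 1 2137 0,
   .pq 2 1 1069 1,
   .sylow 0 3 1 713,
   .sylow 107 2 2 535,
   .pq 2141 1 2141 0,
   .sylow 0 2 1 1071,
   .pq 2143 1 2143 0,
   .pq 2 5 67 1,
   .sylow 0 3 1 715,
   .sylow 0 2 1 1073,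
   .pq 19 1 113 1,
   .sylow 0 179 1 12,
   .pq 7 1 307 1,
   .sylow 0 2 1 1075,
   .pq 3 2 239 1,
   .pq 2 3 269 1,
   .pq 2153 1 2153 0,
   .sylow 0 2 1 1077,
   .pq 5 1 431 1,
   .sylow 0 7 2 44,
   .pq 3 1 719 1,
   .sylow 0 2 1 1079,
   .pq 17 1 127 1,
   .other,
   .pq 2161 1 2161 0,
   .sylow 0 2 1 1081,
   .sylow 0 3 1 721,
   .pq 2 2 541 1,
   .pq 5 1 433 1,
   .sylow 0 2 1 1083,
   .pq 11 1 197 1,
   .pq 2 3 271 1,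
   .pq 3 2 241 1,
   .sylow 0 2 1 1085,
   .pq 13 1 167 1,
   .sylow 181 2 2 543,
   .pq 41 1 53 1,
   .pq 2 1 1087 1,
   .sylow 0 3 1 725,
   .pq 2 7 17 1,
   .pq 7 1 311 1,
   .sylow 0 2 1 1089,
   .pq 2179 1 2179 0,
   .sylow 0 5 1 436,
   .pq 3 1 727 1,
   .pq 2 1 1091 1,
   .pq 37 1 59 1,
   .sylow 13 13 1 168]

theorem certs5_ok : checkFrom 2003 certs5 = true := by decide +kernel

/-- Certificates from 2185. -/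
def certs6 : List Cert :=
  [.sylow 0 5 1 437,
   .pq 2 1 1093 1,
   .pq 3 7 3 0,
   .pq 2 2 547 1,
   .pq 11 1 199 1,
   .sylow 0 2 1 1095,
   .pq 7 1 313 1,
   .pq 2 4 137 1,
   .sylow 0 3 1 731,
   .pq 2 1 1097 1,
   .pq 5 1 439 1,
   .sylow 0 61 1 36,
   .pq 13 3 13 0,
   .sylow 0 2 1 1099,
   .pq 3 1 733 1,
   .sylow 0 5 2 88,
   .pq 31 1 71 1,
   .sylow 0 2 1 1101,
   .pq 2203 1 2203 0,
   .sylow 29 2 2 551,
   .sylow 0 5 1 441,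
   .pq 2 1 1103 1,
   .pq 2207 1 2207 0,
   .sylow 23 23 1 96,
   .pq 47 2 47 0,
   .sylow 0 2 1 1105,
   .sylow 0 3 1 737,
   .sylow 0 7 1 316,
   .pq 2213 1 2213 0,
   .sylow 0 2 1 1107,
   .pq 5 1 443 1,
   .pq 2 3 277 1,
   .pq 3 1 739 1,
   .pq 2 1 1109 1,
   .pq 7 1 317 1,
   .sylow 0 37 1 60,
   .pq 2221 1 2221 0,
   .sylow 0 2 1 1111,
   .sylow 13 3 2 247,
   .pq 2 4 139 1,
   .pq 5 2 89 1,
   .sylow 0 2 1 1113,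
   .pq 17 1 131 1,
   .pq 2 2 557 1,
   .pq 3 1 743 1,
   .sylow 0 2 1 1115,
   .pq 23 1 97 1,
   .sylow 0 31 1 72,
   .sylow 0 7 1 319,
   .pq 2 1 1117 1,
   .sylow 0 3 1 745,
   .sylow 43 2 2 559,
   .pq 2237 1 2237 0,
   .sylow 0 2 1 1119,
   .pq 2239 1 2239 0,
   .sylow 0 2 6 35,
   .pq 3 3 83 1,
   .sylow 0 2 1 1121,
   .pq 2243 1 2243 0,
   .sylow 0 17 1 132,
   .pq 5 1 449 1,
   .pq 2 1 1123 1,
   .sylow 0 3 1 749,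
   .pq 2 3 281 1,
   .pq 13 1 173 1,
   .sylow 0 2 1 1125,
   .pq 2251 1 2251 0,
   .pq 2 2 563 1,
   .pq 3 1 751 1,
   .sylow 0 2 1 1127,
   .sylow 0 5 1 451,
   .sylow 0 47 1 48,
   .pq 37 1 61 1,
   .pq 2 1 1129 1,
   .pq 3 2 251 1,
   .sylow 0 113 1 20,
   .sylow 0 7 1 323,
   .sylow 0 2 1 1131,
   .pq 31 1 73 1,
   .pq 2 3 283 1,
   .sylow 0 3 1 755,
   .sylow 0 2 1 1133,
   .pq 2267 1 2267 0,
   .block 7 [7],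
   .pq 2269 1 2269 0,
   .sylow 0 2 1 1135,
   .pq 3 1 757 1,
   .pq 2 5 71 1,
   .pq 2273 1 2273 0,
   .sylow 0 2 1 1137,
   .sylow 0 5 2 91,
   .pq 2 2 569 1,
   .sylow 0 11 1 207,
   .sylow 0 2 1 1139,
   .pq 43 1 53 1,
   .sylow 19 19 1 120,
   .pq 2281 1 2281 0,
   .sylow 0 2 1 1141,
   .pq 3 1 761 1,
   .pq 2 2 571 1,
   .pq 5 1 457 1,
   .sylow 0 2 1 1143,
   .pq 2287 1 2287 0,
   .sylow 11 2 4 143,
   .sylow 0 3 1 763,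
   .sylow 0 2 1 1145,
   .pq 29 1 79 1,
   .sylow 0 191 1 12,
   .pq 2293 1 2293 0,
   .sylow 0 2 1 1147,
   .sylow 0 3 3 85,
   .sylow 41 2 3 287,
   .pq 2297 1 2297 0,
   .sylow 0 2 1 1149,
   .pq 11 2 19 1,
   .sylow 0 5 2 92,
   .sylow 0 3 1 767,
   .pq 2 1 1151 1,
   .pq 7 2 47 1,
   .pq 2 8 3 2,
   .pq 5 1 461 1,
   .pq 2 1 1153 1,
   .pq 3 1 769 1,
   .pq 2 2 577 1,
   .pq 2309 1 2309 0,
   .sylow 0 2 1 1155,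
   .pq 2311 1 2311 0,
   .pq 2 3 17 2,
   .pq 3 2 257 1,
   .sylow 0 2 1 1157,
   .pq 5 1 463 1,
   .sylow 193 2 2 579,
   .pq 7 1 331 1,
   .sylow 0 2 1 1159,
   .pq 3 1 773 1,
   .sylow 0 29 1 80,
   .pq 11 1 211 1,
   .sylow 0 2 1 1161,
   .pq 23 1 101 1,
   .sylow 0 7 1 332,
   .sylow 0 3 1 775,
   .pq 2 1 1163 1,
   .pq 13 1 179 1,
   .sylow 97 2 3 291,
   .pq 17 1 137 1,
   .sylow 0 2 1 1165,
   .sylow 37 3 2 259,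
   .sylow 53 2 2 583,
   .pq 2333 1 2333 0,
   .sylow 0 2 1 1167,
   .pq 5 1 467 1,
   .pq 2 5 73 1,
   .sylow 0 3 1 779,
   .sylow 0 2 1 1169,
   .pq 2339 1 2339 0,
   .sylow 0 13 1 180,
   .pq 2341 1 2341 0,
   .pq 2 1 1171 1,
   .sylow 0 3 1 781,
   .pq 2 3 293 1,
   .sylow 0 5 1 469,
   .sylow 0 2 1 1173,
   .pq 2347 1 2347 0,
   .pq 2 2 587 1,
   .pq 3 4 29 1,
   .sylow 0 2 1 1175,
   .pq 2351 1 2351 0,
   .sylow 0 7 2 48,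
   .pq 13 1 181 1,
   .sylow 0 2 1 1177,
   .sylow 0 3 1 785,
   .sylow 0 19 1 124,
   .pq 2357 1 2357 0,
   .sylow 0 2 1 1179,
   .pq 7 1 337 1,
   .sylow 59 2 3 295,
   .pq 3 1 787 1,
   .pq 2 1 1181 1,
   .pq 17 1 139 1,
   .sylow 197 2 2 591,
   .sylow 0 5 1 473,
   .sylow 0 2 1 1183]

theorem certs6_ok : checkFrom 2185 certs6 = true := by decide +kernel

/-- Certificates from 2367. -/
def certs7 : List Cert :=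
  [.pq 3 2 263 1,
   .pq 2 6 37 1,
   .pq 23 1 103 1,
   .sylow 0 2 1 1185,
   .pq 2371 1 2371 0,
   .pq 2 2 593 1,
   .sylow 0 3 1 791,
   .pq 2 1 1187 1,
   .pq 5 3 19 1,
   .sylow 11 11 1 216,
   .pq 2377 1 2377 0,
   .sylow 0 2 1 1189,
   .sylow 0 3 1 793,
   .sylow 0 5 1 476,
   .pq 2381 1 2381 0,
   .sylow 0 2 1 1191,
   .pq 2383 1 2383 0,
   .pq 2 4 149 1,
   .sylow 0 3 2 265,
   .pq 2 1 1193 1,
   .sylow 0 7 1 341,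
   .sylow 199 3 1 796,
   .pq 2389 1 2389 0,
   .sylow 0 2 1 1195,
   .pq 3 1 797 1,
   .sylow 23 2 3 299,
   .pq 2393 1 2393 0,
   .sylow 0 2 1 1197,
   .pq 5 1 479 1,
   .pq 2 2 599 1,
   .sylow 0 3 1 799,
   .sylow 0 2 1 1199,
   .pq 2399 1 2399 0,
   .other,
   .pq 7 4 7 0,
   .pq 2 1 1201 1,
   .pq 3 3 89 1,
   .pq 2 2 601 1,
   .sylow 0 5 1 481,
   .sylow 0 2 1 1203,
   .pq 29 1 83 1,
   .sylow 43 7 1 344,
   .sylow 0 3 1 803,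
   .sylow 0 2 1 1205,
   .pq 2411 1 2411 0,
   .sylow 67 3 2 268,
   .pq 19 1 127 1,
   .sylow 0 2 1 1207,
   .sylow 0 3 1 805,
   .pq 2 4 151 1,
   .pq 2417 1 2417 0,
   .sylow 0 2 1 1209,
   .pq 41 1 59 1,
   .sylow 0 11 2 20,
   .pq 3 2 269 1,
   .sylow 0 2 1 1211,
   .pq 2423 1 2423 0,
   .sylow 101 2 3 303,
   .pq 5 2 97 1,
   .pq 2 1 1213 1,
   .pq 3 1 809 1,
   .pq 2 2 607 1,
   .pq 7 1 347 1,
   .sylow 0 2 1 1215,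
   .sylow 0 11 1 221,
   .pq 2 7 19 1,
   .pq 3 1 811 1,
   .pq 2 1 1217 1,
   .pq 5 1 487 1,
   .sylow 29 7 1 348,
   .pq 2437 1 2437 0,
   .sylow 0 2 1 1219,
   .pq 3 2 271 1,
   .sylow 61 5 1 488,
   .pq 2441 1 2441 0,
   .sylow 0 2 1 1221,
   .pq 7 1 349 1,
   .sylow 47 2 2 611,
   .sylow 0 3 1 815,
   .pq 2 1 1223 1,
   .pq 2447 1 2447 0,
   .other,
   .pq 31 1 79 1,
   .sylow 0 2 1 1225,
   .sylow 0 3 1 817,
   .pq 2 2 613 1,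
   .pq 11 1 223 1,
   .sylow 0 2 1 1227,
   .pq 5 1 491 1,
   .pq 2 3 307 1,
   .sylow 0 7 1 351,
   .pq 2 1 1229 1,
   .pq 2459 1 2459 0,
   .sylow 0 41 1 60,
   .pq 23 1 107 1,
   .pq 2 1 1231 1,
   .pq 3 1 821 1,
   .block 11 [7, 11],
   .sylow 0 5 1 493,
   .sylow 0 2 1 1233,
   .pq 2467 1 2467 0,
   .pq 2 2 617 1,
   .pq 3 1 823 1,
   .sylow 0 2 1 1235,
   .pq 7 1 353 1,
   .sylow 0 103 1 24,
   .pq 2473 1 2473 0,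
   .pq 2 1 1237 1,
   .sylow 0 5 2 99,
   .pq 2 2 619 1,
   .pq 2477 1 2477 0,
   .sylow 0 2 1 1239,
   .pq 37 1 67 1,
   .sylow 31 2 4 155,
   .pq 3 1 827 1,
   .sylow 0 2 1 1241,
   .pq 13 1 191 1,
   .sylow 0 23 1 108,
   .sylow 0 5 1 497,
   .sylow 0 2 1 1243,
   .pq 3 1 829 1,
   .pq 2 3 311 1,
   .pq 19 1 131 1,
   .sylow 0 2 1 1245,
   .pq 47 1 53 1,
   .sylow 89 2 2 623,
   .pq 3 2 277 1,
   .sylow 0 2 1 1247,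
   .pq 5 1 499 1,
   .sylow 13 2 6 39,
   .pq 11 1 227 1,
   .pq 2 1 1249 1,
   .sylow 0 3 1 833,
   .pq 2 2 5 4,
   .pq 41 1 61 1,
   .sylow 0 2 1 1251,
   .pq 2503 1 2503 0,
   .pq 2 3 313 1,
   .sylow 0 3 1 835,
   .sylow 0 2 1 1253,
   .pq 23 1 109 1,
   .sylow 0 11 1 228,
   .pq 13 1 193 1,
   .sylow 0 2 1 1255,
   .pq 3 4 31 1,
   .pq 2 4 157 1,
   .pq 7 1 359 1,
   .sylow 0 2 1 1257,
   .pq 5 1 503 1,
   .sylow 0 17 1 148,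
   .pq 3 1 839 1,
   .pq 2 1 1259 1,
   .pq 11 1 229 1,
   .other,
   .pq 2521 1 2521 0,
   .sylow 0 2 1 1261,
   .pq 3 1 29 2,
   .pq 2 2 631 1,
   .pq 5 2 101 1,
   .sylow 0 2 1 1263,
   .pq 7 1 19 2,
   .pq 2 5 79 1,
   .pq 3 2 281 1,
   .sylow 0 2 1 1265,
   .pq 2531 1 2531 0,
   .sylow 211 3 1 844,
   .pq 17 1 149 1,
   .sylow 0 2 1 1267,
   .sylow 0 3 1 845,
   .pq 2 3 317 1,
   .pq 43 1 59 1,
   .sylow 0 2 1 1269,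
   .pq 2539 1 2539 0,
   .sylow 127 2 2 635,
   .sylow 0 3 1 847,
   .sylow 0 2 1 1271,
   .pq 2543 1 2543 0,
   .sylow 53 2 4 159,
   .pq 5 1 509 1,
   .sylow 0 2 1 1273,
   .pq 3 2 283 1,
   .sylow 0 7 2 52]

theorem certs7_ok : checkFrom 2367 certs7 = true := by decide +kernel

/-- Certificates from 2549. -/
def certs8 : List Cert :=
  [.pq 2549 1 2549 0,
   .sylow 0 2 1 1275,
   .pq 2551 1 2551 0,
   .sylow 0 11 1 232,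
   .sylow 0 3 1 851,
   .pq 2 1 1277 1,
   .sylow 0 5 1 511,
   .sylow 71 3 2 284,
   .pq 2557 1 2557 0,
   .pq 2 1 1279 1,
   .pq 3 1 853 1,
   .pq 2 9 5 1,
   .pq 13 1 197 1,
   .sylow 0 2 1 1281,
   .pq 11 1 233 1,
   .pq 2 2 641 1,
   .sylow 19 3 3 95,
   .pq 2 1 1283 1,
   .pq 17 1 151 1,
   .sylow 0 107 1 24,
   .pq 7 1 367 1,
   .sylow 0 2 1 1285,
   .pq 3 1 857 1,
   .pq 2 2 643 1,
   .pq 31 1 83 1,
   .sylow 0 2 1 1287,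
   .pq 5 2 103 1,
   .sylow 0 23 1 112,
   .pq 3 1 859 1,
   .pq 2 1 1289 1,
   .pq 2579 1 2579 0,
   .sylow 0 43 1 60,
   .pq 29 1 89 1,
   .pq 2 1 1291 1,
   .sylow 0 3 2 287,
   .sylow 17 2 3 323,
   .sylow 0 5 1 517,
   .sylow 0 2 1 1293,
   .pq 13 1 199 1,
   .pq 2 2 647 1,
   .pq 3 1 863 1,
   .sylow 0 2 1 1295,
   .pq 2591 1 2591 0,
   .pq 2 5 3 4,
   .pq 2593 1 2593 0,
   .pq 2 1 1297 1,
   .sylow 0 3 1 865,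
   .sylow 0 11 1 236,
   .pq 7 2 53 1,
   .sylow 0 2 1 1299,
   .pq 23 1 113 1,
   .sylow 0 13 1 200,
   .pq 3 2 17 2,
   .pq 2 1 1301 1,
   .pq 19 1 137 1,
   .sylow 0 7 1 372,
   .pq 5 1 521 1,
   .pq 2 1 1303 1,
   .sylow 0 3 1 869,
   .pq 2 4 163 1,
   .pq 2609 1 2609 0,
   .sylow 0 2 1 1305,
   .pq 7 1 373 1,
   .pq 2 2 653 1,
   .sylow 0 3 1 871,
   .pq 2 1 1307 1,
   .pq 5 1 523 1,
   .sylow 109 2 3 327,
   .pq 2617 1 2617 0,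
   .sylow 0 2 1 1309,
   .pq 3 3 97 1,
   .sylow 131 2 2 655,
   .pq 2621 1 2621 0,
   .sylow 0 2 1 1311,
   .pq 43 1 61 1,
   .pq 2 6 41 1,
   .sylow 0 3 1 875,
   .sylow 0 2 1 1313,
   .pq 37 1 71 1,
   .sylow 73 3 2 292,
   .pq 11 1 239 1,
   .sylow 0 2 1 1315,
   .pq 3 1 877 1,
   .sylow 0 7 1 376,
   .pq 2633 1 2633 0,
   .sylow 0 2 1 1317,
   .sylow 0 5 1 527,
   .pq 2 2 659 1,
   .pq 3 2 293 1,
   .pq 2 1 1319 1,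
   .sylow 0 7 1 377,
   .sylow 11 11 1 240,
   .pq 19 1 139 1,
   .pq 2 1 1321 1,
   .pq 3 1 881 1,
   .pq 2 2 661 1,
   .pq 5 1 23 2,
   .sylow 0 2 1 1323,
   .pq 2647 1 2647 0,
   .pq 2 3 331 1,
   .pq 3 1 883 1,
   .sylow 0 2 1 1325,
   .pq 11 1 241 1,
   .sylow 0 13 1 204,
   .pq 7 1 379 1,
   .pq 2 1 1327 1,
   .sylow 0 3 2 295,
   .pq 2 5 83 1,
   .pq 2657 1 2657 0,
   .sylow 0 2 1 1329,
   .pq 2659 1 2659 0,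
   .sylow 0 19 1 140,
   .pq 3 1 887 1,
   .pq 2 1 11 3,
   .pq 2663 1 2663 0,
   .sylow 0 37 1 72,
   .sylow 0 5 1 533,
   .sylow 0 2 1 1333,
   .sylow 0 3 1 889,
   .sylow 29 2 2 667,
   .pq 17 1 157 1,
   .sylow 0 2 1 1335,
   .pq 2671 1 2671 0,
   .pq 2 4 167 1,
   .pq 3 5 11 1,
   .sylow 0 2 1 1337,
   .pq 5 2 107 1,
   .sylow 223 3 1 892,
   .pq 2677 1 2677 0,
   .sylow 0 2 1 1339,
   .sylow 0 3 1 893,
   .sylow 67 2 3 335,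
   .pq 7 1 383 1,
   .sylow 0 2 1 1341,
   .pq 2683 1 2683 0,
   .sylow 61 2 2 671,
   .sylow 0 3 1 895,
   .sylow 0 2 1 1343,
   .pq 2687 1 2687 0,
   .block 7 [3, 7],
   .pq 2689 1 2689 0,
   .sylow 0 2 1 1345,
   .sylow 0 3 2 299,
   .pq 2 2 673 1,
   .pq 2693 1 2693 0,
   .sylow 0 2 1 1347,
   .sylow 0 5 1 539,
   .pq 2 3 337 1,
   .sylow 0 3 1 899,
   .sylow 0 2 1 1349,
   .pq 2699 1 2699 0,
   .other,
   .pq 37 1 73 1,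
   .sylow 0 2 1 1351,
   .sylow 0 3 1 901,
   .pq 2 4 13 2,
   .pq 5 1 541 1,
   .sylow 0 2 1 1353,
   .pq 2707 1 2707 0,
   .pq 2 2 677 1,
   .sylow 43 3 2 301,
   .sylow 0 2 1 1355,
   .pq 2711 1 2711 0,
   .sylow 113 2 3 339,
   .pq 2713 1 2713 0,
   .sylow 0 2 1 1357,
   .sylow 0 3 1 905,
   .sylow 97 2 2 679,
   .sylow 0 11 1 247,
   .sylow 0 2 1 1359,
   .pq 2719 1 2719 0,
   .sylow 0 17 1 160,
   .pq 3 1 907 1,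
   .pq 2 1 1361 1,
   .pq 7 1 389 1,
   .sylow 0 227 1 12,
   .pq 5 2 109 1,
   .sylow 0 2 1 1363,
   .pq 3 3 101 1,
   .sylow 0 11 1 248,
   .pq 2729 1 2729 0,
   .sylow 0 2 1 1365]

theorem certs8_ok : checkFrom 2549 certs8 = true := by decide +kernel

/-- Certificates from 2731. -/
def certs9 : List Cert :=
  [.pq 2731 1 2731 0,
   .pq 2 2 683 1,
   .pq 3 1 911 1,
   .pq 2 1 1367 1,
   .pq 5 1 547 1,
   .sylow 0 19 1 144,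
   .sylow 0 7 1 391,
   .pq 2 1 37 2,
   .sylow 0 3 1 913,
   .sylow 0 5 1 548,
   .pq 2741 1 2741 0,
   .sylow 0 2 1 1371,
   .pq 13 1 211 1,
   .pq 2 3 7 3,
   .sylow 0 3 2 305,
   .pq 2 1 1373 1,
   .pq 41 1 67 1,
   .sylow 229 2 2 687,
   .pq 2749 1 2749 0,
   .sylow 0 2 1 1375,
   .sylow 0 3 1 917,
   .pq 2 6 43 1,
   .pq 2753 1 2753 0,
   .sylow 0 2 1 1377,
   .sylow 0 5 1 551,
   .sylow 53 13 1 212,
   .pq 3 1 919 1,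
   .sylow 0 2 1 1379,
   .pq 31 1 89 1,
   .sylow 0 23 1 120,
   .pq 11 1 251 1,
   .pq 2 1 1381 1,
   .pq 3 2 307 1,
   .pq 2 2 691 1,
   .sylow 0 5 1 553,
   .sylow 0 2 1 1383,
   .pq 2767 1 2767 0,
   .pq 2 4 173 1,
   .sylow 0 3 1 923,
   .sylow 0 2 1 1385,
   .pq 17 1 163 1,
   .sylow 0 11 1 252,
   .pq 47 1 59 1,
   .sylow 0 2 1 1387,
   .sylow 0 3 1 925,
   .pq 2 3 347 1,
   .pq 2777 1 2777 0,
   .sylow 0 2 1 1389,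
   .pq 7 1 397 1,
   .sylow 139 2 2 695,
   .pq 3 3 103 1,
   .sylow 0 2 1 1391,
   .pq 11 2 23 1,
   .sylow 29 2 5 87,
   .pq 5 1 557 1,
   .sylow 0 2 1 1393,
   .pq 3 1 929 1,
   .sylow 0 17 1 164,
   .pq 2789 1 2789 0,
   .sylow 0 2 1 1395,
   .pq 2791 1 2791 0,
   .pq 2 3 349 1,
   .sylow 0 3 1 931,
   .sylow 0 2 1 1397,
   .sylow 0 5 1 559,
   .sylow 233 2 2 699,
   .pq 2797 1 2797 0,
   .pq 2 1 1399 1,
   .pq 3 2 311 1,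
   .sylow 0 5 2 112,
   .pq 2801 1 2801 0,
   .sylow 0 2 1 1401,
   .pq 2803 1 2803 0,
   .pq 2 2 701 1,
   .sylow 0 3 1 935,
   .sylow 0 2 1 1403,
   .pq 7 1 401 1,
   .block 13 [13],
   .pq 53 2 53 0,
   .sylow 0 2 1 1405,
   .pq 3 1 937 1,
   .sylow 19 2 2 703,
   .pq 29 1 97 1,
   .sylow 0 2 1 1407,
   .pq 5 1 563 1,
   .pq 2 8 11 1,
   .pq 3 2 313 1,
   .pq 2 1 1409 1,
   .pq 2819 1 2819 0,
   .sylow 0 47 1 60,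
   .sylow 0 7 1 403,
   .sylow 0 2 1 1411,
   .pq 3 1 941 1,
   .pq 2 3 353 1,
   .pq 5 2 113 1,
   .sylow 0 2 1 1413,
   .pq 11 1 257 1,
   .sylow 101 2 2 707,
   .sylow 0 3 1 943,
   .sylow 0 2 1 1415,
   .pq 19 1 149 1,
   .sylow 0 59 1 48,
   .pq 2833 1 2833 0,
   .sylow 0 2 1 1417,
   .sylow 0 3 4 35,
   .pq 2 2 709 1,
   .pq 2837 1 2837 0,
   .sylow 0 2 1 1419,
   .pq 17 1 167 1,
   .sylow 71 2 3 355,
   .pq 3 1 947 1,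
   .sylow 0 2 1 1421,
   .pq 2843 1 2843 0,
   .sylow 0 79 1 36,
   .pq 5 1 569 1,
   .pq 2 1 1423 1,
   .sylow 0 3 1 949,
   .pq 2 5 89 1,
   .sylow 0 7 1 407,
   .sylow 0 2 1 1425,
   .pq 2851 1 2851 0,
   .sylow 0 23 1 124,
   .pq 3 2 317 1,
   .pq 2 1 1427 1,
   .pq 5 1 571 1,
   .sylow 0 17 1 168,
   .pq 2857 1 2857 0,
   .pq 2 1 1429 1,
   .pq 3 1 953 1,
   .sylow 0 11 1 260,
   .pq 2861 1 2861 0,
   .sylow 0 2 1 1431,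
   .pq 7 1 409 1,
   .pq 2 4 179 1,
   .sylow 0 3 1 955,
   .pq 2 1 1433 1,
   .pq 47 1 61 1,
   .sylow 0 239 1 12,
   .pq 19 1 151 1,
   .sylow 0 2 1 1435,
   .sylow 0 3 2 319,
   .pq 2 3 359 1,
   .pq 13 2 17 1,
   .sylow 0 2 1 1437,
   .pq 5 3 23 1,
   .pq 2 2 719 1,
   .sylow 0 3 1 959,
   .pq 2 1 1439 1,
   .pq 2879 1 2879 0,
   .block 5 [5],
   .pq 43 1 67 1,
   .sylow 0 2 1 1441,
   .pq 3 1 31 2,
   .sylow 0 7 1 412,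
   .pq 5 1 577 1,
   .sylow 0 2 1 1443,
   .pq 2887 1 2887 0,
   .pq 2 3 19 2,
   .pq 3 3 107 1,
   .sylow 0 2 1 1445,
   .pq 7 2 59 1,
   .sylow 241 2 2 723,
   .pq 11 1 263 1,
   .pq 2 1 1447 1,
   .sylow 0 3 1 965,
   .pq 2 4 181 1,
   .pq 2897 1 2897 0,
   .sylow 0 2 1 1449,
   .pq 13 1 223 1,
   .sylow 0 5 2 116,
   .pq 3 1 967 1,
   .pq 2 1 1451 1,
   .pq 2903 1 2903 0,
   .sylow 0 11 2 24,
   .sylow 0 5 1 581,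
   .pq 2 1 1453 1,
   .sylow 0 17 1 171,
   .pq 2 2 727 1,
   .pq 2909 1 2909 0,
   .sylow 0 2 1 1455,
   .pq 41 1 71 1,
   .sylow 7 2 5 91]

theorem certs9_ok : checkFrom 2731 certs9 = true := by decide +kernel

/-- Certificates from 2913. -/
def certs10 : List Cert :=
  [.pq 3 1 971 1,
   .sylow 0 2 1 1457,
   .sylow 0 5 1 583,
   .pq 2 2 3 6,
   .pq 2917 1 2917 0,
   .pq 2 1 1459 1,
   .sylow 0 3 1 973,
   .sylow 0 73 1 40,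
   .pq 23 1 127 1,
   .sylow 0 2 1 1461,
   .pq 37 1 79 1,
   .sylow 43 2 2 731,
   .sylow 0 5 2 117,
   .sylow 0 2 1 1463,
   .pq 2927 1 2927 0,
   .sylow 61 2 4 183,
   .pq 29 1 101 1,
   .sylow 0 2 1 1465,
   .pq 3 1 977 1,
   .pq 2 2 733 1,
   .pq 7 1 419 1,
   .sylow 0 2 1 1467,
   .pq 5 1 587 1,
   .pq 2 3 367 1,
   .sylow 0 3 1 979,
   .sylow 0 2 1 1469,
   .pq 2939 1 2939 0,
   .sylow 0 7 2 60,
   .pq 17 1 173 1,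
   .pq 2 1 1471 1,
   .pq 3 3 109 1,
   .pq 2 7 23 1,
   .sylow 0 5 1 589,
   .sylow 0 2 1 1473,
   .pq 7 1 421 1,
   .sylow 67 11 1 268,
   .pq 3 1 983 1,
   .sylow 0 2 1 1475,
   .pq 13 1 227 1,
   .sylow 0 41 1 72,
   .pq 2953 1 2953 0,
   .sylow 0 2 1 1477,
   .sylow 0 3 1 985,
   .pq 2 2 739 1,
   .pq 2957 1 2957 0,
   .sylow 0 2 1 1479,
   .pq 11 1 269 1,
   .sylow 0 37 1 80,
   .sylow 0 3 2 329,
   .pq 2 1 1481 1,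
   .pq 2963 1 2963 0,
   .sylow 0 13 1 228,
   .pq 5 1 593 1,
   .pq 2 1 1483 1,
   .sylow 0 3 1 989,
   .sylow 53 2 3 371,
   .pq 2969 1 2969 0,
   .sylow 0 2 1 1485,
   .pq 2971 1 2971 0,
   .pq 2 2 743 1,
   .pq 3 1 991 1,
   .pq 2 1 1487 1,
   .sylow 0 5 2 119,
   .block 31 [3, 31],
   .pq 13 1 229 1,
   .pq 2 1 1489 1,
   .pq 3 2 331 1,
   .sylow 0 5 1 596,
   .pq 11 1 271 1,
   .sylow 0 2 1 1491,
   .pq 19 1 157 1,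
   .pq 2 3 373 1,
   .sylow 0 3 1 995,
   .pq 2 1 1493 1,
   .pq 29 1 103 1,
   .sylow 83 3 2 332,
   .pq 7 2 61 1,
   .sylow 0 2 1 1495,
   .pq 3 1 997 1,
   .sylow 17 2 4 187,
   .pq 41 1 73 1,
   .sylow 0 2 1 1497,
   .pq 5 1 599 1,
   .sylow 0 7 1 428,
   .pq 3 4 37 1,
   .pq 2 1 1499 1,
   .pq 2999 1 2999 0,
   .sylow 0 5 3 24,
   .pq 3001 1 3001 0,
   .sylow 0 2 1 1501,
   .sylow 0 3 1 1001,
   .pq 2 2 751 1,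
   .pq 5 1 601 1,
   .sylow 0 2 1 1503,
   .pq 31 1 97 1,
   .pq 2 6 47 1,
   .sylow 0 3 1 1003,
   .sylow 0 2 1 1505,
   .pq 3011 1 3011 0,
   .sylow 0 251 1 12,
   .pq 23 1 131 1,
   .sylow 0 2 1 1507,
   .sylow 0 3 2 335,
   .sylow 0 13 1 232,
   .pq 7 1 431 1,
   .sylow 0 2 1 1509,
   .pq 3019 1 3019 0,
   .sylow 151 2 2 755,
   .sylow 0 3 1 1007,
   .pq 2 1 1511 1,
   .pq 3023 1 3023 0,
   .block 7 [7],
   .pq 5 2 11 2,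
   .sylow 0 2 1 1513,
   .pq 3 1 1009 1,
   .pq 2 2 757 1,
   .pq 13 1 233 1,
   .sylow 0 2 1 1515,
   .pq 7 1 433 1,
   .pq 2 3 379 1,
   .pq 3 2 337 1,
   .sylow 0 2 1 1517,
   .pq 5 1 607 1,
   .sylow 23 11 1 276,
   .pq 3037 1 3037 0,
   .sylow 0 2 1 1519,
   .pq 3 1 1013 1,
   .sylow 19 2 5 95,
   .pq 3041 1 3041 0,
   .sylow 0 2 1 1521,
   .pq 17 1 179 1,
   .pq 2 2 761 1,
   .sylow 0 3 1 1015,
   .pq 2 1 1523 1,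
   .pq 11 1 277 1,
   .sylow 0 127 1 24,
   .pq 3049 1 3049 0,
   .sylow 0 2 1 1525,
   .pq 3 3 113 1,
   .sylow 109 2 2 763,
   .pq 43 1 71 1,
   .sylow 0 2 1 1527,
   .sylow 0 5 1 611,
   .pq 2 4 191 1,
   .pq 3 1 1019 1,
   .sylow 0 2 1 1529,
   .sylow 0 7 1 437,
   .sylow 17 17 1 180,
   .pq 3061 1 3061 0,
   .pq 2 1 1531 1,
   .pq 3 1 1021 1,
   .pq 2 3 383 1,
   .pq 5 1 613 1,
   .sylow 0 2 1 1533,
   .pq 3067 1 3067 0,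
   .sylow 59 2 2 767,
   .sylow 0 3 2 341,
   .sylow 0 2 1 1535,
   .pq 37 1 83 1,
   .pq 2 10 3 1,
   .pq 7 1 439 1,
   .sylow 0 2 1 1537,
   .sylow 0 3 1 1025,
   .pq 2 2 769 1,
   .pq 17 1 181 1,
   .sylow 0 2 1 1539,
   .pq 3079 1 3079 0,
   .sylow 7 5 1 616,
   .sylow 0 3 1 1027,
   .sylow 0 2 1 1541,
   .pq 3083 1 3083 0,
   .sylow 257 2 2 771,
   .pq 5 1 617 1,
   .pq 2 1 1543 1,
   .pq 3 2 7 3,
   .pq 2 4 193 1,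
   .pq 3089 1 3089 0,
   .sylow 0 2 1 1545,
   .pq 11 1 281 1,
   .pq 2 2 773 1,
   .pq 3 1 1031 1,
   .sylow 0 2 1 1547]

theorem certs10_ok : checkFrom 2913 certs10 = true := by decide +kernel

/-- Certificates from 3095. -/
def certs11 : List Cert :=
  [.pq 5 1 619 1,
   .sylow 0 43 1 72,
   .pq 19 1 163 1,
   .pq 2 1 1549 1,
   .pq 3 1 1033 1,
   .sylow 0 5 2 124,
   .pq 7 1 443 1,
   .sylow 0 2 1 1551,
   .pq 29 1 107 1,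
   .pq 2 5 97 1,
   .sylow 0 3 3 115,
   .pq 2 1 1553 1,
   .pq 13 1 239 1,
   .sylow 0 37 1 84,
   .pq 3109 1 3109 0,
   .sylow 0 2 1 1555,
   .sylow 0 3 1 1037,
   .pq 2 3 389 1,
   .pq 11 1 283 1,
   .sylow 0 2 1 1557,
   .sylow 0 5 1 623,
   .sylow 41 2 2 779,
   .pq 3 1 1039 1,
   .pq 2 1 1559 1,
   .pq 3119 1 3119 0,
   .block 13 [3, 5, 13],
   .pq 3121 1 3121 0,
   .sylow 0 2 1 1561,
   .pq 3 2 347 1,
   .sylow 0 11 1 284,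
   .pq 5 5 5 0,
   .sylow 0 2 1 1563,
   .pq 53 1 59 1,
   .sylow 17 2 3 391,
   .sylow 0 3 1 1043,
   .sylow 0 2 1 1565,
   .pq 31 1 101 1,
   .sylow 29 3 3 116,
   .pq 13 1 241 1,
   .pq 2 1 1567 1,
   .sylow 0 3 1 1045,
   .pq 2 6 7 2,
   .pq 3137 1 3137 0,
   .sylow 0 2 1 1569,
   .pq 43 1 73 1,
   .sylow 0 5 1 628,
   .pq 3 2 349 1,
   .pq 2 1 1571 1,
   .pq 7 1 449 1,
   .sylow 0 131 1 24,
   .sylow 0 5 1 629,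
   .sylow 0 2 1 1573,
   .pq 3 1 1049 1,
   .pq 2 2 787 1,
   .pq 47 1 67 1,
   .sylow 0 2 1 1575,
   .pq 23 1 137 1,
   .pq 2 4 197 1,
   .pq 3 1 1051 1,
   .sylow 0 2 1 1577,
   .pq 5 1 631 1,
   .sylow 0 263 1 12,
   .sylow 0 7 1 451,
   .pq 2 1 1579 1,
   .pq 3 5 13 1,
   .sylow 79 2 3 395,
   .pq 29 1 109 1,
   .sylow 0 2 1 1581,
   .pq 3163 1 3163 0,
   .sylow 113 2 2 791,
   .sylow 0 3 1 1055,
   .pq 2 1 1583 1,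
   .pq 3167 1 3167 0,
   .block 11 [11],
   .pq 3169 1 3169 0,
   .sylow 0 2 1 1585,
   .sylow 0 3 1 1057,
   .sylow 0 13 1 244,
   .pq 19 1 167 1,
   .sylow 0 2 1 1587,
   .pq 5 2 127 1,
   .pq 2 3 397 1,
   .pq 3 2 353 1,
   .sylow 0 2 1 1589,
   .pq 11 1 17 2,
   .sylow 0 53 1 60,
   .pq 3181 1 3181 0,
   .sylow 0 2 1 1591,
   .pq 3 1 1061 1,
   .pq 2 4 199 1,
   .sylow 0 5 1 637,
   .sylow 0 2 1 1593,
   .pq 3187 1 3187 0,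
   .pq 2 2 797 1,
   .pq 3 1 1063 1,
   .sylow 0 2 1 1595,
   .pq 3191 1 3191 0,
   .sylow 0 19 1 168,
   .pq 31 1 103 1,
   .pq 2 1 1597 1,
   .sylow 0 3 2 355,
   .sylow 47 2 2 799,
   .pq 23 1 139 1,
   .sylow 0 2 1 1599,
   .pq 7 1 457 1,
   .pq 2 7 5 2,
   .sylow 0 3 1 1067,
   .pq 2 1 1601 1,
   .pq 3203 1 3203 0,
   .sylow 89 3 2 356,
   .pq 5 1 641 1,
   .sylow 0 2 1 1603,
   .pq 3 1 1069 1,
   .pq 2 3 401 1,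
   .pq 3209 1 3209 0,
   .sylow 0 2 1 1605,
   .pq 13 2 19 1,
   .sylow 73 2 2 803,
   .sylow 0 3 3 119,
   .pq 2 1 1607 1,
   .pq 5 1 643 1,
   .sylow 0 67 1 48,
   .pq 3217 1 3217 0,
   .pq 2 1 1609 1,
   .sylow 0 3 1 1073,
   .sylow 0 7 1 460,
   .pq 3221 1 3221 0,
   .sylow 0 2 1 1611,
   .pq 11 1 293 1,
   .sylow 31 2 3 403,
   .sylow 0 3 1 1075,
   .pq 2 1 1613 1,
   .pq 7 1 461 1,
   .sylow 269 2 2 807,
   .pq 3229 1 3229 0,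
   .sylow 0 2 1 1615,
   .pq 3 2 359 1,
   .pq 2 5 101 1,
   .pq 53 1 61 1,
   .sylow 0 2 1 1617,
   .pq 5 1 647 1,
   .pq 2 2 809 1,
   .sylow 0 3 1 1079,
   .pq 2 1 1619 1,
   .pq 41 1 79 1,
   .other,
   .pq 7 1 463 1,
   .pq 2 1 1621 1,
   .sylow 0 3 1 1081,
   .pq 2 2 811 1,
   .sylow 0 5 1 649,
   .sylow 0 2 1 1623,
   .pq 17 1 191 1,
   .sylow 29 2 4 203,
   .pq 3 2 19 2,
   .sylow 0 2 1 1625,
   .pq 3251 1 3251 0,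
   .sylow 271 3 1 1084,
   .pq 3253 1 3253 0,
   .pq 2 1 1627 1,
   .sylow 0 3 1 1085,
   .sylow 37 2 3 407,
   .pq 3257 1 3257 0,
   .sylow 0 2 1 1629,
   .pq 3259 1 3259 0,
   .sylow 163 2 2 815,
   .pq 3 1 1087 1,
   .sylow 0 2 1 1631,
   .pq 13 1 251 1,
   .sylow 17 2 6 51,
   .pq 5 1 653 1,
   .sylow 0 2 1 1633,
   .pq 3 3 11 2,
   .sylow 0 19 1 172,
   .pq 7 1 467 1,
   .sylow 0 2 1 1635,
   .pq 3271 1 3271 0,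
   .pq 2 3 409 1,
   .pq 3 1 1091 1,
   .pq 2 1 1637 1,
   .pq 5 2 131 1,
   .sylow 13 13 1 252]

theorem certs11_ok : checkFrom 3095 certs11 = true := by decide +kernel

/-- Certificates from 3277. -/
def certs12 : List Cert :=
  [.pq 29 1 113 1,
   .sylow 0 2 1 1639,
   .pq 3 1 1093 1,
   .sylow 41 5 1 656,
   .pq 17 1 193 1,
   .sylow 0 2 1 1641,
   .pq 7 2 67 1,
   .pq 2 2 821 1,
   .sylow 73 3 2 365,
   .sylow 0 2 1 1643,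
   .pq 19 1 173 1,
   .sylow 137 2 3 411,
   .sylow 0 11 1 299,
   .sylow 0 2 1 1645,
   .pq 3 1 1097 1,
   .pq 2 2 823 1,
   .pq 37 1 89 1,
   .sylow 0 2 1 1647,
   .pq 5 1 659 1,
   .pq 2 5 103 1,
   .sylow 0 3 1 1099,
   .sylow 0 2 1 1649,
   .pq 3299 1 3299 0,
   .sylow 11 11 1 300,
   .pq 3301 1 3301 0,
   .sylow 0 2 1 1651,
   .pq 3 2 367 1,
   .sylow 0 7 1 472,
   .pq 5 1 661 1,
   .sylow 0 2 1 1653,
   .pq 3307 1 3307 0,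
   .pq 2 2 827 1,
   .pq 3 1 1103 1,
   .sylow 0 2 1 1655,
   .sylow 0 7 1 473,
   .sylow 23 23 1 144,
   .pq 3313 1 3313 0,
   .pq 2 1 1657 1,
   .sylow 0 3 1 1105,
   .pq 2 2 829 1,
   .pq 31 1 107 1,
   .sylow 0 2 1 1659,
   .pq 3319 1 3319 0,
   .sylow 83 2 3 415,
   .pq 3 4 41 1,
   .sylow 0 2 1 1661,
   .pq 3323 1 3323 0,
   .sylow 277 2 2 831,
   .sylow 0 5 2 133,
   .pq 2 1 1663 1,
   .pq 3 1 1109 1,
   .pq 2 8 13 1,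
   .pq 3329 1 3329 0,
   .sylow 0 2 1 1665,
   .pq 3331 1 3331 0,
   .sylow 0 7 2 68,
   .sylow 0 3 1 1111,
   .pq 2 1 1667 1,
   .sylow 0 5 1 667,
   .sylow 0 139 1 24,
   .pq 47 1 71 1,
   .pq 2 1 1669 1,
   .sylow 0 3 2 371,
   .sylow 167 2 2 835,
   .pq 13 1 257 1,
   .sylow 0 2 1 1671,
   .pq 3343 1 3343 0,
   .sylow 0 11 1 304,
   .sylow 0 3 1 1115,
   .sylow 0 2 1 1673,
   .pq 3347 1 3347 0,
   .sylow 31 3 3 124,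
   .pq 17 1 197 1,
   .sylow 0 2 1 1675,
   .pq 3 1 1117 1,
   .pq 2 3 419 1,
   .pq 7 1 479 1,
   .sylow 0 2 1 1677,
   .sylow 0 5 1 671,
   .pq 2 2 839 1,
   .pq 3 2 373 1,
   .sylow 0 2 1 1679,
   .pq 3359 1 3359 0,
   .other,
   .pq 3361 1 3361 0,
   .pq 2 1 41 2,
   .sylow 0 3 1 1121,
   .pq 2 2 29 2,
   .pq 5 1 673 1,
   .sylow 0 2 1 1683,
   .sylow 0 7 1 481,
   .pq 2 3 421 1,
   .pq 3 1 1123 1,
   .sylow 0 2 1 1685,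
   .pq 3371 1 3371 0,
   .sylow 281 2 2 843,
   .pq 3373 1 3373 0,
   .sylow 0 2 1 1687,
   .pq 3 3 5 3,
   .pq 2 4 211 1,
   .pq 11 1 307 1,
   .sylow 0 2 1 1689,
   .pq 31 1 109 1,
   .sylow 0 13 2 20,
   .sylow 0 3 1 1127,
   .sylow 0 2 1 1691,
   .pq 17 1 199 1,
   .sylow 0 47 1 72,
   .pq 5 1 677 1,
   .pq 2 1 1693 1,
   .pq 3 1 1129 1,
   .sylow 0 11 2 28,
   .pq 3389 1 3389 0,
   .sylow 0 2 1 1695,
   .pq 3391 1 3391 0,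
   .pq 2 6 53 1,
   .sylow 0 3 2 377,
   .pq 2 1 1697 1,
   .sylow 0 5 1 679,
   .sylow 283 3 1 1132,
   .pq 43 1 79 1,
   .pq 2 1 1699 1,
   .sylow 0 3 1 1133,
   .sylow 0 5 2 136,
   .pq 19 1 179 1,
   .sylow 0 2 1 1701,
   .pq 41 1 83 1,
   .sylow 23 2 2 851,
   .sylow 0 3 1 1135,
   .sylow 0 2 1 1703,
   .pq 3407 1 3407 0,
   .sylow 0 71 1 48,
   .pq 7 1 487 1,
   .sylow 0 2 1 1705,
   .pq 3 2 379 1,
   .pq 2 2 853 1,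
   .pq 3413 1 3413 0,
   .sylow 0 2 1 1707,
   .pq 5 1 683 1,
   .sylow 61 2 3 427,
   .sylow 0 3 1 1139,
   .pq 2 1 1709 1,
   .pq 13 1 263 1,
   .other,
   .pq 11 1 311 1,
   .sylow 0 2 1 1711,
   .sylow 0 3 1 1141,
   .pq 2 5 107 1,
   .pq 5 2 137 1,
   .sylow 0 2 1 1713,
   .pq 23 1 149 1,
   .pq 2 2 857 1,
   .pq 3 3 127 1,
   .sylow 0 2 1 1715,
   .pq 47 1 73 1,
   .block 13 [3, 11, 13],
   .pq 3433 1 3433 0,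
   .sylow 0 2 1 1717,
   .sylow 0 3 1 1145,
   .pq 2 2 859 1,
   .pq 7 1 491 1,
   .sylow 0 2 1 1719,
   .pq 19 1 181 1,
   .sylow 43 2 4 215,
   .sylow 0 3 1 1147,
   .pq 2 1 1721 1,
   .pq 11 1 313 1,
   .block 41 [3, 7, 41],
   .sylow 0 5 1 689,
   .pq 2 1 1723 1,
   .pq 3 2 383 1,
   .pq 2 3 431 1,
   .pq 3449 1 3449 0,
   .sylow 0 2 1 1725,
   .sylow 0 7 1 493,
   .pq 2 2 863 1,
   .pq 3 1 1151 1,
   .sylow 0 2 1 1727,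
   .pq 5 1 691 1,
   .pq 2 7 3 3,
   .pq 3457 1 3457 0,
   .sylow 0 2 1 1729]

theorem certs12_ok : checkFrom 3277 certs12 = true := by decide +kernel

/-- Certificates from 3459. -/
def certs13 : List Cert :=
  [.pq 3 1 1153 1,
   .sylow 0 173 1 20,
   .pq 3461 1 3461 0,
   .sylow 0 2 1 1731,
   .pq 3463 1 3463 0,
   .pq 2 3 433 1,
   .sylow 0 5 1 693,
   .pq 2 1 1733 1,
   .pq 3467 1 3467 0,
   .sylow 0 17 2 12,
   .pq 3469 1 3469 0,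
   .sylow 0 2 1 1735,
   .sylow 0 3 1 1157,
   .sylow 0 7 1 496,
   .pq 23 1 151 1,
   .sylow 0 2 1 1737,
   .pq 5 2 139 1,
   .sylow 0 11 1 316,
   .sylow 0 3 1 1159,
   .sylow 0 2 1 1739,
   .pq 7 2 71 1,
   .sylow 29 29 1 120,
   .pq 59 2 59 0,
   .pq 2 1 1741 1,
   .pq 3 4 43 1,
   .sylow 67 2 2 871,
   .sylow 0 5 1 697,
   .sylow 0 2 1 1743,
   .pq 11 1 317 1,
   .pq 2 5 109 1,
   .pq 3 1 1163 1,
   .sylow 0 2 1 1745,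
   .pq 3491 1 3491 0,
   .sylow 0 97 1 36,
   .pq 7 1 499 1,
   .pq 2 1 1747 1,
   .sylow 0 3 1 1165,
   .sylow 0 19 1 184,
   .pq 13 1 269 1,
   .sylow 0 2 1 1749,
   .pq 3499 1 3499 0,
   .sylow 0 5 3 28,
   .pq 3 2 389 1,
   .sylow 0 2 1 1751,
   .pq 31 1 113 1,
   .sylow 73 2 4 219,
   .pq 5 1 701 1,
   .pq 2 1 1753 1,
   .sylow 0 3 1 1169,
   .pq 2 2 877 1,
   .pq 11 2 29 1,
   .sylow 0 2 1 1755,
   .pq 3511 1 3511 0,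
   .pq 2 3 439 1,
   .pq 3 1 1171 1,
   .sylow 0 2 1 1757,
   .sylow 0 5 1 703,
   .sylow 293 2 2 879,
   .pq 3517 1 3517 0,
   .pq 2 1 1759 1,
   .sylow 0 3 2 391,
   .sylow 0 11 1 320,
   .pq 7 1 503 1,
   .sylow 0 2 1 1761,
   .pq 13 1 271 1,
   .pq 2 2 881 1,
   .sylow 0 3 1 1175,
   .sylow 0 2 1 1763,
   .pq 3527 1 3527 0,
   .sylow 0 7 2 72,
   .pq 3529 1 3529 0,
   .sylow 0 2 1 1765,
   .sylow 0 3 1 1177,
   .pq 2 2 883 1,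
   .pq 3533 1 3533 0,
   .sylow 0 2 1 1767,
   .sylow 0 5 1 707,
   .sylow 0 13 1 272,
   .pq 3 3 131 1,
   .sylow 0 2 1 1769,
   .pq 3539 1 3539 0,
   .sylow 0 5 1 708,
   .pq 3541 1 3541 0,
   .sylow 0 2 1 1771,
   .pq 3 1 1181 1,
   .pq 2 3 443 1,
   .pq 5 1 709 1,
   .sylow 0 2 1 1773,
   .pq 3547 1 3547 0,
   .pq 2 2 887 1,
   .sylow 0 3 1 1183,
   .sylow 0 2 1 1775,
   .pq 53 1 67 1,
   .sylow 37 2 5 111,
   .sylow 0 11 1 323,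
   .pq 2 1 1777 1,
   .sylow 0 3 2 395,
   .sylow 127 7 1 508,
   .pq 3557 1 3557 0,
   .sylow 0 2 1 1779,
   .pq 3559 1 3559 0,
   .sylow 0 89 1 40,
   .pq 3 1 1187 1,
   .sylow 0 2 1 1781,
   .pq 7 1 509 1,
   .sylow 11 3 4 44,
   .sylow 0 5 1 713,
   .pq 2 1 1783 1,
   .sylow 0 3 1 1189,
   .pq 2 4 223 1,
   .pq 43 1 83 1,
   .sylow 0 2 1 1785,
   .pq 3571 1 3571 0,
   .sylow 0 19 1 188,
   .pq 3 2 397 1,
   .pq 2 1 1787 1,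
   .sylow 0 5 2 143,
   .sylow 149 2 3 447,
   .pq 7 2 73 1,
   .pq 2 1 1789 1,
   .pq 3 1 1193 1,
   .sylow 179 2 2 895,
   .pq 3581 1 3581 0,
   .sylow 0 2 1 1791,
   .pq 3583 1 3583 0,
   .pq 2 9 7 1,
   .sylow 0 3 1 1195,
   .sylow 0 2 1 1793,
   .pq 17 1 211 1,
   .sylow 0 23 1 156,
   .pq 37 1 97 1,
   .sylow 0 2 1 1795,
   .sylow 19 3 3 133,
   .pq 2 3 449 1,
   .pq 3593 1 3593 0,
   .sylow 0 2 1 1797,
   .pq 5 1 719 1,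
   .sylow 29 2 2 899,
   .sylow 0 3 1 1199,
   .sylow 0 2 1 1799,
   .pq 59 1 61 1,
   .other,
   .pq 13 1 277 1,
   .pq 2 1 1801 1,
   .pq 3 1 1201 1,
   .sylow 0 17 1 212,
   .sylow 0 5 1 721,
   .sylow 0 2 1 1803,
   .pq 3607 1 3607 0,
   .sylow 41 2 3 451,
   .pq 3 2 401 1,
   .sylow 0 2 1 1805,
   .pq 23 1 157 1,
   .sylow 43 7 1 516,
   .pq 3613 1 3613 0,
   .sylow 0 2 1 1807,
   .sylow 0 3 1 1205,
   .pq 2 5 113 1,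
   .pq 3617 1 3617 0,
   .sylow 0 2 1 1809,
   .sylow 0 7 1 517,
   .sylow 181 5 1 724,
   .sylow 0 3 1 1207,
   .pq 2 1 1811 1,
   .pq 3623 1 3623 0,
   .sylow 0 151 1 24,
   .pq 5 3 29 1,
   .sylow 0 2 1 1813,
   .sylow 31 3 2 403,
   .pq 2 2 907 1,
   .pq 19 1 191 1,
   .sylow 0 2 1 1815,
   .pq 3631 1 3631 0,
   .pq 2 4 227 1,
   .sylow 0 3 1 1211,
   .sylow 0 2 1 1817,
   .pq 5 1 727 1,
   .sylow 101 3 2 404,
   .pq 3637 1 3637 0,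
   .sylow 0 2 1 1819,
   .pq 3 1 1213 1,
   .sylow 13 13 1 280]

theorem certs13_ok : checkFrom 3459 certs13 = true := by decide +kernel

theorem exists_cert : ∀ (L : List Cert) (a : ℕ), checkFrom a L = true →
    ∀ n, a ≤ n → n < a + L.length → ∃ c, checkMid n c = true
  | [], a, _, n, h1, h2 => by simp at h2; omega
  | c :: cs, a, h, n, h1, h2 => by
    simp only [checkFrom, Bool.and_eq_true] at h
    rcases Nat.eq_or_lt_of_le h1 with rfl | h1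
    · exact ⟨c, h.1⟩
    · exact exists_cert cs (a + 1) h.2 n h1 (by simp at h2; omega)

theorem exists_cert_range {n : ℕ} (h1 : 1093 ≤ n) (h2 : n ≤ 3640) : ∃ c, checkMid n c = true := by
  rcases Nat.lt_or_ge n 1275 with h | hlo
  · exact exists_cert _ 1093 certs0_ok _ (by omega)
      (by rw [show certs0.length = 182 from rfl]; omega)
  rcases Nat.lt_or_ge n 1457 with h | hlo
  · exact exists_cert _ 1275 certs1_ok _ (by omega)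
      (by rw [show certs1.length = 182 from rfl]; omega)
  rcases Nat.lt_or_ge n 1639 with h | hlo
  · exact exists_cert _ 1457 certs2_ok _ (by omega)
      (by rw [show certs2.length = 182 from rfl]; omega)
  rcases Nat.lt_or_ge n 1821 with h | hlo
  · exact exists_cert _ 1639 certs3_ok _ (by omega)
      (by rw [show certs3.length = 182 from rfl]; omega)
  rcases Nat.lt_or_ge n 2003 with h | hlo
  · exact exists_cert _ 1821 certs4_ok _ (by omega)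
      (by rw [show certs4.length = 182 from rfl]; omega)
  rcases Nat.lt_or_ge n 2185 with h | hlo
  · exact exists_cert _ 2003 certs5_ok _ (by omega)
      (by rw [show certs5.length = 182 from rfl]; omega)
  rcases Nat.lt_or_ge n 2367 with h | hlo
  · exact exists_cert _ 2185 certs6_ok _ (by omega)
      (by rw [show certs6.length = 182 from rfl]; omega)
  rcases Nat.lt_or_ge n 2549 with h | hlo
  · exact exists_cert _ 2367 certs7_ok _ (by omega)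
      (by rw [show certs7.length = 182 from rfl]; omega)
  rcases Nat.lt_or_ge n 2731 with h | hlo
  · exact exists_cert _ 2549 certs8_ok _ (by omega)
      (by rw [show certs8.length = 182 from rfl]; omega)
  rcases Nat.lt_or_ge n 2913 with h | hlo
  · exact exists_cert _ 2731 certs9_ok _ (by omega)
      (by rw [show certs9.length = 182 from rfl]; omega)
  rcases Nat.lt_or_ge n 3095 with h | hlo
  · exact exists_cert _ 2913 certs10_ok _ (by omega)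
      (by rw [show certs10.length = 182 from rfl]; omega)
  rcases Nat.lt_or_ge n 3277 with h | hlo
  · exact exists_cert _ 3095 certs11_ok _ (by omega)
      (by rw [show certs11.length = 182 from rfl]; omega)
  rcases Nat.lt_or_ge n 3459 with h | hlo
  · exact exists_cert _ 3277 certs12_ok _ (by omega)
      (by rw [show certs12.length = 182 from rfl]; omega)
  exact exists_cert _ 3459 certs13_ok _ (by omega)
    (by rw [show certs13.length = 182 from rfl]; omega)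

universe u

theorem mem_special {G : Type u} [Group G] [Finite G] [IsSimpleGroup G] (hG : ¬ IsMulCommutative G)
    (h1 : 1093 ≤ Nat.card G) (h2 : Nat.card G ≤ 3640) : Nat.card G ∈ special := by
  obtain ⟨c, h⟩ := exists_cert_range h1 h2
  cases c with
  | other => exact List.contains_iff_mem.mp h
  | _ =>
    simp only [checkMid] at h
    have h' := CfsgLib.BrauerTuan.Range3640.mem_special hG h
    simp only [CfsgLib.BrauerTuan.Range3640.special, List.mem_cons, List.not_mem_nil, or_false] at h'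
    omega

end CfsgLib.SmallSimpleGraph.RangeMid
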