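import Cfsg.Agent.Lib.SmallSimpleGraph.Exclude
import Cfsg.Agent.Lib.Char.DegreeThreePrimes
import Cfsg.Agent.Lib.Char.Counting
import Cfsg.Agent.Lib.Char.Table
import Cfsg.Agent.Lib.M12Order.Degrees

/-!
# The orders 504 and 360
-/

set_option autoImplicit false
set_option linter.unusedSectionVars false
set_option linter.style.haveILetI false
set_option synthInstance.maxSize 2000

namespace CfsgLib.SmallSimpleGraph

open Cfsg CfsgLib
open scoped ComplexConjugate CfsgLib.Char

universe u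

variable {G : Type u} [Group G] [Finite G]

/-- With a Sylow `3`-subgroup of order nine in `H`, the kernel of the core has no element of order three. -/
theorem Core.false_of_three (c : Core G) {m : ℕ} (hH : Nat.card c.H = 3 ^ 2 * m) (hm : ¬ 3 ∣ m)
    (hM : Nat.card c.M = 3 ∨ Nat.card c.M = 6) : False := by
  haveI : Fact (Nat.Prime 3) := ⟨Nat.prime_three⟩
  haveI := c.hH
  haveI := c.hM
  set M' : Subgroup c.H := c.M.subgroupOf c.H with hM'
  have hc : Nat.card M' = Nat.card c.M := Nat.card_congr (Subgroup.subgroupOfEquivOfLe c.le).toEquiv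
  obtain ⟨k, hk, hk3, hk2⟩ : ∃ k, Nat.card M' = 3 ^ 1 * k ∧ ¬ 3 ∣ k ∧ k ≤ 2 := by
    rcases hM with e | e
    · exact ⟨1, by rw [hc, e]; norm_num, by norm_num, by norm_num⟩
    · exact ⟨2, by rw [hc, e]; norm_num, by norm_num, by norm_num⟩
  obtain ⟨a1, a2⟩ := card_sylow_facts (p := 3) (G := M') (a := 1) (m := k) hk hk3
  have hone : Nat.card (Sylow 3 M') = 1 := by
    have hk0 : 0 < k := Nat.pos_of_ne_zero fun h => hk3 (h ▸ dvd_zero 3)
    have := Nat.le_of_dvd hk0 a1
    omega
  haveI := (Nat.card_eq_one_iff_unique.mp hone).1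
  obtain ⟨S⟩ := (inferInstance : Nonempty (Sylow 3 M'))
  haveI : (S : Subgroup M').Characteristic := S.characteristic_of_subsingleton
  set Y : Subgroup c.H := (S : Subgroup M').map M'.subtype with hY
  haveI : Y.Normal := ConjAct.normal_of_characteristic_of_normal
  have hYc : Nat.card Y = 3 := by
    rw [hY, Subgroup.card_map_of_injective M'.subtype_injective, card_sylow_group (a := 1) hk hk3 S, pow_one]
  haveI : IsCyclic Y := isCyclic_of_prime_card hYc
  obtain ⟨R, hR⟩ := (IsPGroup.of_card (p := 3) (n := 1) (by rw [hYc, pow_one] : Nat.card Y = 3 ^ 1)).exists_le_sylow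
  have hRc := card_sylow_group hH hm R
  obtain ⟨x, hx, hx1⟩ := (Subgroup.bot_or_exists_ne_one Y).resolve_left fun h => by
    rw [h, Subgroup.card_bot] at hYc
    omega
  exact hx1 (eq_one_of_central c.hperf R (fun a ha b hb => comm_of_card_sq _ hRc ha hb) (hR hx)
    (le_center_of_cyclic c.hperf _ hx))

/-- A core without kernel is simple. -/
theorem Core.isSimple_H (c : Core G) (hM : Nat.card c.M = 1) :
    IsSimpleGroup c.H ∧ ¬ IsMulCommutative c.H ∧ Nat.card c.H = c.t := by
  haveI := c.hH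
  haveI := c.hM
  haveI := c.simple
  have hbot : c.M.subgroupOf c.H = ⊥ := by rw [Subgroup.card_eq_one.mp hM, Subgroup.bot_subgroupOf]
  let e : c.H ≃* c.H ⧸ c.M.subgroupOf c.H :=
    (QuotientGroup.quotientBot (G := c.H)).symm.trans (QuotientGroup.quotientMulEquivOfEq hbot.symm)
  haveI : Nontrivial c.H := e.toEquiv.nontrivial
  refine ⟨IsSimpleGroup.isSimpleGroup_of_surjective e.symm.toMonoidHom e.symm.surjective, fun h => c.noncomm ?_,
    by rw [c.card_H, hM, mul_one]⟩
  exact ⟨⟨fun a b => e.symm.injective (by rw [map_mul, map_mul]; exact h.is_comm.comm _ _)⟩⟩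

/-- The three prime divisors of `|S|` are degree primes of a simple `S`. -/
theorem mem_degreePrimes_of_three {S : Type u} [Group S] [Finite S] [IsSimpleGroup S]
    (hS : ¬ IsMulCommutative S) (hc : (Nat.card S).primeFactors.card ≤ 3) {r : ℕ} (hr : r.Prime)
    (hrd : r ∣ Nat.card S) : r ∈ Cfsg.degreePrimes S := by
  have hna : Subgroup.center S = ⊥ := by
    rcases (inferInstance : (Subgroup.center S).Normal).eq_bot_or_eq_top with h | h
    · exact h
    · exact absurd ⟨⟨fun a b => (Subgroup.mem_center_iff.mp (h ▸ Subgroup.mem_top b)) a⟩⟩ hS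
  obtain ⟨p, q, s, hpq, hqs, hps, hall⟩ := Char.ThreePrimes.simple_three hna
  have key : ∀ t ∈ ({p, q, s} : Set ℕ), t ∈ Cfsg.degreePrimes S ∧ t ∈ (Nat.card S).primeFactors := by
    intro t ht
    obtain ⟨htp, χ, d, hd, htd⟩ := hall t ht
    have he : charDegree (χ : S → ℂ) = d := Char.Extraspecial.charDegree_eq hd
    refine ⟨⟨htp, d, ⟨χ, he⟩, htd⟩, Nat.mem_primeFactors.mpr ⟨htp, ?_, Nat.card_pos.ne'⟩⟩
    exact htd.trans (he ▸ BrauerReynolds.degree_dvd χ)
  have hsub : ({p, q, s} : Finset ℕ) ⊆ (Nat.card S).primeFactors := by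
    intro t ht
    simp only [Finset.mem_insert, Finset.mem_singleton] at ht
    exact (key t (by rcases ht with rfl | rfl | rfl <;> simp)).2
  have heq := Finset.eq_of_subset_of_card_le hsub (by rw [Finset.card_eq_three.mpr ⟨p, q, s, hpq, hps, hqs, rfl⟩]; exact hc)
  have hr' : r ∈ ({p, q, s} : Finset ℕ) := heq ▸ Nat.mem_primeFactors.mpr ⟨hr, hrd, Nat.card_pos.ne'⟩
  simp only [Finset.mem_insert, Finset.mem_singleton] at hr'
  exact (key r (by rcases hr' with rfl | rfl | rfl <;> simp)).1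

/-- In order 504 the kernel of the core is trivial. -/
theorem Core.card_M_of_504 (c : Core G) (hn : Nat.card G = 504) (ht : c.t = 168) : Nat.card c.M = 1 := by
  have hHd : Nat.card c.H ∣ 504 := hn ▸ Subgroup.card_subgroup_dvd_card c.H
  rw [c.card_H, ht] at hHd
  have h3 : Nat.card c.M ∣ 3 :=
    Nat.dvd_of_mul_dvd_mul_left (by norm_num) (show 168 * Nat.card c.M ∣ 168 * 3 from hHd)
  rcases (Nat.dvd_prime Nat.prime_three).mp h3 with e | e
  · exact e
  · exact (c.false_of_three (m := 56) (by rw [c.card_H, ht, e]; norm_num) (by norm_num) (Or.inl e)).elim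

/-- An element commuting with a Sylow `5`-subgroup of a normal simple subgroup of order 60 and of order
prime to `5` centralises that subgroup. -/
theorem mem_centralizer_of_commute_five (H : Subgroup G) [H.Normal] [IsSimpleGroup H]
    (hH : Nat.card H = 60) (hG5 : ∀ S : Sylow 5 G, (S : Subgroup G) ≤ H) [Fact (Nat.Prime 5)]
    {z : G} {r : ℕ} [Fact r.Prime] (hr5 : r ≠ 5) (hz : orderOf z = r) (P : Sylow 5 G)
    (hzP : z ∈ Subgroup.centralizer ((P : Subgroup G) : Set G)) :
    z ∈ Subgroup.centralizer (H : Set G) := by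
  have hP5 : Nat.card (P : Subgroup G) = 5 := by
    have h1 : Nat.card (P : Subgroup G) ∣ 60 := hH ▸ Subgroup.card_dvd_of_le (hG5 P)
    have hn : Nat.card ((P.subtype (hG5 P) : Sylow 5 H) : Subgroup H) = 5 := by
      rw [card_sylow_group (a := 1) (m := 12) (by rw [hH]; norm_num) (by norm_num) (P.subtype (hG5 P)), pow_one]
    erw [Nat.card_congr (Subgroup.subgroupOfEquivOfLe (hG5 P)).toEquiv] at hn
    exact hn
  have hsix : Nat.card (Sylow 5 G) = 6 := by
    have h1 : Nat.card (Sylow 5 G) ≤ Nat.card (Sylow 5 H) := card_sylow_le_of_forall_le hG5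
    obtain ⟨a1, a2⟩ := card_sylow_facts (p := 5) (G := H) (a := 1) (m := 12) (by rw [hH]; norm_num) (by norm_num)
    have h12 := Nat.le_of_dvd (by norm_num) a1
    have hb : Nat.card (Sylow 5 G) % 5 = 1 % 5 := card_sylow_modEq_one 5 G
    have hne : Nat.card (Sylow 5 G) ≠ 1 := by
      intro h
      haveI := (Nat.card_eq_one_iff_unique.mp h).1
      haveI : (P : Subgroup G).Normal := Sylow.normal_of_subsingleton P
      rcases (inferInstance : ((P : Subgroup G).subgroupOf H).Normal).eq_bot_or_eq_top with e | e <;>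
        have e' := congrArg (fun K : Subgroup H => Nat.card K) e <;>
        simp only [Nat.card_congr (Subgroup.subgroupOfEquivOfLe (hG5 P)).toEquiv, Subgroup.card_bot,
          Subgroup.card_top, hH, hP5] at e' <;> omega
    have hpos : 0 < Nat.card (Sylow 5 G) := Nat.card_pos
    generalize Nat.card (Sylow 5 G) = t, Nat.card (Sylow 5 H) = t' at h1 a1 a2 h12 hb hne hpos
    interval_cases t' <;> omega
  -- `z` fixes every Sylow 5-subgroup
  have hfix : ∀ Q : Sylow 5 G, z • Q = Q := by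
    set Z := Subgroup.zpowers z
    have hZ : IsPGroup r Z := IsPGroup.of_card (n := 1) (by rw [Nat.card_zpowers, hz, pow_one])
    set F : Set (Sylow 5 G) := {Q | z • Q = Q} with hF
    have hPF : P ∈ F := Sylow.smul_eq_iff_mem_normalizer.mpr (Subgroup.centralizer_le_normalizer _ hzP)
    have hFeq : MulAction.fixedPoints Z (Sylow 5 G) = F := by
      ext Q
      refine ⟨fun h => h ⟨z, Subgroup.mem_zpowers z⟩, fun h g => ?_⟩
      exact MulAction.mem_stabilizer_iff.mp (Subgroup.zpowers_le.mpr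
        (show z ∈ MulAction.stabilizer G Q from h) g.2)
    have hmod : Nat.card (Sylow 5 G) ≡ Nat.card F [MOD r] := hFeq ▸ hZ.card_modEq_card_fixedPoints _
    -- `F` is stable under `P`
    letI : MulAction (P : Subgroup G) F :=
      { smul := fun g Q => ⟨(g : G) • (Q : Sylow 5 G), by
          show z • (g : G) • (Q : Sylow 5 G) = (g : G) • (Q : Sylow 5 G)
          rw [smul_smul, ← Subgroup.mem_centralizer_iff.mp hzP g g.2, ← smul_smul, (Q.2 : z • (Q : Sylow 5 G) = Q)]⟩
        one_smul := fun Q => Subtype.ext (one_smul G (Q : Sylow 5 G))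
        mul_smul := fun g g' Q => Subtype.ext (mul_smul (g : G) g' (Q : Sylow 5 G)) }
    have hone : Nat.card (MulAction.fixedPoints (P : Subgroup G) F) = 1 := by
      rw [Nat.card_eq_one_iff_unique]
      refine ⟨⟨fun a b => ?_⟩, ⟨⟨⟨P, hPF⟩, fun g => Subtype.ext ?_⟩⟩⟩
      · have key : ∀ Q : MulAction.fixedPoints (P : Subgroup G) F, ((Q : F) : Sylow 5 G) = P := by
          intro Q
          have hle : (P : Subgroup G) ≤ Subgroup.normalizer (((Q : F) : Sylow 5 G) : Set G) := fun g hg =>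
            Sylow.smul_eq_iff_mem_normalizer.mp (congrArg Subtype.val (Q.2 ⟨g, hg⟩))
          have hsup := P.isPGroup'.to_sup_of_normal_right' ((Q : F) : Sylow 5 G).isPGroup' hle
          exact Sylow.ext ((((Q : F) : Sylow 5 G).is_maximal' hsup le_sup_right).symm.trans
            (P.is_maximal' hsup le_sup_left))
        exact Subtype.ext (Subtype.ext ((key a).trans (key b).symm))
      · exact Sylow.smul_eq_iff_mem_normalizer.mpr (Subgroup.le_normalizer g.2)
    have h5 := P.isPGroup'.card_modEq_card_fixedPoints F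
    rw [hone] at h5
    have hle : Nat.card F ≤ 6 := hsix ▸ Nat.card_le_card_of_injective _ Subtype.val_injective
    rw [hsix] at hmod
    have hr2 := (Fact.out : r.Prime).two_le
    have h6 : Nat.card F = 6 := by
      rw [Nat.ModEq] at h5 hmod
      rcases (show Nat.card F = 1 ∨ Nat.card F = 6 by omega) with h | h
      · exfalso
        rw [h] at hmod
        have hd : r ∣ 5 := Nat.modEq_iff_dvd' (show 1 ≤ 6 by norm_num) |>.mp hmod.symm
        exact hr5 ((Nat.prime_dvd_prime_iff_eq (Fact.out : r.Prime) (by norm_num)).mp hd)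
      · exact h
    intro Q
    have hbij : Function.Bijective (Subtype.val : F → Sylow 5 G) :=
      Nat.bijective_iff_injective_and_card _ |>.mpr ⟨Subtype.val_injective, by rw [h6, hsix]⟩
    obtain ⟨⟨Q', hQ'⟩, rfl⟩ := hbij.2 Q
    exact hQ'
  refine Subgroup.mem_centralizer_iff.mpr fun h hh => ?_
  -- the commutator fixes every Sylow 5-subgroup of `H`
  set w : G := z * h * z⁻¹ * h⁻¹ with hw
  have hwH : w ∈ H := H.mul_mem ((inferInstance : H.Normal).conj_mem h hh z) (H.inv_mem hh)
  set K : Subgroup G := ⨅ Q : Sylow 5 G, Subgroup.normalizer ((Q : Subgroup G) : Set G) with hK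
  have hwK : w ∈ K := by
    refine Subgroup.mem_iInf.mpr fun Q => Sylow.smul_eq_iff_mem_normalizer.mp ?_
    have hzi : z⁻¹ • (h⁻¹ • Q) = h⁻¹ • Q := inv_smul_eq_iff.mpr (hfix _).symm
    rw [hw, mul_smul, mul_smul, mul_smul, hzi, smul_inv_smul, hfix]
  haveI hKn : (K.subgroupOf H).Normal := by
    refine ⟨fun a ha g => ?_⟩
    rw [Subgroup.mem_subgroupOf, Subgroup.mem_iInf] at ha ⊢
    intro Q
    refine Sylow.smul_eq_iff_mem_normalizer.mp ?_
    rw [Subgroup.coe_mul, Subgroup.coe_mul, Subgroup.coe_inv, mul_smul, mul_smul,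
      Sylow.smul_eq_iff_mem_normalizer.mpr (ha ((g : G)⁻¹ • Q)), smul_inv_smul]
  have hwbot : (⟨w, hwH⟩ : H) ∈ K.subgroupOf H := Subgroup.mem_subgroupOf.mpr hwK
  rcases hKn.eq_bot_or_eq_top with e | e
  · rw [e, Subgroup.mem_bot] at hwbot
    have : w = 1 := congrArg Subtype.val hwbot
    rw [hw, mul_inv_eq_one, mul_inv_eq_iff_eq_mul] at this
    exact this.symm
  · exfalso
    have hle : H ≤ Subgroup.normalizer ((P : Subgroup G) : Set G) := fun x hx =>
      Subgroup.mem_iInf.mp (Subgroup.mem_subgroupOf.mp (show (⟨x, hx⟩ : H) ∈ K.subgroupOf H by rw [e]; trivial)) P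
    haveI : ((P : Subgroup G).subgroupOf H).Normal :=
      Subgroup.normal_subgroupOf_of_le_normalizer hle
    rcases (inferInstance : ((P : Subgroup G).subgroupOf H).Normal).eq_bot_or_eq_top with e' | e' <;>
      have e'' := congrArg (fun K : Subgroup H => Nat.card K) e' <;>
      simp only [Nat.card_congr (Subgroup.subgroupOfEquivOfLe (hG5 P)).toEquiv, Subgroup.card_bot,
        Subgroup.card_top, hH, hP5] at e'' <;> omega

theorem options_six : ∀ d < 11, 120 % d = 0 → ¬ 6 ∣ d → d % 5 ≠ 0 → d ≠ 1 → d = 2 ∨ d = 3 ∨ d = 4 ∨ d = 8 := by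
  decide +kernel

/-- No group of order 120 with self-centralising Sylow `5`-subgroup, normaliser of order 20 and a perfect
subgroup of index two avoids the degree 6. -/
theorem false_of_order_120 {Q : Type u} [Group Q] [Finite Q] (hn : Nat.card Q = 120) {v : Q}
    (hv : orderOf v = 5) (hC : Nat.card (Subgroup.centralizer ({v} : Set Q)) = 5)
    (hN : Nat.card (Subgroup.normalizer (Subgroup.zpowers v : Set Q)) = 20)
    (hcomm : (commutator Q).index ≤ 2) (h6 : ∀ χ : IrrCharacter Q, ¬ 6 ∣ charDegree (χ : Q → ℂ)) : False := by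
  classical
  letI : Fintype Q := Fintype.ofFinite Q
  choose a ha using fun χ : IrrCharacter Q => M12Order.rational_of_five hv (by rw [hN, hC]) χ
  have hall : ∀ χ : IrrCharacter Q, ∀ i : Fin 5, (i : ℕ) ≠ 0 → (χ : Q → ℂ) (v ^ (i : ℕ)) = a χ := by
    intro χ i hi
    have hfix := (Char.rat_value_iff (Char.isCharacter_of_isIrr χ.2) v).mp ⟨(a χ : ℚ), by rw [ha]; simp⟩
    have hk : ∀ k : ℕ, k.Coprime 120 → (χ : Q → ℂ) (v ^ (k % 5)) = a χ := fun k hk => by
      rw [← hv, pow_mod_orderOf, hfix k (by rwa [hn]), ha]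
    fin_cases i
    · exact absurd rfl hi
    · exact hk 1 (by norm_num)
    · exact hk 7 (by norm_num)
    · exact hk 13 (by norm_num)
    · exact hk 19 (by norm_num)
  set f : IrrCharacter Q → ℕ := fun χ => charDegree (χ : Q → ℂ) with hf
  have hd : ∀ χ, f χ ∣ 120 ∧ f χ < 11 ∧ 0 < f χ := fun χ => by
    have h1 := BrauerReynolds.degree_dvd χ
    rw [hn] at h1
    refine ⟨h1, ?_, Nat.pos_of_dvd_of_pos h1 (by norm_num)⟩
    have h := Char.sum_sq_degree (G := Q)
    simp only [BrauerReynolds.value_one, ← Nat.cast_pow, ← Nat.cast_sum, Nat.cast_inj, hn] at h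
    have h2 : f χ ^ 2 ≤ 120 := h ▸ Finset.single_le_sum (f := fun χ : IrrCharacter Q => f χ ^ 2)
      (fun _ _ => Nat.zero_le _) (Finset.mem_univ χ)
    by_contra hlt
    have := Nat.pow_le_pow_left (Nat.le_of_not_lt hlt) 2
    omega
  have hsq : ∑ χ : IrrCharacter Q, a χ * a χ = 5 := by
    have h := Char.column_orthogonality v v
    rw [if_pos (IsConj.refl v), hC] at h
    have : ((∑ χ : IrrCharacter Q, a χ * a χ : ℤ) : ℂ) = ((5 : ℤ) : ℂ) := by
      push_cast
      refine Eq.trans ?_ h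
      exact Finset.sum_congr rfl fun χ _ => by rw [ha]; simp
    exact_mod_cast this
  have hdot : ∑ χ : IrrCharacter Q, (f χ : ℤ) * a χ = 0 := by
    have hv1 : v ≠ 1 := fun e => by rw [e, orderOf_one] at hv; omega
    have h := Char.sum_degree_mul_irr v
    rw [if_neg hv1] at h
    have : ((∑ χ : IrrCharacter Q, (f χ : ℤ) * a χ : ℤ) : ℂ) = ((0 : ℤ) : ℂ) := by
      push_cast
      refine Eq.trans ?_ h
      exact Finset.sum_congr rfl fun χ _ => by rw [ha, BrauerReynolds.value_one]
    exact_mod_cast this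
  have hle : ∀ χ, a χ * a χ ≤ 5 := fun χ =>
    hsq ▸ Finset.single_le_sum (f := fun χ => a χ * a χ) (fun χ _ => mul_self_nonneg (a χ)) (Finset.mem_univ χ)
  have hlin : (Finset.univ.filter fun χ : IrrCharacter Q => f χ = 1).card ≤ 2 := by
    refine le_trans (le_of_eq ?_) hcomm
    rw [← Char.card_linear, Nat.card_eq_fintype_card, Fintype.card_subtype]
    congr 1
    ext χ
    simp only [Finset.mem_filter, Finset.mem_univ, true_and, hf, BrauerReynolds.value_one, Nat.cast_eq_one]
  have hlin1 : ∀ χ, f χ = 1 → a χ = 1 := by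
    intro χ hχ
    have h5 := M12Order.five_congr hv (ha χ) (hall χ)
    rw [show charDegree (χ : Q → ℂ) = 1 from hχ] at h5
    have := hle χ
    have : -2 ≤ a χ ∧ a χ ≤ 2 := by constructor <;> nlinarith
    omega
  have hcase : ∀ χ, (a χ * a χ = 1 ∧ (f χ : ℤ) * a χ = 1 ∧ f χ = 1) ∨ (a χ * a χ = 1 ∧ (f χ : ℤ) * a χ = -4 ∧ f χ ≠ 1) ∨
      (a χ * a χ = 4 ∧ (f χ : ℤ) * a χ = 4 ∧ f χ ≠ 1) ∨ (a χ * a χ = 4 ∧ (f χ : ℤ) * a χ = -6 ∧ f χ ≠ 1) ∨
      (a χ * a χ = 4 ∧ (f χ : ℤ) * a χ = -16 ∧ f χ ≠ 1) ∨ (a χ * a χ = 0 ∧ (f χ : ℤ) * a χ = 0 ∧ f χ ≠ 1) := by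
    intro χ
    by_cases h1 : f χ = 1
    · left; rw [hlin1 χ h1, h1]; norm_num
    have h5 := M12Order.five_congr hv (ha χ) (hall χ)
    change (5 : ℤ) ∣ (f χ : ℤ) - a χ at h5
    have := hle χ
    have hb : -2 ≤ a χ ∧ a χ ≤ 2 := by constructor <;> nlinarith
    by_cases h50 : f χ % 5 = 0
    · have : a χ = 0 := by omega
      simp [this, h1]
    obtain ⟨hd1, hd2, hd3⟩ := hd χ
    rcases options_six _ hd2 (Nat.mod_eq_zero_of_dvd hd1) (h6 χ) h50 h1 with e | e | e | e <;>
      rw [e] at h5 ⊢ <;> simp only [Nat.cast_ofNat] at h5 ⊢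
    · have : a χ = 2 := by omega
      rw [this]; norm_num
    · have : a χ = -2 := by omega
      rw [this]; norm_num
    · have : a χ = -1 := by omega
      rw [this]; norm_num
    · have : a χ = -2 := by omega
      rw [this]; norm_num
  -- counting
  set n1 := (Finset.univ.filter fun χ : IrrCharacter Q => f χ = 1).card with hn1
  set n2 := (Finset.univ.filter fun χ : IrrCharacter Q => (f χ : ℤ) * a χ = -4).card with hn2
  set n3 := (Finset.univ.filter fun χ : IrrCharacter Q => (f χ : ℤ) * a χ = 4).card with hn3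
  set n4 := (Finset.univ.filter fun χ : IrrCharacter Q => (f χ : ℤ) * a χ = -6).card with hn4
  set n5 := (Finset.univ.filter fun χ : IrrCharacter Q => (f χ : ℤ) * a χ = -16).card with hn5
  have h1pos : 0 < n1 := Finset.card_pos.mpr ⟨⟨fun _ => 1, Char.isIrrCharacter_one⟩, by
    simp only [Finset.mem_filter, Finset.mem_univ, true_and, hf]
    exact Char.Extraspecial.charDegree_eq (d := 1) (by rw [Nat.cast_one])⟩
  have e1 : (n1 : ℤ) + n2 + 4 * n3 + 4 * n4 + 4 * n5 = 5 := by
    rw [hn1, hn2, hn3, hn4, hn5, ← hsq]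
    simp only [Finset.card_filter, Nat.cast_sum, Finset.mul_sum, ← Finset.sum_add_distrib]
    refine Finset.sum_congr rfl fun χ _ => ?_
    rcases hcase χ with ⟨h, h', h''⟩ | ⟨h, h', h''⟩ | ⟨h, h', h''⟩ | ⟨h, h', h''⟩ | ⟨h, h', h''⟩ | ⟨h, h', h''⟩ <;>
      rw [h, h'] <;> simp [h'']
  have e2 : (n1 : ℤ) + (-4) * n2 + 4 * n3 + (-6) * n4 + (-16) * n5 = 0 := by
    rw [hn1, hn2, hn3, hn4, hn5, ← hdot]
    simp only [Finset.card_filter, Nat.cast_sum, Finset.mul_sum, ← Finset.sum_add_distrib]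
    refine Finset.sum_congr rfl fun χ _ => ?_
    rcases hcase χ with ⟨h, h', h''⟩ | ⟨h, h', h''⟩ | ⟨h, h', h''⟩ | ⟨h, h', h''⟩ | ⟨h, h', h''⟩ | ⟨h, h', h''⟩ <;>
      rw [h'] <;> simp [h'']
  omega

end CfsgLib.SmallSimpleGraph
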